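import Cfsg.Agent.Lib.RuPerm.Code16Defs

/-! Checks on the words of weight 16. -/

set_option autoImplicit false
set_option Elab.async false

namespace CfsgLib.RuPerm

open CfsgLib.SporRecognition.CosetCert

theorem wordChk_ok : allBelow 11 1701 wordChk = true := by decide +kernel

theorem basisPack_ok : Data.basisPack =
    (List.finRange 40).map fun k : Fin 40 => packN 56 (resN k.1) := by decide +kernel

theorem octStep_ok : allTo 7 (fun i => allTo 56 fun a => allTo 56 fun b => octStep i a b) = true := by
  decide +kernel

theorem pairStep_ok : allTo 56 (fun a => allTo 56 fun b => pairStep a b) = true := by decide +kernel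

theorem pairSort_ok : allBelow 11 1539 pairSortStep = true := by decide +kernel

theorem parityCol_ok : ∀ a : Fin 56, ∀ k : Fin 40,
    (colOf a.1).testBit k.1 = decide (resN k.1 a.1 % 2 = 1) := by
  decide +kernel

theorem colOf_lt : ∀ a : Fin 56, colOf a.1 < 2 ^ 40 := by decide +kernel

end CfsgLib.RuPerm
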