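import Cfsg.Agent.Lib.RuPerm.Code16Defs

/-! Checks on the candidates. -/

set_option autoImplicit false
set_option Elab.async false

namespace CfsgLib.RuPerm

open CfsgLib.SporRecognition.CosetCert

theorem candsChk_c0 : allPow 1701 candsChk 9 0 = true := by decide +kernel

theorem candsChk_c1 : allPow 1701 candsChk 9 512 = true := by decide +kernel

theorem candsChk_c2 : allPow 1701 candsChk 9 1024 = true := by decide +kernel

theorem candsChk_c3 : allPow 1701 candsChk 9 1536 = true := by decide +kernel

theorem candsChk_ok : allBelow 11 1701 candsChk = true :=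
  allBelow_of_upto (hi := 2048) (Upto.trans ((Upto.of_pow candsChk_c0 (Nat.le_refl _)) : Upto _ _ 0 512)
    (Upto.trans ((Upto.of_pow candsChk_c1 (Nat.le_refl _)) : Upto _ _ 512 1024)
    (Upto.trans ((Upto.of_pow candsChk_c2 (Nat.le_refl _)) : Upto _ _ 1024 1536)
    ((Upto.of_pow candsChk_c3 (Nat.le_refl _)) : Upto _ _ 1536 2048)))) (by decide) (by decide)

end CfsgLib.RuPerm
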