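import Cfsg.Agent.Lib.RuPerm.Code16Defs

/-! Checks on the information sets. -/

set_option autoImplicit false
set_option Elab.async false

namespace CfsgLib.RuPerm

/-- An information set with rows as natural numbers. -/
def natInfo (l : List (Fin 56 × ℕ)) : List (ℕ × ℕ) := l.map fun e => (e.1.1, e.2)

/-- The third information set. -/
def infoC : List (Fin 56 × ℕ) :=
  Data.infoC.map fun e => (⟨e.1 % 56, Nat.mod_lt _ (by norm_num)⟩, e.2)

theorem infoC_ok : RuLattice.chkInfo infoC Data.checkC = true := by decide +kernel

theorem info_cover :
    (((RuLattice.infoA ++ RuLattice.infoB) ++ infoC.take 18).map Prod.fst).Nodup ∧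
      infoC.length = 19 := by
  decide +kernel

theorem rowsA16 : chkW (natInfo RuLattice.infoA) 5 0 = true := by decide +kernel

theorem rowsB16 : chkW (natInfo RuLattice.infoB) 5 0 = true := by decide +kernel

theorem rowsC16 : chkW (natInfo infoC) 5 0 = true := by decide +kernel

end CfsgLib.RuPerm
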