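import Cfsg.Agent.Lib.RuPerm.Lattice
import Cfsg.Agent.Lib.RuPerm.Code16ChecksA
import Cfsg.Agent.Lib.RuPerm.Code16ChecksB
import Cfsg.Agent.Lib.RuPerm.Code16ChecksC

/-!
Every lattice vector of norm 16 is one of the 16240 points: the odd coordinates form a word of a
binary code with weight 0, 8 or 16, and each word is settled by congruences modulo 4.
-/

set_option autoImplicit false
set_option Elab.async false

namespace CfsgLib.RuPerm

open Cfsg.Spor CfsgLib.SporRecognition.CosetCert

/-! ### Evaluation helpers -/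

theorem allTo_spec : ∀ {m : ℕ} {f : ℕ → Bool}, allTo m f = true → ∀ k < m, f k = true := by
  intro m
  induction m with
  | zero => intro f _ k hk; omega
  | succ m ih =>
      intro f h k hk
      have h' : allTo m f = true ∧ f m = true := by
        simpa [allTo] using h
      rcases Nat.lt_succ_iff_lt_or_eq.1 hk with hk | rfl
      · exact ih h'.1 k hk
      · exact h'.2

theorem sumTo_eq (m : ℕ) (f : ℕ → ℕ) : sumTo m f = ∑ k ∈ Finset.range m, f k := by
  induction m with
  | zero => rfl
  | succ m ih => rw [Finset.sum_range_succ, ← ih]; rfl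

theorem land_one (a : ℕ) : Nat.land a 1 = a % 2 := Nat.and_one_is_mod a

theorem packN_add : ∀ (n : ℕ) (f g : ℕ → ℕ), packN n f + packN n g = packN n fun i => f i + g i
  | 0, _, _ => rfl
  | n + 1, f, g => by
      simp only [packN, ← packN_add n (fun i => f (i + 1)) fun i => g (i + 1)]
      ring

theorem packN_zero : ∀ n, packN n (fun _ => 0) = 0
  | 0 => rfl
  | n + 1 => by simp only [packN, packN_zero n]

theorem field_packN : ∀ (n : ℕ) (f : ℕ → ℕ) (j : ℕ), (∀ i < n, f i < 256) → j < n →
    field (packN n f) 8 j = f j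
  | 0, _, _, _, h => absurd h (by omega)
  | n + 1, f, j, hf, hj => by
      have h0 := hf 0 (by omega)
      show (f 0 + 256 * packN n (fun i => f (i + 1))) >>> (8 * j) &&& (2 ^ 8 - 1) = f j
      rw [Nat.and_two_pow_sub_one_eq_mod]
      rcases j with _ | j
      · rw [mul_zero, Nat.shiftRight_zero]; omega
      · rw [show 8 * (j + 1) = 8 + 8 * j by ring, Nat.shiftRight_add,
          show (f 0 + 256 * packN n fun i => f (i + 1)) >>> 8 = packN n (fun i => f (i + 1)) by
            rw [Nat.shiftRight_eq_div_pow]; omega]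
        have := field_packN n (fun i => f (i + 1)) j (fun i hi => hf _ (by omega)) (by omega)
        rw [← this, ← Nat.and_two_pow_sub_one_eq_mod]
        rfl

theorem resN_lt (k c : ℕ) : resN k c < 4 := by
  unfold resN; omega

theorem dvd_sum_res {x : RuVec} (hx : x ∈ RuLattice.hull) (k : Fin 40) :
    (4 : ℤ) ∣ ∑ c, RuLattice.co x c * (resN k.1 c.1 : ℤ) := by
  have hk : k.1 < RuLattice.basis.length := by rw [basis_len]; exact k.2
  obtain ⟨d, hd⟩ := RuLattice.dot_dvd hx (RuLattice.basis_mem (List.getElem_mem hk))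
  refine ⟨d - ∑ c : Fin 56, RuLattice.co x c * ((RuLattice.basis[k.1]).getD c.1 0 / 4), ?_⟩
  rw [mul_sub, ← hd, RuLattice.dot, Finset.mul_sum, ← Finset.sum_sub_distrib]
  refine Finset.sum_congr rfl fun c _ => ?_
  rw [RuLattice.co_ofL, resN, List.getD_eq_getElem RuLattice.basis [] hk,
    Int.toNat_of_nonneg (Int.emod_nonneg _ (by norm_num)), Int.emod_def]
  ring

theorem hpL_spec {x : RuVec} (hx : x ∈ RuLattice.hull) : ∀ (ks : List (Fin 40)) (q : ℕ),
    ∃ F : ℕ → ℕ, hpL (ks.map fun k => packN 56 (resN k.1)) q = packN 56 F ∧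
      (∀ c, F c ≤ 3 * ks.length) ∧ (4 : ℤ) ∣ ∑ c : Fin 56, RuLattice.co x c * (F c.1 : ℤ)
  | [], _ => ⟨fun _ => 0, (packN_zero 56).symm, fun _ => Nat.zero_le _, by simp⟩
  | k :: ks, q => by
      obtain ⟨F, hF, hb, hd⟩ := hpL_spec hx ks (Nat.shiftRight q 1)
      show ∃ G, Nat.add _ (hpL _ (Nat.shiftRight q 1)) = packN 56 G ∧ _ ∧ _
      rw [hF]
      cases Nat.beq (Nat.land q 1) 1
      · refine ⟨F, by simp, fun c => ?_, hd⟩
        simp only [List.length_cons]; linarith [hb c]
      · refine ⟨fun c => resN k.1 c + F c, packN_add 56 _ _, fun c => ?_, ?_⟩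
        · simp only [List.length_cons]; linarith [hb c, resN_lt k.1 c]
        · simp only [Nat.cast_add, mul_add, Finset.sum_add_distrib]
          exact dvd_add (dvd_sum_res hx k) hd

/-- The congruence given by a selection. -/
theorem dvd_sum_hc {x : RuVec} (hx : x ∈ RuLattice.hull) (q : ℕ) :
    (4 : ℤ) ∣ ∑ c : Fin 56, RuLattice.co x c * (hc q c.1 : ℤ) := by
  obtain ⟨F, hF, hb, hd⟩ := hpL_spec hx (List.finRange 40) q
  refine dvd_trans hd (dvd_of_eq (Finset.sum_congr rfl fun c _ => ?_))
  rw [hc, hp, basisPack_ok, hF, field_packN 56 F c.1 (fun i _ => ?_) c.2]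
  have := hb i
  simp only [List.length_finRange] at this
  omega

/-! ### Words -/

theorem pcK_eq : ∀ n m : ℕ, pcK n m = RuLattice.pc n m := by
  intro n
  induction n with
  | zero => intro m; rfl
  | succ n ih =>
      intro m
      show Nat.land m 1 + pcK n (m >>> 1) = m % 2 + RuLattice.pc n (m / 2)
      rw [land_one, ih, Nat.shiftRight_eq_div_pow, pow_one]

attribute [local irreducible] okW hp hc pcK wordAt findW

theorem chkW_sel (x : RuVec) : ∀ (l : List (Fin 56 × ℕ)) (k acc : ℕ),
    chkW (natInfo l) k acc = true → (l.countP fun e => RuLattice.co x e.1 % 2 = 1) ≤ k →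
      okW (acc ^^^ RuLattice.sel x l) = true
  | [], k, acc, h, _ => by
      rw [RuLattice.sel, Nat.xor_zero]; exact h
  | (p, g) :: l, k, acc, h, hc => by
      rw [List.countP_cons] at hc
      have h' : (bif Nat.beq k 0 then okW acc else
          chkW (natInfo l) k acc && chkW (natInfo l) (k - 1) (acc ^^^ g)) = true := h
      rcases Nat.eq_zero_or_pos k with rfl | hk
      · have hz : ∀ l' : List (Fin 56 × ℕ), (∀ e ∈ l', ¬ RuLattice.co x e.1 % 2 = 1) →
            RuLattice.sel x l' = 0 := by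
          intro l'
          induction l' with
          | nil => intro _; rfl
          | cons e l' ih =>
              intro he
              obtain ⟨p', g'⟩ := e
              rw [RuLattice.sel, if_neg (he _ List.mem_cons_self),
                ih fun e h => he e (List.mem_cons_of_mem _ h)]
        have hp : ¬ RuLattice.co x p % 2 = 1 := by
          intro hp; simp [hp] at hc
        rw [RuLattice.sel, if_neg hp, hz l, Nat.xor_zero]
        · exact h'
        · intro e he hodd
          have h0 : l.countP (fun e => decide (RuLattice.co x e.1 % 2 = 1)) = 0 := by omega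
          rw [List.countP_eq_zero] at h0
          exact h0 e he (by simpa using hodd)
      · have hb : Nat.beq k 0 = false := by
          rw [← Bool.not_eq_true, Nat.beq_eq]; omega
        rw [hb, cond_false, Bool.and_eq_true] at h'
        rw [RuLattice.sel]
        split
        · rename_i hp
          simp only [hp, decide_true, if_true] at hc
          rw [← Nat.xor_assoc]
          exact chkW_sel x l (k - 1) _ h'.2 (by omega)
        · exact chkW_sel x l k _ h'.1 (by omega)

/-- The odd coordinates of `x` are given by the word `m`. -/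
def OddAt (x : RuVec) (m : ℕ) : Prop := ∀ j : Fin 56, RuLattice.co x j % 2 = 1 ↔ m.testBit j.1 = true

theorem odd_sq {a : ℤ} (h : a % 2 = 1) : 1 ≤ a * a := by
  have : a ≠ 0 := by omega
  have := mul_self_pos.2 this
  omega

theorem odd_word {x : RuVec} (hx : x ∈ RuLattice.hull) (hn : ruNorm x = 16) :
    OddAt x 0 ∨ (∃ n < 1701, OddAt x (wordAt n)) ∨ ∃ i < 7, OddAt x (blockMask i) := by
  set F := Finset.univ.filter fun j : Fin 56 => RuLattice.co x j % 2 = 1 with hF
  have hcard : F.card ≤ 16 := by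
    have : (F.card : ℤ) ≤ 16 := by
      rw [← hn, RuLattice.ruNorm_eq, Finset.card_eq_sum_ones, Nat.cast_sum]
      refine le_trans (Finset.sum_le_sum fun j hj => ?_)
        (Finset.sum_le_univ_sum_of_nonneg fun j => mul_self_nonneg (RuLattice.co x j))
      rw [hF, Finset.mem_filter] at hj
      exact_mod_cast odd_sq hj.2
    exact_mod_cast this
  have main : ∀ (l : List (Fin 56 × ℕ)) (cs : List (List ℤ)), RuLattice.chkInfo l cs = true →
      chkW (natInfo l) 5 0 = true → (l.countP fun e => RuLattice.co x e.1 % 2 = 1) ≤ 5 →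
      OddAt x 0 ∨ (∃ n < 1701, OddAt x (wordAt n)) ∨ ∃ i < 7, OddAt x (blockMask i) := by
    intro l cs hi hr hc
    have hok := chkW_sel x l 5 0 hr hc
    rw [Nat.zero_xor] at hok
    have hodd : OddAt x (RuLattice.sel x l) := fun j => RuLattice.odd_iff hi hx j
    simp only [okW, Bool.or_eq_true, Bool.and_eq_true, Nat.blt_eq, Nat.beq_eq,
      Bool.not_eq_true'] at hok
    rcases hok with ((hbig | h0) | ⟨hf, hlt⟩) | hb
    · exfalso
      rw [pcK_eq, RuLattice.pc_eq] at hbig
      have : (∑ j : Fin 56, if (RuLattice.sel x l).testBit j.1 then 1 else 0) = F.card := by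
        rw [Finset.sum_boole, hF]
        simp only [Nat.cast_id, RuLattice.odd_iff hi hx]
      omega
    · exact Or.inl (h0 ▸ hodd)
    · exact Or.inr (Or.inl ⟨_, hlt, hf.symm ▸ hodd⟩)
    · right; right
      by_contra hne
      push Not at hne
      have hall : ∀ m ≤ 7, allTo m (fun i => !Nat.beq (RuLattice.sel x l) (blockMask i)) = true := by
        intro m
        induction m with
        | zero => intro _; rfl
        | succ m ih =>
            intro hm
            show (allTo m _ && _) = true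
            rw [ih (by omega)]
            simp only [Bool.true_and, Bool.not_eq_true', ← Bool.not_eq_true, Nat.beq_eq]
            exact fun h => hne m (by omega) (h ▸ hodd)
      rw [hall 7 le_rfl] at hb
      simp at hb
  by_contra hcon
  have hA : 5 < RuLattice.infoA.countP (fun e => decide (RuLattice.co x e.1 % 2 = 1)) :=
    not_le.1 fun h => hcon (main _ _ RuLattice.infoA_ok rowsA16 h)
  have hB : 5 < RuLattice.infoB.countP (fun e => decide (RuLattice.co x e.1 % 2 = 1)) :=
    not_le.1 fun h => hcon (main _ _ RuLattice.infoB_ok rowsB16 h)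
  have hC : 5 < infoC.countP (fun e => decide (RuLattice.co x e.1 % 2 = 1)) :=
    not_le.1 fun h => hcon (main _ _ infoC_ok rowsC16 h)
  obtain ⟨hnd, hlen⟩ := info_cover
  have h1 : ((((RuLattice.infoA ++ RuLattice.infoB) ++ infoC.take 18).map Prod.fst).filter
      fun p => RuLattice.co x p % 2 = 1).toFinset ⊆ F := by
    intro p hp
    simp only [List.mem_toFinset, List.mem_filter, decide_eq_true_eq] at hp
    simp [hF, hp.2]
  have h2 := Finset.card_le_card h1
  rw [List.toFinset_card_of_nodup (hnd.filter _), ← List.countP_eq_length_filter, List.countP_map,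
    List.countP_append, List.countP_append] at h2
  simp only [Function.comp_def] at h2
  have h3 : infoC.countP (fun e => decide (RuLattice.co x e.1 % 2 = 1)) ≤
      (infoC.take 18).countP (fun e => decide (RuLattice.co x e.1 % 2 = 1)) + 1 := by
    conv_lhs => rw [← List.take_append_drop 18 infoC, List.countP_append]
    refine Nat.add_le_add_left (le_trans List.countP_le_length ?_) _
    simp [hlen]
  omega

theorem dot_sum (x : RuVec) : ∑ j, RuLattice.co x j * RuLattice.co x j = ruNorm x :=
  (RuLattice.ruNorm_eq x).symm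

/-- At most `n` is left outside a set of odd coordinates. -/
theorem even_part {x : RuVec} {m : ℕ} {S : Finset (Fin 56)} (hm : OddAt x m)
    (hS : ∀ j, j ∈ S ↔ m.testBit j.1 = true) :
    (S.card : ℤ) + ∑ j ∈ Sᶜ, RuLattice.co x j * RuLattice.co x j +
      ∑ j ∈ S, (RuLattice.co x j * RuLattice.co x j - 1) = ruNorm x ∧
    (∀ j ∈ S, 0 ≤ RuLattice.co x j * RuLattice.co x j - 1) ∧
    ∀ j ∈ Sᶜ, ∃ d, RuLattice.co x j = 2 * d := by
  refine ⟨?_, fun j hj => ?_, fun j hj => ?_⟩
  · rw [← dot_sum x, ← Finset.sum_add_sum_compl S, Finset.sum_sub_distrib, Finset.sum_const]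
    simp only [nsmul_eq_mul, mul_one]
    ring
  · have := odd_sq ((hm j).2 ((hS j).1 hj)); omega
  · rw [Finset.mem_compl, hS j, ← hm j] at hj
    exact ⟨RuLattice.co x j / 2, by omega⟩

theorem pm_one {a : ℤ} (h : a * a = 1) : a = 1 ∨ a = -1 := mul_self_eq_one_iff.1 h

/-! ### Weight 16 -/

theorem word_facts {n : ℕ} (hn : n < 1701) :
    (∀ k < 16, wPos n k < 56 ∧ (wordAt n).testBit (wPos n k) = true ∧
      ∀ l < k, wPos n k ≠ wPos n l) ∧
    wordAt n = ∑ k ∈ Finset.range 16, 2 ^ wPos n k ∧
    (bif Nat.beq (wFree n) 0 then noneStep n else pivStep n) = true := by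
  have h := allBelow_spec wordChk_ok n hn
  simp only [wordChk, posStep, Bool.and_eq_true, Nat.beq_eq] at h
  obtain ⟨⟨h1, h2⟩, h3⟩ := h
  refine ⟨fun k hk => ?_, ?_, h3⟩
  · have := allTo_spec h1 k hk
    simp only [Bool.and_eq_true, Nat.blt_eq, Nat.beq_eq] at this
    refine ⟨this.1.1, ?_, fun l hl => ?_⟩
    · rw [Nat.testBit_eq_decide_div_mod_eq, decide_eq_true_eq, ← Nat.shiftRight_eq_div_pow, ← land_one]
      exact this.1.2
    · have := allTo_spec this.2 l hl
      simpa [← Bool.not_eq_true] using this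
  · rw [← h2, sumTo_eq]
    exact Finset.sum_congr rfl fun k _ => Nat.one_shiftLeft _

/-- The support of a word, as positions. -/
noncomputable def wSupp (n : ℕ) (hn : n < 1701) (k : Fin 16) : Fin 56 :=
  ⟨wPos n k.1, ((word_facts hn).1 k.1 k.2).1⟩

theorem wSupp_injective {n : ℕ} (hn : n < 1701) : Function.Injective (wSupp n hn) := by
  intro a b h
  have h' : wPos n a.1 = wPos n b.1 := congrArg Fin.val h
  rcases lt_trichotomy a.1 b.1 with hl | hl | hl
  · exact absurd h'.symm (((word_facts hn).1 b.1 b.2).2.2 a.1 hl)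
  · exact Fin.ext hl
  · exact absurd h' (((word_facts hn).1 a.1 a.2).2.2 b.1 hl)

theorem sum_two_pow_testBit : ∀ (s : Finset ℕ) (j : ℕ),
    (∑ k ∈ s, 2 ^ k).testBit j = true ↔ j ∈ s := by
  intro s j
  rw [← List.mem_toFinset (l := (Nat.bitIndices (∑ k ∈ s, 2 ^ k))) |>.trans Nat.mem_bitIndices |>.symm.symm]
  rw [Finset.toFinset_bitIndices_twoPowSum]

theorem word_bit {n : ℕ} (hn : n < 1701) (j : Fin 56) :
    (wordAt n).testBit j.1 = true ↔ ∃ k, wSupp n hn k = j := by
  have hinj : Set.InjOn (wPos n) (Finset.range 16 : Set ℕ) := by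
    intro a ha b hb h
    rw [Finset.coe_range, Set.mem_Iio] at ha hb
    exact congrArg Fin.val (wSupp_injective hn (a₁ := ⟨a, ha⟩) (a₂ := ⟨b, hb⟩) (Fin.ext h))
  rw [(word_facts hn).2.1, ← Finset.sum_image (g := wPos n) (f := fun i => 2 ^ i) hinj,
    sum_two_pow_testBit, Finset.mem_image]
  constructor
  · rintro ⟨k, hk, hkj⟩; exact ⟨⟨k, Finset.mem_range.1 hk⟩, Fin.ext hkj⟩
  · rintro ⟨k, rfl⟩; exact ⟨k.1, Finset.mem_range.2 k.2, rfl⟩

/-- The vector with given values on the support of a word. -/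
noncomputable def onWord (n : ℕ) (hn : n < 1701) (g : Fin 16 → ℤ) (c : Fin 56) : ℤ :=
  ∑ k, if wSupp n hn k = c then g k else 0

theorem onWord_apply {n : ℕ} (hn : n < 1701) (g : Fin 16 → ℤ) (k : Fin 16) :
    onWord n hn g (wSupp n hn k) = g k := by
  simp [onWord, (wSupp_injective hn).eq_iff]

theorem sum_onWord {n : ℕ} (hn : n < 1701) (g : Fin 16 → ℤ) (h : Fin 56 → ℤ) :
    ∑ c, onWord n hn g c * h c = ∑ k, g k * h (wSupp n hn k) := by
  simp only [onWord, Finset.sum_mul, ite_mul, zero_mul]
  rw [Finset.sum_comm]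
  simp

theorem eq_onWord {x : RuVec} (hn16 : ruNorm x = 16) {n : ℕ} (hn : n < 1701) (hm : OddAt x (wordAt n)) :
    ∃ g : Fin 16 → ℤ, (∀ k, g k = 1 ∨ g k = -1) ∧ RuLattice.co x = onWord n hn g := by
  set S := Finset.univ.image (wSupp n hn)
  have hS : ∀ j, j ∈ S ↔ (wordAt n).testBit j.1 = true := fun j => by simp [S, word_bit hn]
  obtain ⟨hsum, hpos, -⟩ := even_part hm hS
  have hcard : S.card = 16 := by
    rw [Finset.card_image_of_injective _ (wSupp_injective hn), Finset.card_univ, Fintype.card_fin]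
  have hz : 0 ≤ ∑ j ∈ Sᶜ, RuLattice.co x j * RuLattice.co x j :=
    Finset.sum_nonneg fun j _ => mul_self_nonneg _
  have hz' := Finset.sum_nonneg hpos
  rw [hcard, hn16] at hsum
  have h1 := (Finset.sum_eq_zero_iff_of_nonneg fun j _ => mul_self_nonneg _).1
    (show ∑ j ∈ Sᶜ, RuLattice.co x j * RuLattice.co x j = 0 by push_cast at hsum; linarith)
  have h2 := (Finset.sum_eq_zero_iff_of_nonneg hpos).1 (by push_cast at hsum; linarith)
  refine ⟨fun k => RuLattice.co x (wSupp n hn k), fun k => pm_one ?_, funext fun c => ?_⟩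
  · have := h2 _ (show wSupp n hn k ∈ S by simp [S]); exact sub_eq_zero.1 this
  · by_cases hc : c ∈ S
    · obtain ⟨k, -, rfl⟩ := Finset.mem_image.1 hc
      rw [onWord_apply]
    · rw [mul_self_eq_zero.1 (h1 c (Finset.mem_compl.2 hc)), onWord]
      refine (Finset.sum_eq_zero fun k _ => if_neg ?_).symm
      rintro rfl
      exact hc (by simp [S])

theorem free_pos {x : RuVec} (hx : x ∈ RuLattice.hull) {n : ℕ} (hn : n < 1701) {g : Fin 16 → ℤ}
    (hg : ∀ k, g k = 1 ∨ g k = -1) (he : RuLattice.co x = onWord n hn g) : wFree n ≠ 0 := by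
  intro h0
  have h := (word_facts hn).2.2
  rw [h0] at h
  simp only [show Nat.beq 0 0 = true from rfl, cond_true, noneStep, Bool.and_eq_true, Nat.beq_eq] at h
  obtain ⟨d, hd⟩ := dvd_sum_hc hx (wSel n 0)
  rw [he, sum_onWord hn g fun c => (hc (wSel n 0) c.1 : ℤ)] at hd
  have heven : ∀ k : Fin 16, (4 : ℤ) ∣ (g k - 1) * (hc (wSel n 0) (wPos n k.1) : ℤ) := by
    intro k
    have hk := allTo_spec h.1 k.1 k.2
    rw [Nat.beq_eq, land_one] at hk
    rcases hg k with e | e <;> rw [e]
    · simp
    · obtain ⟨t, ht⟩ := Nat.dvd_of_mod_eq_zero hk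
      exact ⟨-t, by rw [ht]; push_cast; ring⟩
  have h4 : (4 : ℤ) ∣ ∑ k : Fin 16, (hc (wSel n 0) (wPos n k.1) : ℤ) := by
    have e : ∀ k : Fin 16, (hc (wSel n 0) (wPos n k.1) : ℤ) =
        g k * (hc (wSel n 0) (wSupp n hn k).1 : ℤ) - (g k - 1) * (hc (wSel n 0) (wPos n k.1) : ℤ) := by
      intro k; simp only [wSupp]; ring
    rw [Finset.sum_congr rfl fun k _ => e k, Finset.sum_sub_distrib]
    exact dvd_sub ⟨d, hd⟩ (Finset.dvd_sum fun k _ => heven k)
  have h2 := h.2
  rw [sumTo_eq, ← Fin.sum_univ_eq_sum_range] at h2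
  have h4' : 4 ∣ ∑ k : Fin 16, hc (wSel n 0) (wPos n k.1) := by exact_mod_cast h4
  have hl : ∀ a, Nat.land a 3 = a % 4 := fun a => Nat.and_two_pow_sub_one_eq_mod a 2
  rw [hl] at h2
  omega

theorem same_of_free {x y : RuVec} (hx : x ∈ RuLattice.hull) (hy : y ∈ RuLattice.hull) {n : ℕ}
    (hn : n < 1701) {g g' : Fin 16 → ℤ} (hg : ∀ k, g k = 1 ∨ g k = -1) (hg' : ∀ k, g' k = 1 ∨ g' k = -1)
    (he : RuLattice.co x = onWord n hn g) (he' : RuLattice.co y = onWord n hn g')
    (hfree : ∀ k : Fin 16, k.1 < wFree n → g k = g' k) : g = g' := by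
  funext t
  by_cases ht : t.1 < wFree n
  · exact hfree t ht
  have h := (word_facts hn).2.2
  have hb : Nat.beq (wFree n) 0 = false := by
    rw [← Bool.not_eq_true, Nat.beq_eq]; exact free_pos hx hn hg he
  rw [hb, cond_false, pivStep, Bool.and_eq_true] at h
  have hrow := allTo_spec h.2 t.1 t.2
  simp only [Bool.or_eq_true, Nat.blt_eq, ht, false_or] at hrow
  set H : Fin 16 → ℤ := fun k => (hc (wSel n t.1) (wPos n k.1) : ℤ)
  obtain ⟨d, hd⟩ := dvd_sum_hc hx (wSel n t.1)
  obtain ⟨d', hd'⟩ := dvd_sum_hc hy (wSel n t.1)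
  rw [he, sum_onWord hn g fun c => (hc (wSel n t.1) c.1 : ℤ)] at hd
  rw [he', sum_onWord hn g' fun c => (hc (wSel n t.1) c.1 : ℤ)] at hd'
  have hrest : ∀ k ∈ Finset.univ.erase t, (4 : ℤ) ∣ (g k - g' k) * H k := by
    intro k hk
    by_cases hkf : k.1 < wFree n
    · simp [hfree k hkf]
    · have hpar := allTo_spec hrow k.1 k.2
      simp only [Bool.or_eq_true, Nat.blt_eq, hkf, false_or, Nat.beq_eq] at hpar
      have hkt : Nat.beq k.1 t.1 = false := by
        rw [← Bool.not_eq_true, Nat.beq_eq]; exact fun h => (Finset.mem_erase.1 hk).1 (Fin.ext h)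
      rw [hkt, cond_false, land_one] at hpar
      obtain ⟨s, hs⟩ := Nat.dvd_of_mod_eq_zero hpar
      simp only [H, hs]
      rcases hg k with a | a <;> rcases hg' k with b | b <;> rw [a, b]
      · simp
      · exact ⟨s, by push_cast; ring⟩
      · exact ⟨-s, by push_cast; ring⟩
      · simp
  have htot : (4 : ℤ) ∣ ∑ k, (g k - g' k) * H k := by
    simp only [sub_mul, Finset.sum_sub_distrib]
    exact dvd_sub ⟨d, hd⟩ ⟨d', hd'⟩
  rw [← Finset.add_sum_erase _ _ (Finset.mem_univ t)] at htot
  have ht4 := (dvd_add_left (Finset.dvd_sum hrest)).1 htot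
  have hself := allTo_spec hrow t.1 t.2
  simp only [Bool.or_eq_true, Nat.blt_eq, ht, false_or, Nat.beq_eq] at hself
  rw [show Nat.beq t.1 t.1 = true from Nat.beq_refl _, cond_true, land_one] at hself
  have hH : H t % 2 = 1 := by show ((hc _ _ : ℕ) : ℤ) % 2 = 1; exact_mod_cast hself
  rcases hg t with a | a <;> rcases hg' t with b | b <;> rw [a, b] at ht4 ⊢ <;>
    (obtain ⟨e, he⟩ := ht4; omega)

theorem bits_sum : ∀ (r : ℕ) (b : ℕ → Bool), ∃ f < 2 ^ r, ∀ k < r, f.testBit k = b k := by
  intro r b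
  refine ⟨Nat.ofBits (fun k : Fin r => b k.1), Nat.ofBits_lt_two_pow _, fun k hk => ?_⟩
  rw [Nat.testBit_ofBits, dif_pos hk]

theorem candPart_eq {n f b : ℕ} (hn : n < 1701) :
    (candPart n f b : ℤ) =
      ∑ k : Fin 16, if (candSgn n f / 2 ^ k.1) % 2 = b then (512 : ℤ) ^ (wSupp n hn k).1 else 0 := by
  rw [candPart, sumTo_eq, ← Fin.sum_univ_eq_sum_range]
  push_cast
  refine Finset.sum_congr rfl fun k _ => ?_
  rw [land_one, show Nat.shiftRight (candSgn n f) k.1 = candSgn n f / 2 ^ k.1 from
    Nat.shiftRight_eq_div_pow _ _]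
  by_cases h : (candSgn n f / 2 ^ k.1) % 2 = b
  · rw [if_pos h, (Nat.beq_eq ▸ h : Nat.beq ((candSgn n f / 2 ^ k.1) % 2) b = true), cond_true]
    show ((1 <<< (9 * wPos n k.1) : ℕ) : ℤ) = _
    rw [Nat.one_shiftLeft, pow_mul]
    norm_num [wSupp]
  · rw [if_neg h, show Nat.beq ((candSgn n f / 2 ^ k.1) % 2) b = false by
      rw [← Bool.not_eq_true, Nat.beq_eq]; exact h, cond_false]
    rfl

theorem ptNum_ptOf {q : ℕ} (h : q < 16240) : (ptNum (ptOf q)).1 = q := by
  show 4 * (q / 4 % 4060) + q % 4 = q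
  omega

theorem classify_word {x : RuVec} (hx : x ∈ RuLattice.hull) (hn16 : ruNorm x = 16) {n : ℕ}
    (hn : n < 1701) (hm : OddAt x (wordAt n)) : ∃ p, rvec p = x := by
  obtain ⟨g, hg, he⟩ := eq_onWord hn16 hn hm
  have hfp := free_pos hx hn hg he
  obtain ⟨f, hf, hfb⟩ := bits_sum (wFree n) fun k => decide (∃ h : k < 16, g ⟨k, h⟩ = -1)
  have hc := allBelow_spec candsChk_ok n hn
  simp only [candsChk, Bool.or_eq_true, Nat.beq_eq, hfp, false_or] at hc
  have hc' := allTo_spec hc f (by rw [show Nat.shiftLeft 1 (wFree n) = 2 ^ wFree n from Nat.one_shiftLeft _]; exact hf)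
  simp only [candStep, Bool.and_eq_true, Nat.blt_eq, decide_eq_true_eq] at hc'
  obtain ⟨⟨hlt, hsg⟩, hcode⟩ := hc'
  set p := ptOf (candPt n f)
  set g' : Fin 16 → ℤ := fun k => if (candSgn n f / 2 ^ k.1) % 2 = 1 then -1 else 1
  have hg' : ∀ k, g' k = 1 ∨ g' k = -1 := fun k => by simp only [g']; split <;> simp
  have hvec : vec p = onWord n hn g' := by
    refine enc_inj (fun c => ?_) ?_
    · have h1 := abs_le.1 (abs_vec_le p c)
      have h2 : |onWord n hn g' c| ≤ 16 := by
        refine (Finset.abs_sum_le_sum_abs _ _).trans ?_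
        refine (Finset.sum_le_sum (g := fun _ => (1 : ℤ)) fun k _ => ?_).trans (by simp)
        split
        · rcases hg' k with e | e <;> simp [e]
        · simp
      have h2' := abs_le.1 h2
      rw [abs_lt]; omega
    · rw [enc_vec, ← codeOf_ptNum, ptNum_ptOf hlt]
      have hP : enc (onWord n hn g') = (candPart n f 0 : ℤ) - (candPart n f 1 : ℤ) := by
        rw [candPart_eq hn, candPart_eq hn, ← Finset.sum_sub_distrib, enc, lin, sum_onWord hn g' powW]
        refine Finset.sum_congr rfl fun k _ => ?_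
        rcases Nat.mod_two_eq_zero_or_one (candSgn n f / 2 ^ k.1) with e | e <;> simp [g', e, powW]
      rw [hP]; linarith
  have hp : rvec p ∈ RuLattice.hull := hull_eq ▸ rvec_mem p
  refine ⟨p, RuLattice.co_ext fun c => ?_⟩
  rw [co_rvec, hvec, he]
  suffices g' = g by rw [this]
  refine same_of_free hp hx hn hg' hg (by rw [co_rvec, hvec]) he fun k hk => ?_
  have h1 := allTo_spec hsg k.1 hk
  rw [Nat.beq_eq, land_one, land_one, show Nat.shiftRight (candSgn n f) k.1 = candSgn n f / 2 ^ k.1 from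
    Nat.shiftRight_eq_div_pow _ _, show Nat.shiftRight f k.1 = f / 2 ^ k.1 from
    Nat.shiftRight_eq_div_pow _ _] at h1
  have h2 := hfb k.1 hk
  rw [Nat.testBit_eq_decide_div_mod_eq, decide_eq_decide] at h2
  simp only [g', h1]
  rcases hg k with e | e
  · rw [if_neg, e]
    intro h; obtain ⟨_, h'⟩ := h2.1 h
    rw [e] at h'; norm_num at h'
  · rw [if_pos (h2.2 ⟨k.2, e⟩), e]

/-! ### Octads -/

theorem block_bit (i : ℕ) (j : Fin 56) : (blockMask i).testBit j.1 = true ↔ j.1 / 8 = i := by
  show ((2 ^ 8 - 1) <<< (8 * i)).testBit j.1 = true ↔ _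
  rw [Nat.testBit_shiftLeft, Nat.testBit_two_pow_sub_one, Bool.and_eq_true, decide_eq_true_eq,
    decide_eq_true_eq]
  omega

theorem not_block {x : RuVec} (hx : x ∈ RuLattice.hull) (hn16 : ruNorm x = 16) {i : ℕ} (hi : i < 7)
    (hm : OddAt x (blockMask i)) : False := by
  set S := Finset.univ.filter fun j : Fin 56 => j.1 / 8 = i with hSdef
  have hS : ∀ j, j ∈ S ↔ (blockMask i).testBit j.1 = true := fun j => by simp [S, block_bit]
  obtain ⟨hsum, hpos, heven⟩ := even_part hm hS
  let bl : Fin 8 → Fin 56 := fun t => ⟨8 * i + t.1, by omega⟩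
  have hSimg : S = Finset.univ.image bl := by
    ext j
    simp only [S, bl, Finset.mem_filter, Finset.mem_univ, true_and, Finset.mem_image]
    constructor
    · intro h; exact ⟨⟨j.1 % 8, by omega⟩, Fin.ext (by simp only; omega)⟩
    · rintro ⟨t, rfl⟩; simp only; omega
  have hbl : Function.Injective bl := fun a b h => Fin.ext (by simpa [bl] using h)
  have hcard : S.card = 8 := by
    rw [hSimg, Finset.card_image_of_injective _ hbl, Finset.card_univ, Fintype.card_fin]
  rw [hcard, hn16] at hsum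
  push_cast at hsum
  have hz : 0 ≤ ∑ j ∈ Sᶜ, RuLattice.co x j * RuLattice.co x j :=
    Finset.sum_nonneg fun j _ => mul_self_nonneg _
  by_cases hbig : ∃ q ∈ S, RuLattice.co x q * RuLattice.co x q ≠ 1
  · obtain ⟨q, hq, hq1⟩ := hbig
    set a := RuLattice.co x q
    have hq9 : a * a - 1 ≤ 8 := by
      have := Finset.single_le_sum hpos hq
      linarith
    have hodd := (hm q).2 ((hS q).1 hq)
    have ha : a = 3 ∨ a = -3 := by
      have h1 : a ≤ 3 ∧ -3 ≤ a := by constructor <;> nlinarith
      have h2 : a ≠ 1 ∧ a ≠ -1 := by constructor <;> intro e <;> rw [e] at hq1 <;> norm_num at hq1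
      have : a % 2 = 1 := hodd
      omega
    set z : RuVec := ofF fun c => if c = q then (if a = 3 then (-1) else 1) else 0
    have hz' : x + (4 : ℤ) • z ∈ RuLattice.hull :=
      RuLattice.hull.add_mem hx (RuLattice.four_mem z)
    refine RuLattice.ruNorm_ne_eight hz' ?_
    have hd : RuLattice.dot x z = a * (if a = 3 then (-1) else 1) := by
      simp [RuLattice.dot, z, co_ofF, a]
    have hzn : ruNorm ((4 : ℤ) • z) = 16 := by
      simp only [RuLattice.ruNorm_eq, RuLattice.co_smul, z, co_ofF]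
      rw [Finset.sum_eq_single q]
      · rw [if_pos rfl]; split <;> norm_num
      · intro c _ hc; simp [hc]
      · simp
    rw [RuLattice.ruNorm_add, hn16, hzn, RuLattice.dot_smul, hd]
    rcases ha with e | e <;> simp [e]
  · push Not at hbig
    have h0 : ∑ j ∈ S, (RuLattice.co x j * RuLattice.co x j - 1) = 0 :=
      Finset.sum_eq_zero fun j hj => by rw [hbig j hj]; norm_num
    choose! y hy using heven
    have hs2 : ∑ j ∈ Sᶜ, y j * y j = 2 := by
      have : ∑ j ∈ Sᶜ, RuLattice.co x j * RuLattice.co x j = 4 * ∑ j ∈ Sᶜ, y j * y j := by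
        rw [Finset.mul_sum]; exact Finset.sum_congr rfl fun j hj => by rw [hy j hj]; ring
      omega
    set T := Sᶜ.filter fun j => y j ≠ 0
    have hy1 : ∀ j ∈ T, y j * y j = 1 := by
      intro j hj
      rw [Finset.mem_filter] at hj
      have h1 : y j * y j ≤ 2 := hs2 ▸ Finset.single_le_sum (fun j _ => mul_self_nonneg (y j)) hj.1
      have : y j ≤ 1 ∧ -1 ≤ y j := by constructor <;> nlinarith
      rcases (show y j = 1 ∨ y j = -1 by omega) with e | e <;> simp [e]
    have hT : T.card = 2 := by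
      have : ∑ j ∈ T, y j * y j = 2 := by
        rw [← hs2, Finset.sum_filter]
        exact Finset.sum_congr rfl fun j _ => by
          by_cases h : y j = 0 <;> simp [h]
      rw [Finset.sum_congr rfl hy1, Finset.sum_const, nsmul_eq_mul, mul_one] at this
      exact_mod_cast this
    obtain ⟨u, v, huv, hTe⟩ := Finset.card_eq_two.1 hT
    wlog hlt : u < v generalizing u v
    · exact this v u huv.symm (by rw [hTe, Finset.pair_comm]) (lt_of_le_of_ne (not_lt.1 hlt) huv.symm)
    have hmem : ∀ j, j ∈ T → ¬ j.1 / 8 = i := fun j hj => by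
      rw [Finset.mem_filter, Finset.mem_compl, hS, block_bit] at hj; exact hj.1
    have hu : u ∈ T := by simp [hTe]
    have hv : v ∈ T := by simp [hTe]
    have hchk := allTo_spec (allTo_spec (allTo_spec octStep_ok i hi) u.1 u.2) v.1 v.2
    simp only [octStep, Bool.or_eq_true, List.any_eq_true, Nat.beq_eq, Nat.ble_eq] at hchk
    rcases hchk with ((h | h) | h) | ⟨q, -, hq⟩
    · exact absurd h (not_le.2 hlt)
    · exact hmem u hu h
    · exact hmem v hv h
    · simp only [octTest, Bool.and_eq_true, Bool.not_eq_true', ← Bool.not_eq_true, Nat.beq_eq] at hq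
      apply hq.2
      obtain ⟨d, hd⟩ := dvd_sum_hc hx q
      rw [← Finset.sum_add_sum_compl S] at hd
      have hout : ∑ j ∈ Sᶜ, RuLattice.co x j * (hc q j.1 : ℤ) =
          2 * y u * (hc q u.1 : ℤ) + 2 * y v * (hc q v.1 : ℤ) := by
        have : ∑ j ∈ Sᶜ, RuLattice.co x j * (hc q j.1 : ℤ) = ∑ j ∈ T, 2 * y j * (hc q j.1 : ℤ) := by
          rw [Finset.sum_filter]
          refine Finset.sum_congr rfl fun j hj => ?_
          by_cases h : y j = 0 <;> simp [h, hy j hj]
        rw [this, hTe, Finset.sum_pair huv]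
      have hin : (4 : ℤ) ∣ ∑ j ∈ S, RuLattice.co x j * (hc q j.1 : ℤ) -
          ((sumTo 8 fun t => hc q (Nat.add (Nat.mul 8 i) t) : ℕ) : ℤ) := by
        rw [sumTo_eq, ← Fin.sum_univ_eq_sum_range, hSimg, Finset.sum_image fun a _ b _ h => hbl h]
        push_cast
        rw [← Finset.sum_sub_distrib]
        refine Finset.dvd_sum fun t _ => ?_
        have hev := allTo_spec hq.1 t.1 t.2
        rw [Nat.beq_eq, land_one] at hev
        obtain ⟨s, hs⟩ := Nat.dvd_of_mod_eq_zero hev
        have hb : bl t ∈ S := by rw [hSimg]; simp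
        show (4 : ℤ) ∣ RuLattice.co x (bl t) * (hc q (8 * i + t.1) : ℤ) - (hc q (8 * i + t.1) : ℤ)
        rw [show hc q (8 * i + t.1) = 2 * s from hs]
        rcases pm_one (hbig _ hb) with e | e <;> rw [e]
        · simp
        · exact ⟨-s, by push_cast; ring⟩
      obtain ⟨d', hd'⟩ := hin
      rw [hout] at hd
      have hu1 := pm_one (hy1 u hu)
      have hv1 := pm_one (hy1 v hv)
      have hl : ∀ a, Nat.land a 3 = a % 4 := fun a => Nat.and_two_pow_sub_one_eq_mod a 2
      rw [hl]
      simp only [Nat.add_eq, Nat.mul_eq] at hd' ⊢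
      rcases hu1 with e | e <;> rcases hv1 with e' | e' <;> rw [e, e'] at hd <;> omega

/-! ### Even vectors -/

theorem pair_inj {a b c d : Fin 56} (hab : a < b) (hcd : c < d)
    (h : colOf a.1 ^^^ colOf b.1 = colOf c.1 ^^^ colOf d.1) : a = c ∧ b = d := by
  have key : ∀ {a b : Fin 56}, a < b → ∃ r < 1540,
      tab Data.pairVal 40 r = colOf a.1 ^^^ colOf b.1 ∧ tab Data.pairPos 12 r = 56 * a.1 + b.1 := by
    intro a b hab
    have h := allTo_spec (allTo_spec pairStep_ok a.1 a.2) b.1 b.2
    simp only [pairStep, Bool.or_eq_true, Bool.and_eq_true, Nat.beq_eq, Nat.blt_eq, Nat.ble_eq] at h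
    rcases h with h | ⟨⟨h1, h2⟩, h3⟩
    · exact absurd h (not_le.2 hab)
    · exact ⟨_, h1, h2, h3⟩
  obtain ⟨r, hr, hrv, hrp⟩ := key hab
  obtain ⟨s, hs, hsv, hsp⟩ := key hcd
  have hm : StrictMono fun t : Fin (1539 + 1) => tab Data.pairVal 40 t.1 := by
    refine Fin.strictMono_iff_lt_succ.2 fun t => ?_
    have := allBelow_spec pairSort_ok t.1 t.2
    simp only [pairSortStep, Nat.blt_eq] at this
    exact this
  have : (⟨r, hr⟩ : Fin (1539 + 1)) = ⟨s, hs⟩ := hm.injective (by simp only [hrv, hsv, h])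
  have hrs : r = s := congrArg Fin.val this
  rw [hrs, hsp] at hrp
  exact ⟨Fin.ext (by omega), Fin.ext (by omega)⟩

theorem classify_even {x : RuVec} (hx : x ∈ RuLattice.hull) (hn16 : ruNorm x = 16) (hm : OddAt x 0) :
    ∃ p, rvec p = x := by
  obtain ⟨hsum, -, heven⟩ := even_part (S := ∅) hm (fun j => by simp)
  simp only [Finset.card_empty, Nat.cast_zero, Finset.sum_empty, add_zero, zero_add,
    Finset.compl_empty, hn16] at hsum heven
  choose y hy using fun j => heven j (Finset.mem_univ j)
  have hs4 : ∑ j, y j * y j = 4 := by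
    have : ∑ j, RuLattice.co x j * RuLattice.co x j = 4 * ∑ j, y j * y j := by
      rw [Finset.mul_sum]; exact Finset.sum_congr rfl fun j _ => by rw [hy j]; ring
    omega
  have hle : ∀ j, y j * y j ≤ 4 := fun j =>
    hs4 ▸ Finset.single_le_sum (fun j _ => mul_self_nonneg (y j)) (Finset.mem_univ j)
  by_cases hbig : ∃ q, y q * y q = 4
  · obtain ⟨q, hq⟩ := hbig
    have hother : ∀ j, j ≠ q → y j = 0 := by
      intro j hj
      have h2 := Finset.add_sum_erase Finset.univ (fun j => y j * y j) (Finset.mem_univ q)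
      have h3 : y j * y j ≤ ∑ k ∈ Finset.univ.erase q, y k * y k :=
        Finset.single_le_sum (fun k _ => mul_self_nonneg (y k)) (by simp [hj])
      have h5 := mul_self_nonneg (y j)
      exact mul_self_eq_zero.1 (by omega)
    set p := ptOf (derAt (Data.spanUnit.getD q.1 0)).2.2
    have hvp : ∀ c, vec p c = if c = q then 4 else 0 := unit_ok q
    have h2 : y q = 2 ∨ y q = -2 := by
      have : y q ≤ 2 ∧ -2 ≤ y q := by constructor <;> nlinarith
      have h0 : y q ≠ 0 := by intro e; rw [e] at hq; norm_num at hq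
      have h1 : y q ≠ 1 ∧ y q ≠ -1 := by constructor <;> intro e <;> rw [e] at hq <;> norm_num at hq
      omega
    rcases h2 with e | e
    · refine ⟨p, RuLattice.co_ext fun c => ?_⟩
      rw [co_rvec, hvp, hy c]
      by_cases hc : c = q
      · rw [if_pos hc, hc, e]; norm_num
      · rw [if_neg hc, hother c hc]; norm_num
    · refine ⟨rotP (rotP p), RuLattice.co_ext fun c => ?_⟩
      have hneg : ∀ f : Fin 56 → ℤ, rot (rot f) c = -f c := fun f => by
        simp only [rot, pcoord_pcoord, pcoord_parity]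
        by_cases h : c.1 % 2 = 0 <;> simp [h]
      rw [co_rvec, vec_rotP, vec_rotP, hneg, hvp, hy c]
      by_cases hc : c = q
      · rw [if_pos hc, hc, e]; norm_num
      · rw [if_neg hc, hother c hc]; norm_num
  · exfalso
    push Not at hbig
    set T := Finset.univ.filter fun j => y j ≠ 0
    have hy1 : ∀ j ∈ T, y j * y j = 1 := by
      intro j hj
      rw [Finset.mem_filter] at hj
      have : y j ≤ 2 ∧ -2 ≤ y j := by constructor <;> nlinarith [hle j]
      have h2 : y j ≠ 2 ∧ y j ≠ -2 := by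
        constructor <;> intro e <;> exact hbig j (by rw [e]; norm_num)
      rcases (show y j = 1 ∨ y j = -1 by omega) with e | e <;> simp [e]
    have hT : T.card = 4 := by
      have : ∑ j ∈ T, y j * y j = 4 := by
        rw [← hs4, Finset.sum_filter]
        exact Finset.sum_congr rfl fun j _ => by by_cases h : y j = 0 <;> simp [h]
      rw [Finset.sum_congr rfl hy1, Finset.sum_const, nsmul_eq_mul, mul_one] at this
      exact_mod_cast this
    let o := T.orderEmbOfFin hT
    have hTimg : T = Finset.univ.image o := (Finset.image_orderEmbOfFin_univ T hT).symm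
    have hcol : colOf (o 0).1 ^^^ colOf (o 1).1 = colOf (o 2).1 ^^^ colOf (o 3).1 := by
      refine Nat.eq_of_testBit_eq fun k => ?_
      simp only [Nat.testBit_xor]
      by_cases hk : k < 40
      · rw [parityCol_ok (o 0) ⟨k, hk⟩, parityCol_ok (o 1) ⟨k, hk⟩, parityCol_ok (o 2) ⟨k, hk⟩,
          parityCol_ok (o 3) ⟨k, hk⟩]
        obtain ⟨d, hd⟩ := dvd_sum_res hx ⟨k, hk⟩
        have h2 : ∑ c, RuLattice.co x c * (resN k c.1 : ℤ) = ∑ i : Fin 4, 2 * y (o i) * (resN k (o i).1 : ℤ) := by
          have h3 : ∑ c, RuLattice.co x c * (resN k c.1 : ℤ) = ∑ c ∈ T, 2 * y c * (resN k c.1 : ℤ) := by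
            rw [Finset.sum_filter]
            refine Finset.sum_congr rfl fun c _ => ?_
            by_cases h : y c = 0 <;> simp [h, hy c]
          rw [h3, hTimg, Finset.sum_image fun a _ b _ h => o.injective h]
        rw [h2, Fin.sum_univ_four] at hd
        have hp : ∀ i, y (o i) = 1 ∨ y (o i) = -1 := fun i => pm_one (hy1 _ (by
          rw [hTimg]; simp))
        generalize resN k (o 0).1 = a, resN k (o 1).1 = b, resN k (o 2).1 = c, resN k (o 3).1 = e at hd ⊢
        have key : (a + b + c + e) % 2 = 0 := by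
          rcases hp 0 with p0 | p0 <;> rcases hp 1 with p1 | p1 <;> rcases hp 2 with p2 | p2 <;>
            rcases hp 3 with p3 | p3 <;> rw [p0, p1, p2, p3] at hd <;> omega
        rcases Nat.mod_two_eq_zero_or_one a with ea | ea <;>
          rcases Nat.mod_two_eq_zero_or_one b with eb | eb <;>
          rcases Nat.mod_two_eq_zero_or_one c with ec | ec <;>
          rcases Nat.mod_two_eq_zero_or_one e with ee | ee <;>
          simp [ea, eb, ec, ee] <;> omega
      · simp [Nat.testBit_eq_false_of_lt ((colOf_lt _).trans_le (Nat.pow_le_pow_right two_pos (not_lt.1 hk)))]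
    have := pair_inj (o.strictMono (by decide : (0 : Fin 4) < 1)) (o.strictMono (by decide : (2 : Fin 4) < 3)) hcol
    have h02 := o.strictMono (by decide : (0 : Fin 4) < 2)
    rw [this.1] at h02
    exact lt_irrefl _ h02

/-- The classification. -/
theorem classify {x : RuVec} (hx : x ∈ ruLattice) (hn : ruNorm x = 16) : ∃ p, rvec p = x := by
  rw [← hull_eq] at hx
  rcases odd_word hx hn with h | ⟨n, hn', h⟩ | ⟨i, hi, h⟩
  · exact classify_even hx hn h
  · exact classify_word hx hn hn' h
  · exact (not_block hx hn hi h).elim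

end CfsgLib.RuPerm
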