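import Cfsg.Agent.Lib.RuPerm.Vectors
import Cfsg.Agent.Lib.Rudvalis.LatticeMin
import Cfsg.Agent.Lib.RuPerm.Data.Code16
import Cfsg.Agent.Lib.RuPerm.Data.Columns

/-! Tests for the vectors of norm 16. -/

set_option autoImplicit false
set_option Elab.async false

namespace CfsgLib.RuPerm

open CfsgLib.SporRecognition.CosetCert

/-- Entry of a packed table with `256` leaves. -/
noncomputable def tab256 (T : BTree) (w i : ℕ) : ℕ :=
  field (T.get (Nat.land i 255)) w (Nat.shiftRight i 8)

/-- Packing of `n` fields of width 8. -/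
def packN : ℕ → (ℕ → ℕ) → ℕ
  | 0, _ => 0
  | n + 1, f => f 0 + 256 * packN n fun i => f (i + 1)

/-- Residue of a basis coordinate. -/
def resN (k c : ℕ) : ℕ := ((RuLattice.basis.getD k []).getD c 0 % 4).toNat

/-- The sum of the selected packed residues. -/
noncomputable def hpL (l : List ℕ) : ℕ → ℕ :=
  List.rec (fun _ => 0)
    (fun P _ ih q => Nat.add (bif Nat.beq (Nat.land q 1) 1 then P else 0) (ih (Nat.shiftRight q 1))) l

/-- The selected combination. -/
noncomputable def hp (q : ℕ) : ℕ := hpL Data.basisPack q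

/-- A coordinate of the selected combination. -/
noncomputable def hc (q c : ℕ) : ℕ := field (hp q) 8 c

/-- Conjunction over an initial segment. -/
noncomputable def allTo (m : ℕ) (f : ℕ → Bool) : Bool :=
  Nat.rec true (fun k r => r && f k) m

/-- Sum over an initial segment. -/
noncomputable def sumTo (m : ℕ) (f : ℕ → ℕ) : ℕ := Nat.rec 0 (fun k r => Nat.add r (f k)) m

/-- The sorted words of weight 16. -/
noncomputable def wordAt (n : ℕ) : ℕ := tab Data.cWord 56 n

/-- Positions of a word. -/
noncomputable def wPos (n k : ℕ) : ℕ := field (tab Data.cPos 96 n) 6 k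

/-- Number of free signs of a word, `0` when there is none. -/
noncomputable def wFree (n : ℕ) : ℕ := Nat.land (tab Data.cInfo 20 n) 7

/-- First candidate of a word. -/
noncomputable def wOff (n : ℕ) : ℕ := Nat.shiftRight (tab Data.cInfo 20 n) 3

/-- Selection of a word. -/
noncomputable def wSel (n k : ℕ) : ℕ := tab256 Data.cSel 40 (Nat.add (Nat.mul 16 n) k)

/-- The positions are the bits of the word, without repetition. -/
noncomputable def posStep (n : ℕ) : Bool :=
  (allTo 16 fun i => Nat.blt (wPos n i) 56 && Nat.beq (Nat.land (Nat.shiftRight (wordAt n) (wPos n i)) 1) 1 &&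
    allTo i fun j => !Nat.beq (wPos n i) (wPos n j)) &&
  Nat.beq (sumTo 16 fun i => Nat.shiftLeft 1 (wPos n i)) (wordAt n)

/-- A word without solution. -/
noncomputable def noneStep (n : ℕ) : Bool :=
  (allTo 16 fun i => Nat.beq (Nat.land (hc (wSel n 0) (wPos n i)) 1) 0) &&
    Nat.beq (Nat.land (sumTo 16 fun i => hc (wSel n 0) (wPos n i)) 3) 2

/-- The pivot signs are determined by the free ones. -/
noncomputable def pivStep (n : ℕ) : Bool :=
  Nat.ble (wFree n) 5 && allTo 16 fun t => Nat.blt t (wFree n) ||
    allTo 16 fun u => Nat.blt u (wFree n) ||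
      Nat.beq (Nat.land (hc (wSel n t) (wPos n u)) 1) (bif Nat.beq u t then 1 else 0)

/-- Everything about a word but the candidates. -/
noncomputable def wordChk (n : ℕ) : Bool :=
  posStep n && (bif Nat.beq (wFree n) 0 then noneStep n else pivStep n)

/-- Candidate of a word for given free signs. -/
noncomputable def candAt (n f : ℕ) : ℕ := tab256 Data.cCand 30 (Nat.add (wOff n) f)

/-- The candidate's point. -/
noncomputable def candPt (n f : ℕ) : ℕ := Nat.land (candAt n f) 16383

/-- The candidate's signs. -/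
noncomputable def candSgn (n f : ℕ) : ℕ := Nat.shiftRight (candAt n f) 14

/-- Packed positive and negative parts of a candidate. -/
noncomputable def candPart (n f b : ℕ) : ℕ :=
  sumTo 16 fun k => bif Nat.beq (Nat.land (Nat.shiftRight (candSgn n f) k) 1) b then
    Nat.shiftLeft 1 (Nat.mul 9 (wPos n k)) else 0

/-- A candidate is a point with the given free signs. -/
noncomputable def candStep (n f : ℕ) : Bool :=
  Nat.blt (candPt n f) 16240 &&
    (allTo (wFree n) fun k =>
      Nat.beq (Nat.land (Nat.shiftRight (candSgn n f) k) 1) (Nat.land (Nat.shiftRight f k) 1)) &&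
    decide (codeOf (candPt n f) + (candPart n f 1 : ℤ) = (candPart n f 0 : ℤ))

/-- All candidates of a word. -/
noncomputable def candsChk (n : ℕ) : Bool :=
  Nat.beq (wFree n) 0 || allTo (Nat.shiftLeft 1 (wFree n)) (candStep n)

/-- Binary search. -/
noncomputable def findW (m : ℕ) : ℕ :=
  Nat.rec (fun lo => lo)
    (fun i ih lo => ih (bif Nat.blt (Nat.add lo (Nat.shiftLeft 1 i)) 1701 &&
      Nat.ble (wordAt (Nat.add lo (Nat.shiftLeft 1 i))) m then Nat.add lo (Nat.shiftLeft 1 i) else lo))
    11 0

/-- Number of ones. -/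
noncomputable def pcK (n : ℕ) : ℕ → ℕ :=
  Nat.rec (fun _ => 0) (fun _ ih m => Nat.add (Nat.land m 1) (ih (Nat.shiftRight m 1))) n

/-- The mask of a block of eight. -/
noncomputable def blockMask (i : ℕ) : ℕ := Nat.shiftLeft 255 (Nat.mul 8 i)

/-- An allowed word, or a heavy one. -/
noncomputable def okW (m : ℕ) : Bool :=
  Nat.blt 16 (pcK 56 m) || Nat.beq m 0 || Nat.beq (wordAt (findW m)) m && Nat.blt (findW m) 1701 ||
    !(allTo 7 fun i => !Nat.beq m (blockMask i))

/-- Combinations of at most `k` rows are allowed. -/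
noncomputable def chkW (l : List (ℕ × ℕ)) : ℕ → ℕ → Bool :=
  List.rec (fun _ acc => okW acc)
    (fun e _ ih k acc => bif Nat.beq k 0 then okW acc else
      ih k acc && ih (Nat.sub k 1) (Nat.xor acc e.2)) l

/-- Selection test for an octad and two further positions. -/
noncomputable def octTest (i a b q : ℕ) : Bool :=
  (allTo 8 fun t => Nat.beq (Nat.land (hc q (Nat.add (Nat.mul 8 i) t)) 1) 0) &&
    !Nat.beq (Nat.land (Nat.add (sumTo 8 fun t => hc q (Nat.add (Nat.mul 8 i) t))
      (Nat.mul 2 (Nat.add (hc q a) (hc q b)))) 3) 0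

/-- An octad with two further positions has no solution. -/
noncomputable def octStep (i a b : ℕ) : Bool :=
  Nat.ble b a || Nat.beq (a / 8) i || Nat.beq (b / 8) i || (Data.octSel.getD i []).any (octTest i a b)

/-- The parity columns. -/
noncomputable def colOf (a : ℕ) : ℕ := Data.parityCol.getD a 0

/-- A pair of columns is recognised by its sum. -/
noncomputable def pairStep (a b : ℕ) : Bool :=
  Nat.ble b a ||
    Nat.blt (tab Data.pairRk 11 (Nat.add (Nat.mul 56 a) b)) 1540 &&
      Nat.beq (tab Data.pairVal 40 (tab Data.pairRk 11 (Nat.add (Nat.mul 56 a) b))) (Nat.xor (colOf a) (colOf b)) &&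
      Nat.beq (tab Data.pairPos 12 (tab Data.pairRk 11 (Nat.add (Nat.mul 56 a) b))) (Nat.add (Nat.mul 56 a) b)

/-- The sums are increasing. -/
noncomputable def pairSortStep (r : ℕ) : Bool :=
  Nat.blt (tab Data.pairVal 40 r) (tab Data.pairVal 40 (Nat.add r 1))

end CfsgLib.RuPerm
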