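import Cfsg.Agent.Lib.RuPerm.Classify

/-! The automorphism group of the lattice is the symmetry group of the 16240 points. -/

set_option autoImplicit false
set_option Elab.async false

namespace CfsgLib.RuPerm

open Cfsg.Spor

theorem ip_eq_dot (p q : Pt) : ip p q = RuLattice.dot (rvec p) (rvec q) := by
  simp only [ip, lin, RuLattice.dot, co_rvec]

theorem ip_base : ip ((0 : Fin 4060), (0 : Fin 4)) ((0 : Fin 4060), (0 : Fin 4)) = 16 := by
  decide +kernel

theorem ip_self (p : Pt) : ip p p = 16 := by
  have := grp_pretransitive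
  obtain ⟨⟨g, hg⟩, hgp⟩ := MulAction.exists_smul_eq grp (0 : Fin 4060) p.1
  obtain ⟨σ, rfl⟩ := grp_le hg
  have h1 : (σ.1 ((0 : Fin 4060), 0)).1 = p.1 := hgp
  set q := σ.1 ((0 : Fin 4060), 0)
  have h2 : ip q q = 16 := by rw [σ.2.1]; exact ip_base
  have h3 : p = scalar (p.2 - q.2) q := by
    refine Prod.ext h1.symm ?_
    show p.2 = q.2 + (p.2 - q.2)
    rw [add_sub_cancel]
  rw [h3, (scalar_mem _).1]
  exact h2

theorem ruNorm_rvec (p : Pt) : ruNorm (rvec p) = 16 := by
  rw [RuLattice.ruNorm_eq, ← ip_self p, ip_eq_dot]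
  rfl

/-- A point as an element of the lattice. -/
noncomputable def latPt (p : Pt) : ruLattice := ⟨rvec p, rvec_mem p⟩

theorem latPt_injective : Function.Injective latPt := fun _ _ h =>
  rvec_injective (congrArg Subtype.val h)

theorem lattice_induction {P : ruLattice → Prop} (hp : ∀ p, P (latPt p)) (h0 : P 0)
    (hadd : ∀ v w, P v → P w → P (v + w)) (hneg : ∀ v, P v → P (-v)) : ∀ v, P v := by
  rintro ⟨v, hv⟩
  have hv' : v ∈ AddSubgroup.closure (Set.range rvec) := lattice_eq_span ▸ hv
  induction hv' using AddSubgroup.closure_induction with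
  | mem x hx => obtain ⟨p, rfl⟩ := hx; exact hp p
  | zero => exact h0
  | add x y hx hy a b =>
      have hx' : x ∈ ruLattice := by rw [lattice_eq_span]; exact hx
      have hy' : y ∈ ruLattice := by rw [lattice_eq_span]; exact hy
      exact hadd ⟨x, hx'⟩ ⟨y, hy'⟩ (a hx') (b hy')
  | neg x hx a =>
      have hx' : x ∈ ruLattice := by rw [lattice_eq_span]; exact hx
      exact hneg ⟨x, hx'⟩ (a hx')

theorem exists_img (f : fourRu) (p : Pt) :
    ∃ q, rvec q = ((f.1 (latPt p) : ruLattice) : RuVec) :=
  classify (f.1 (latPt p)).2 ((f.2.2.2 _).trans (ruNorm_rvec p))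

/-- The image of a point. -/
noncomputable def img (f : fourRu) (p : Pt) : Pt := (exists_img f p).choose

theorem latPt_img (f : fourRu) (p : Pt) : latPt (img f p) = f.1 (latPt p) :=
  Subtype.ext (exists_img f p).choose_spec

/-- The permutation of the points. -/
noncomputable def imgPerm (f : fourRu) : Equiv.Perm Pt where
  toFun := img f
  invFun := img f⁻¹
  left_inv p := latPt_injective (by
    rw [latPt_img, latPt_img, Subgroup.coe_inv, Equiv.Perm.inv_def, Equiv.symm_apply_apply])
  right_inv p := latPt_injective (by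
    rw [latPt_img, latPt_img, Subgroup.coe_inv, Equiv.Perm.inv_def, Equiv.apply_symm_apply])

theorem ruNorm_map_add (f : fourRu) (v w : ruLattice) :
    RuLattice.dot ((f.1 v : ruLattice) : RuVec) ((f.1 w : ruLattice) : RuVec) =
      RuLattice.dot (v : RuVec) (w : RuVec) := by
  have h1 := f.2.2.2 (v + w)
  rw [f.2.1, AddSubgroup.coe_add, AddSubgroup.coe_add, RuLattice.ruNorm_add, RuLattice.ruNorm_add,
    f.2.2.2, f.2.2.2] at h1
  linarith

theorem latPt_rotP (p : Pt) : latPt (rotP p) = ruI (latPt p) := Subtype.ext (rvec_rotP p)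

theorem imgPerm_mem (f : fourRu) : imgPerm f ∈ sym := by
  refine ⟨fun p q => ?_, fun p => latPt_injective ?_⟩
  · rw [ip_eq_dot, ip_eq_dot]
    show RuLattice.dot ((latPt (img f p) : ruLattice) : RuVec) ((latPt (img f q) : ruLattice) : RuVec) = _
    rw [latPt_img, latPt_img, ruNorm_map_add]
    rfl
  · show latPt (img f (rotP p)) = latPt (rotP (img f p))
    rw [latPt_img, latPt_rotP, latPt_rotP, latPt_img, f.2.2.1]

/-- Restriction of lattice automorphisms to the points. -/
noncomputable def toSym : fourRu →* sym where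
  toFun f := ⟨imgPerm f, imgPerm_mem f⟩
  map_one' := Subtype.ext (Equiv.ext fun p => latPt_injective (latPt_img 1 p))
  map_mul' f g := Subtype.ext (Equiv.ext fun p => latPt_injective (by
    show latPt (img (f * g) p) = latPt (img f (img g p))
    rw [latPt_img, latPt_img, latPt_img, Subgroup.coe_mul, Equiv.Perm.mul_apply]))

theorem toSym_injective : Function.Injective toSym := by
  intro f g h
  have hpt : ∀ p, f.1 (latPt p) = g.1 (latPt p) := fun p => by
    rw [← latPt_img, ← latPt_img]
    exact congrArg latPt (congrArg (fun σ : sym => σ.1 p) h)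
  let F : ruLattice →+ ruLattice := AddMonoidHom.mk' f.1 f.2.1
  let G : ruLattice →+ ruLattice := AddMonoidHom.mk' g.1 g.2.1
  refine Subtype.ext (Equiv.ext fun v => ?_)
  refine lattice_induction (P := fun v => F v = G v) hpt (by simp) (fun v w a b => ?_) (fun v a => ?_) v
  · rw [map_add, map_add, a, b]
  · rw [map_neg, map_neg, a]

section lift

variable {cols cb cc : List (List ℤ)} {E : ℕ} {L N Ni : SporRecognition.CosetCert.BTree}

/-- The linear map on the lattice. -/
noncomputable def actV (hc : imgChk cols cb cc = true) (v : ruLattice) : ruLattice :=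
  ⟨(maps_of_chk hc v.2).choose, (maps_of_chk hc v.2).choose_spec.1⟩

theorem actV_spec (hc : imgChk cols cb cc = true) (v : ruLattice) :
    linMap cols (RuLattice.co (v : RuVec)) = (4 : ℤ) • RuLattice.co (actV hc v : RuVec) :=
  (maps_of_chk hc v.2).choose_spec.2

theorem actV_eq (hc : imgChk cols cb cc = true) {v y : ruLattice}
    (h : linMap cols (RuLattice.co (v : RuVec)) = (4 : ℤ) • RuLattice.co (y : RuVec)) : actV hc v = y := by
  refine Subtype.ext (RuLattice.co_ext fun c => ?_)
  have h1 := congrFun ((actV_spec hc v).symm.trans h) c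
  simp only [Pi.smul_apply, smul_eq_mul] at h1
  omega

theorem actV_add (hc : imgChk cols cb cc = true) (v w : ruLattice) :
    actV hc (v + w) = actV hc v + actV hc w :=
  actV_eq hc (by rw [AddSubgroup.coe_add, AddSubgroup.coe_add, co_add', co_add', linMap_add,
    actV_spec hc v, actV_spec hc w, smul_add])

theorem rot_smul (k : ℤ) (f : Fin 56 → ℤ) : rot (k • f) = k • rot f := by
  funext c
  simp only [rot, Pi.smul_apply, smul_eq_mul]
  split <;> ring

theorem actV_I (h : GenOK cols E L N Ni) (hc : imgChk cols cb cc = true) (v : ruLattice) :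
    actV hc (ruI v) = ruI (actV hc v) :=
  actV_eq hc (by
    show linMap cols (RuLattice.co (gI • (v : RuVec))) = _ • RuLattice.co (gI • (actV hc v : RuVec))
    rw [co_gI, co_gI, linMap_rot h, actV_spec hc, rot_smul])

theorem actV_norm (h : GenOK cols E L N Ni) (hc : imgChk cols cb cc = true) (v : ruLattice) :
    ruNorm (actV hc v : RuVec) = ruNorm (v : RuVec) := by
  have h1 := lin_linMap h (RuLattice.co (v : RuVec)) (RuLattice.co (v : RuVec))
  rw [actV_spec hc] at h1
  simp only [lin, Pi.smul_apply, smul_eq_mul] at h1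
  rw [RuLattice.ruNorm_eq, RuLattice.ruNorm_eq]
  rw [show ∑ j, 4 * RuLattice.co (actV hc v : RuVec) j * (4 * RuLattice.co (actV hc v : RuVec) j) =
      16 * ∑ j, RuLattice.co (actV hc v : RuVec) j * RuLattice.co (actV hc v : RuVec) j by
    rw [Finset.mul_sum]; exact Finset.sum_congr rfl fun j _ => by ring] at h1
  omega

theorem actV_point (h : GenOK cols E L N Ni) (hc : imgChk cols cb cc = true) (p : Pt) :
    actV hc (latPt p) = latPt (genPerm h p) :=
  actV_eq hc (by
    show linMap cols (RuLattice.co (rvec p)) = _ • RuLattice.co (rvec _)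
    rw [co_rvec, co_rvec, linMap_vec h]
    funext c
    simp only [Pi.smul_apply, smul_eq_mul, nsmul_eq_mul]
    norm_num)

theorem actV_bijective (h : GenOK cols E L N Ni) (hc : imgChk cols cb cc = true) :
    Function.Bijective (actV hc) := by
  let F : ruLattice →+ ruLattice := AddMonoidHom.mk' (actV hc) (actV_add hc)
  refine ⟨(injective_iff_map_eq_zero F).2 fun v hv => ?_, fun y => ?_⟩
  · have h1 := actV_norm h hc v
    rw [show actV hc v = 0 from hv, RuLattice.ruNorm_eq, RuLattice.ruNorm_eq] at h1
    simp only [AddSubgroup.coe_zero, RuLattice.co_zero, mul_zero, Finset.sum_const_zero] at h1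
    refine Subtype.ext (RuLattice.co_ext fun j => ?_)
    rw [AddSubgroup.coe_zero, RuLattice.co_zero]
    exact mul_self_eq_zero.1
      ((Finset.sum_eq_zero_iff_of_nonneg fun i _ => mul_self_nonneg _).1 h1.symm j (Finset.mem_univ j))
  · have hall : ∀ y, y ∈ F.range := by
      refine lattice_induction (fun p => ⟨latPt ((genPerm h).symm p), ?_⟩) (zero_mem _)
        (fun v w a b => add_mem a b) (fun v a => neg_mem a)
      show actV hc _ = _
      rw [actV_point h hc, Equiv.apply_symm_apply]
    exact hall y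

/-- The automorphism of the lattice. -/
noncomputable def lift (h : GenOK cols E L N Ni) (hc : imgChk cols cb cc = true) : fourRu :=
  ⟨Equiv.ofBijective _ (actV_bijective h hc), fun v w => actV_add hc v w,
    fun v => actV_I h hc v, fun v => actV_norm h hc v⟩

theorem toSym_lift (h : GenOK cols E L N Ni) (hc : imgChk cols cb cc = true) :
    toSym (lift h hc) = ⟨genPerm h, genPerm_mem h⟩ :=
  Subtype.ext (Equiv.ext fun p => latPt_injective ((latPt_img _ p).trans (actV_point h hc p)))

end lift

theorem gI_four (v : RuVec) : gI • gI • gI • gI • v = v := by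
  refine RuLattice.co_ext fun j => ?_
  rw [co_gI, co_gI, co_gI, co_gI]
  exact congrFun (rot_four (RuLattice.co v)) j

/-- Multiplication by `i` as an automorphism. -/
noncomputable def unitI : fourRu :=
  ⟨⟨ruI, fun v => ruI (ruI (ruI v)), fun v => Subtype.ext (gI_four v), fun v => Subtype.ext (gI_four v)⟩,
    fun v w => Subtype.ext (smul_add _ _ _), fun _ => rfl, fun v => by
      show ruNorm (gI • (v : RuVec)) = _
      rw [RuLattice.ruNorm_eq, RuLattice.ruNorm_eq, co_gI]
      exact lin_rot_rot _ _⟩

theorem toSym_unitI : toSym unitI = ⟨scalar 1, scalar_mem 1⟩ :=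
  Subtype.ext (Equiv.ext fun p => latPt_injective ((latPt_img _ p).trans (latPt_rotP p).symm))

theorem scalar_pow (c : Fin 4) : (⟨scalar c, scalar_mem c⟩ : sym) = ⟨scalar 1, scalar_mem 1⟩ ^ c.1 := by
  refine Subtype.ext (Equiv.ext fun p => ?_)
  rw [SubgroupClass.coe_pow]
  have h : ∀ k : ℕ, ((scalar 1) ^ k) p = (p.1, p.2 + Fin.ofNat 4 k) := by
    intro k
    induction k with
    | zero => exact Prod.ext rfl (add_zero _).symm
    | succ k ih =>
        rw [pow_succ', Equiv.Perm.mul_apply, ih]
        refine Prod.ext rfl (Fin.ext ?_)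
        simp only [scalar, Equiv.coe_fn_mk, Fin.val_add, Fin.val_ofNat, Fin.val_one]
        omega
  rw [h, show Fin.ofNat 4 c.1 = c from Fin.ext (Nat.mod_eq_of_lt c.2)]
  rfl

theorem card_sym_and_range :
    toSym.range = ⊤ ∧ Nat.card sym = 583704576000 := by
  set R := toSym.range
  have hA : symA ∈ R := ⟨_, toSym_lift genA imgA_ok⟩
  have hB : symB ∈ R := ⟨_, toSym_lift genB imgB_ok⟩
  have hI : ∀ c : Fin 4, (⟨scalar c, scalar_mem c⟩ : sym) ∈ R := fun c => by
    rw [scalar_pow c]; exact pow_mem (show (⟨scalar 1, scalar_mem 1⟩ : sym) ∈ R from ⟨unitI, toSym_unitI⟩) _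
  let φ := lineHom.comp R.subtype
  have hge : grp ≤ φ.range := (Subgroup.closure_le _).2 (by
    rintro g (rfl | rfl)
    exacts [⟨⟨_, hA⟩, rfl⟩, ⟨⟨_, hB⟩, rfl⟩])
  have h1 := φ.ker.card_mul_index
  rw [Subgroup.index_ker] at h1
  have h2 : 4 ≤ Nat.card φ.ker := by
    refine le_trans (le_of_eq (Nat.card_fin 4).symm) (Nat.card_le_card_of_injective
      (fun c => (⟨⟨⟨scalar c, scalar_mem c⟩, hI c⟩, MonoidHom.mem_ker.2 (lineHom_scalar c)⟩ : φ.ker))
      fun c d h => ?_)
    have h' := congrArg (fun z : φ.ker => (((z : R) : sym) : Equiv.Perm Pt) ((0 : Fin 4060), 0)) h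
    simpa [scalar] using h'
  have h3 : 145926144000 ≤ Nat.card φ.range := card_grp_and_stab.1 ▸ Subgroup.card_le_of_le hge
  have h4 := Nat.mul_le_mul h2 h3
  have h5 : Nat.card R ≤ Nat.card sym := R.card_le_card_group
  have h6 := card_sym_le
  have h7 : Nat.card R = Nat.card sym := by omega
  exact ⟨Subgroup.eq_top_of_card_eq R h7, by omega⟩

/-- The lattice automorphisms are the symmetries of the points. -/
noncomputable def equivSym : fourRu ≃* sym :=
  MulEquiv.ofBijective toSym ⟨toSym_injective, MonoidHom.range_eq_top.1 card_sym_and_range.1⟩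

/-- The action of the automorphisms on the lines. -/
noncomputable def onLines : fourRu →* Equiv.Perm (Fin 4060) := lineHom.comp toSym

theorem onLines_facts : onLines.range = grp ∧ Nat.card onLines.ker = 4 := by
  have h1 := lineHom.ker.card_mul_index
  rw [Subgroup.index_ker, card_sym_and_range.2] at h1
  have hle : Nat.card lineHom.range ≤ 145926144000 := card_range_le
  have hge : 145926144000 ≤ Nat.card lineHom.range :=
    card_grp_and_stab.1 ▸ Subgroup.card_le_of_le grp_le
  have hr : grp = lineHom.range :=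
    Subgroup.eq_of_le_of_card_ge grp_le (by rw [card_grp_and_stab.1]; exact hle)
  have hrange : onLines.range = lineHom.range := by
    rw [onLines, MonoidHom.range_eq_map, MonoidHom.range_eq_map, ← Subgroup.map_map,
      ← MonoidHom.range_eq_map toSym, card_sym_and_range.1]
  refine ⟨hrange.trans hr.symm, ?_⟩
  have e : Nat.card lineHom.ker = 4 := by
    rw [le_antisymm hle hge] at h1
    exact Nat.eq_of_mul_eq_mul_right (Nat.succ_pos 145926143999) (h1.trans (by norm_num))
  rw [← e]
  refine Nat.card_congr (Equiv.subtypeEquiv equivSym.toEquiv fun f => ?_)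
  exact Iff.rfl

theorem ker_lineHom_scalar {σ : sym} (h : lineHom σ = 1) : ∃ c, σ = ⟨scalar c, scalar_mem c⟩ := by
  have hsub : ∀ c : Fin 4, (⟨scalar c, scalar_mem c⟩ : sym) ∈ lineHom.ker := fun c =>
    MonoidHom.mem_ker.2 (lineHom_scalar c)
  have h4 : Nat.card lineHom.ker = 4 := by
    rw [← onLines_facts.2]
    exact (Nat.card_congr (Equiv.subtypeEquiv equivSym.toEquiv fun f => Iff.rfl)).symm
  have hbij : Function.Bijective fun c : Fin 4 => (⟨⟨scalar c, scalar_mem c⟩, hsub c⟩ : lineHom.ker) := by
    rw [Nat.bijective_iff_injective_and_card]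
    refine ⟨fun c d h => ?_, by rw [Nat.card_fin, h4]⟩
    have h' := congrArg (fun z : lineHom.ker => ((z : sym) : Equiv.Perm Pt) ((0 : Fin 4060), 0)) h
    simpa [scalar] using h'
  obtain ⟨c, hc⟩ := hbij.2 ⟨σ, MonoidHom.mem_ker.2 h⟩
  exact ⟨c, (congrArg Subtype.val hc).symm⟩

theorem scalar_comm {σ : Equiv.Perm Pt} (hσ : σ ∈ sym) (c : Fin 4) : scalar c * σ = σ * scalar c := by
  have h : (scalar 1) * σ = σ * scalar 1 := Equiv.ext fun p => (hσ.2 p).symm
  have e := congrArg Subtype.val (scalar_pow c)
  rw [SubgroupClass.coe_pow] at e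
  simp only at e
  rw [e]
  exact (Commute.pow_left h c.1).eq

theorem center_eq : Subgroup.center fourRu = onLines.ker := by
  refine le_antisymm (fun z hz => ?_) (fun z hz => Subgroup.mem_center_iff.2 fun f => ?_)
  · rw [MonoidHom.mem_ker]
    by_contra hne
    have := isSimple_grp
    have hzr : onLines z ∈ grp := onLines_facts.1 ▸ ⟨z, rfl⟩
    have hcen : (⟨onLines z, hzr⟩ : grp) ∈ Subgroup.center grp := by
      refine Subgroup.mem_center_iff.2 fun g => ?_
      obtain ⟨f, hf⟩ : g.1 ∈ onLines.range := onLines_facts.1.symm ▸ g.2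
      refine Subtype.ext ?_
      show g.1 * onLines z = onLines z * g.1
      rw [← hf, ← map_mul, ← map_mul, Subgroup.mem_center_iff.1 hz f]
    rcases Subgroup.Normal.eq_bot_or_eq_top (inferInstance : (Subgroup.center grp).Normal) with hb | ht
    · rw [hb, Subgroup.mem_bot] at hcen
      exact hne (congrArg Subtype.val hcen)
    · have hab : ∀ a b : grp, a * b = b * a := fun a b =>
        Subgroup.mem_center_iff.1 (ht ▸ Subgroup.mem_top b) a
      have hn : (stab0).Normal := ⟨fun n hn g => by rw [hab g n, mul_inv_cancel_right]; exact hn⟩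
      have hcard := card_grp_and_stab
      rcases Subgroup.Normal.eq_bot_or_eq_top hn with h0 | h1
      · rw [h0, Subgroup.card_bot] at hcard; omega
      · rw [h1, Subgroup.card_top] at hcard; omega
  · obtain ⟨c, hc⟩ := ker_lineHom_scalar (σ := toSym z) (MonoidHom.mem_ker.1 hz)
    refine toSym_injective ?_
    rw [map_mul, map_mul, hc]
    exact Subtype.ext (scalar_comm (toSym f).2 c).symm

/-- The quotient by the centre is the group on the lines. -/
noncomputable def ruEquiv : Ru ≃* grp :=
  (QuotientGroup.quotientMulEquivOfEq center_eq).trans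
    ((QuotientGroup.quotientKerEquivRange onLines).trans (MulEquiv.subgroupCongr onLines_facts.1))

theorem ru_facts : Nat.card (Subgroup.center fourRu) = 4 ∧ Nat.card Ru = 145926144000 ∧
    IsSimpleGroup Ru := by
  refine ⟨by rw [center_eq]; exact onLines_facts.2, ?_, ?_⟩
  · rw [Nat.card_congr ruEquiv.toEquiv, card_grp_and_stab.1]
  · have := isSimple_grp
    exact ruEquiv.isSimpleGroup_congr.2 this

end CfsgLib.RuPerm
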