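import Mathlib

/-!
Simplicity of a primitive permutation group generated by elements of a prime order not dividing
the order of a point stabiliser, from suborbit labels.
-/

set_option autoImplicit false

namespace CfsgLib.RuPerm

open scoped Classical

variable {G X : Type*} [Group G] [Finite G] [MulAction G X] [Finite X] [FaithfulSMul G X]
  [MulAction.IsPretransitive G X]

/-- The criterion. -/
theorem isSimpleGroup_of_suborbits (x : X) (lab : X → ℕ) (sizes : List ℕ) (N0 : ℕ)
    (hlab : ∀ u, lab u < sizes.length)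
    (hx : ∀ u, lab u = lab x → u = x)
    (hsize : ∀ l < sizes.length, {u | lab u = l}.ncard = sizes.getD l 0)
    (horb : ∀ u v, lab u = lab v → v ∈ MulAction.orbit (MulAction.stabilizer G x) u)
    (hblocks : ∀ s ∈ (Finset.range sizes.length).powerset, lab x ∈ s →
      (∑ l ∈ s, sizes.getD l 0) ∣ Nat.card X → s = {lab x} ∨ s = Finset.range sizes.length)
    (hcard : Nat.card G = Nat.card X * N0) (hne : 1 < Nat.card X)
    (p : ℕ) (hp : Nat.Coprime p N0) (S : Set G) (hS : Subgroup.closure S = ⊤)
    (hSp : ∀ s ∈ S, s ^ p = 1) : IsSimpleGroup G := by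
  have : Nontrivial G := by
    rw [← Finite.one_lt_card_iff_nontrivial, hcard]
    have : 0 < Nat.card X * N0 := hcard ▸ Nat.card_pos
    have : 0 < N0 := Nat.pos_of_mul_pos_left this
    calc 1 < Nat.card X * 1 := by omega
      _ ≤ _ := Nat.mul_le_mul_left _ this
  refine IsSimpleGroup.mk fun N hN => ?_
  have : Fintype X := Fintype.ofFinite X
  set O : Finset X := Finset.univ.filter fun u => u ∈ MulAction.orbit N x with hO
  have hOset : (O : Set X) = MulAction.orbit N x := by ext; simp [hO]
  have hclosed : ∀ u v, lab u = lab v → u ∈ O → v ∈ O := by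
    intro u v h hu
    simp only [hO, Finset.mem_filter, Finset.mem_univ, true_and] at hu ⊢
    obtain ⟨⟨g, hg⟩, rfl⟩ := horb u v h
    obtain ⟨⟨k, hk⟩, rfl⟩ := hu
    refine ⟨⟨g * k * g⁻¹, hN.conj_mem k hk g⟩, ?_⟩
    show (g * k * g⁻¹) • x = g • (k • x)
    have hgx : g⁻¹ • x = x := MulAction.mem_stabilizer_iff.1 (inv_mem hg)
    rw [mul_smul, mul_smul, hgx]
  set s := O.image lab with hs
  have hdvd : O.card ∣ Nat.card X := by
    have hB : MulAction.IsBlock G (MulAction.orbit N x) := MulAction.IsBlock.orbit_of_normal x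
    have := hB.ncard_dvd_card ⟨x, MulAction.mem_orbit_self x⟩
    rwa [← hOset, Set.ncard_coe_finset] at this
  have hsum : O.card = ∑ l ∈ s, sizes.getD l 0 := by
    rw [Finset.card_eq_sum_card_image lab O]
    refine Finset.sum_congr rfl fun l hl => ?_
    obtain ⟨v, hv, rfl⟩ := Finset.mem_image.1 hl
    rw [← hsize _ (hlab v), ← Set.ncard_coe_finset]
    congr 1
    ext u
    simp only [Finset.coe_filter, Set.mem_ofPred_eq]
    exact ⟨fun h => h.2, fun h => ⟨hclosed v u h.symm hv, h⟩⟩
  have hxO : x ∈ O := by simp [hO]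
  rcases hblocks s (Finset.mem_powerset.2 fun l hl => by
      obtain ⟨v, -, rfl⟩ := Finset.mem_image.1 hl
      exact Finset.mem_range.2 (hlab v)) (Finset.mem_image.2 ⟨x, hxO, rfl⟩) (hsum ▸ hdvd) with h | h
  · left
    have hfix : ∀ k ∈ N, k • x = x := by
      intro k hk
      apply hx
      have hm : k • x ∈ O := by
        simp only [hO, Finset.mem_filter, Finset.mem_univ, true_and]
        exact ⟨⟨k, hk⟩, rfl⟩
      have := Finset.mem_image_of_mem lab hm
      rw [← hs, h, Finset.mem_singleton] at this
      exact this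
    rw [eq_bot_iff]
    intro k hk
    rw [Subgroup.mem_bot]
    refine eq_of_smul_eq_smul (α := X) fun u => ?_
    obtain ⟨g, rfl⟩ := MulAction.exists_smul_eq G x u
    have hc : (g⁻¹ * k * g) • x = x := hfix _ (by simpa using hN.conj_mem k hk g⁻¹)
    calc k • g • x = g • ((g⁻¹ * k * g) • x) := by rw [← mul_smul, ← mul_smul]; group
      _ = g • x := by rw [hc]
      _ = (1 : G) • g • x := (one_smul _ _).symm
  · right
    have hall : MulAction.orbit N x = Set.univ := by
      rw [Set.eq_univ_iff_forall]
      intro u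
      rw [← hOset]
      have : lab u ∈ s := by rw [h]; exact Finset.mem_range.2 (hlab u)
      obtain ⟨v, hv, hvu⟩ := Finset.mem_image.1 this
      exact hclosed v u hvu hv
    have hidx : N.index ∣ N0 := by
      have h1 : Nat.card X ∣ Nat.card N := by
        rw [← Set.ncard_univ, ← hall, ← MulAction.index_stabilizer]
        exact Subgroup.index_dvd_card _
      obtain ⟨m, hm⟩ := h1
      have h2 := N.card_mul_index
      rw [hcard, hm, mul_assoc] at h2
      exact Dvd.intro_left m (Nat.eq_of_mul_eq_mul_left (by omega) h2)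
    refine top_le_iff.1 (hS ▸ (Subgroup.closure_le _).2 fun s hs => ?_)
    rw [SetLike.mem_coe, ← QuotientGroup.eq_one_iff (N := N), ← orderOf_eq_one_iff]
    refine Nat.eq_one_of_dvd_coprimes hp ?_ ((orderOf_dvd_natCard _).trans hidx)
    exact orderOf_dvd_of_pow_eq_one (by rw [← QuotientGroup.mk_pow, hSp s hs, QuotientGroup.mk_one])

end CfsgLib.RuPerm
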