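import Cfsg.Agent.Lib.RuPerm.Gens

/-! The first generating symmetry. -/

set_option autoImplicit false
set_option Elab.async false

namespace CfsgLib.RuPerm

open CfsgLib.SporRecognition.CosetCert

theorem genA_bound : ∀ p q : Fin 56, |colAt Data.colsA p q| ≤ 4 := by decide +kernel

theorem genA_gram : ∀ p r : Fin 56,
    ∑ q, colAt Data.colsA p q * colAt Data.colsA r q = if p = r then 16 else 0 := by decide +kernel

theorem genA_comm : ∀ p q : Fin 56, rotT (fun p' => colAt Data.colsA p' q) p =
    if q.1 % 2 = 0 then -colAt Data.colsA p (pcoord q) else colAt Data.colsA p (pcoord q) := by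
  decide +kernel

theorem genA_packed : ∀ p : Fin 56,
    wAt Data.colEncA 512 p.1 = enc fun q => colAt Data.colsA p q := by decide +kernel

theorem genA_lines : allBelow 12 4060 (liftStep Data.colEncA Data.liftA Data.n0) = true := by
  decide +kernel

theorem genA_inv : allBelow 12 4060 (invStep (tab Data.n0 12) (tab Data.n0i 12) 4060) = true := by
  decide +kernel

theorem genA_inv' : allBelow 12 4060 (invStep (tab Data.n0i 12) (tab Data.n0 12) 4060) = true := by
  decide +kernel

theorem genA : GenOK Data.colsA Data.colEncA Data.liftA Data.n0 Data.n0i :=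
  ⟨genA_bound, genA_gram, genA_comm, genA_packed, genA_lines, genA_inv, genA_inv'⟩

end CfsgLib.RuPerm
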