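import Cfsg.Agent.Lib.RuPerm.Gens

/-! The second generating symmetry. -/

set_option autoImplicit false
set_option Elab.async false

namespace CfsgLib.RuPerm

open CfsgLib.SporRecognition.CosetCert

theorem genB_bound : ∀ p q : Fin 56, |colAt Data.colsB p q| ≤ 4 := by decide +kernel

theorem genB_gram : ∀ p r : Fin 56,
    ∑ q, colAt Data.colsB p q * colAt Data.colsB r q = if p = r then 16 else 0 := by decide +kernel

theorem genB_comm : ∀ p q : Fin 56, rotT (fun p' => colAt Data.colsB p' q) p =
    if q.1 % 2 = 0 then -colAt Data.colsB p (pcoord q) else colAt Data.colsB p (pcoord q) := by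
  decide +kernel

theorem genB_packed : ∀ p : Fin 56,
    wAt Data.colEncB 512 p.1 = enc fun q => colAt Data.colsB p q := by decide +kernel

theorem genB_lines : allBelow 12 4060 (liftStep Data.colEncB Data.liftB Data.n1) = true := by
  decide +kernel

theorem genB_inv : allBelow 12 4060 (invStep (tab Data.n1 12) (tab Data.n1i 12) 4060) = true := by
  decide +kernel

theorem genB_inv' : allBelow 12 4060 (invStep (tab Data.n1i 12) (tab Data.n1 12) 4060) = true := by
  decide +kernel

theorem genB : GenOK Data.colsB Data.colEncB Data.liftB Data.n1 Data.n1i :=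
  ⟨genB_bound, genB_gram, genB_comm, genB_packed, genB_lines, genB_inv, genB_inv'⟩

end CfsgLib.RuPerm
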