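import Cfsg.Agent.Lib.RuPerm.Rigid
import Cfsg.Agent.Lib.RuPerm.Data.Gens
import Cfsg.Agent.Lib.RuPerm.Data.Nodes

/-! The two generating symmetries and the action of the symmetries on the lines. -/

set_option autoImplicit false
set_option Elab.async false

namespace CfsgLib.RuPerm

open CfsgLib.SporRecognition.CosetCert

/-- Entry `q` of column `p`. -/
def colAt (cols : List (List ℤ)) (p q : Fin 56) : ℤ := (cols.getD p.1 []).getD q.1 0

/-- The linear map with the given columns. -/
def linMap (cols : List (List ℤ)) (f : Fin 56 → ℤ) (q : Fin 56) : ℤ :=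
  lin (fun p => colAt cols p q) f

/-- One line is sent to the recorded point. -/
noncomputable def liftStep (E : ℕ) (L N : BTree) (i : ℕ) : Bool :=
  Nat.beq (Nat.shiftRight (tab L 14 i) 2) (tab N 12 i) &&
    decide (linK i E 512 = 4 * encP (Nat.shiftRight (tab L 14 i) 2) (Nat.land (tab L 14 i) 3))

/-- The data of a generator is consistent. -/
structure GenOK (cols : List (List ℤ)) (E : ℕ) (L N Ni : BTree) : Prop where
  bound : ∀ p q, |colAt cols p q| ≤ 4
  gram : ∀ p r, ∑ q, colAt cols p q * colAt cols r q = if p = r then 16 else 0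
  comm : ∀ p q, rotT (fun p' => colAt cols p' q) p =
    if q.1 % 2 = 0 then -colAt cols p (pcoord q) else colAt cols p (pcoord q)
  packed : ∀ p, wAt E 512 p.1 = enc fun q => colAt cols p q
  lines : allBelow 12 4060 (liftStep E L N) = true
  inv : allBelow 12 4060 (invStep (tab N 12) (tab Ni 12) 4060) = true
  inv' : allBelow 12 4060 (invStep (tab Ni 12) (tab N 12) 4060) = true

section

variable {cols : List (List ℤ)} {E : ℕ} {L N Ni : BTree}

theorem enc_linMap (h : GenOK cols E L N Ni) (f : Fin 56 → ℤ) :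
    enc (linMap cols f) = lin (fun p => wAt E 512 p.1) f := by
  simp only [enc, lin, linMap, h.packed, Finset.sum_mul, Finset.mul_sum, mul_assoc]
  exact Finset.sum_comm

theorem linMap_rot (h : GenOK cols E L N Ni) (f : Fin 56 → ℤ) :
    linMap cols (rot f) = rot (linMap cols f) := by
  funext q
  show lin (fun p => colAt cols p q) (rot f) = rot (linMap cols f) q
  rw [lin_rot, show rotT (fun p => colAt cols p q) = fun p =>
    if q.1 % 2 = 0 then -colAt cols p (pcoord q) else colAt cols p (pcoord q) from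
      funext fun p => h.comm p q]
  by_cases hq : q.1 % 2 = 0 <;> simp [rot, linMap, lin, hq]

theorem lin_linMap (h : GenOK cols E L N Ni) (f g : Fin 56 → ℤ) :
    lin (linMap cols f) (linMap cols g) = 16 * lin f g := by
  simp only [lin, linMap, Finset.sum_mul, Finset.mul_sum]
  rw [Finset.sum_comm]
  refine Finset.sum_congr rfl fun p _ => ?_
  rw [Finset.sum_comm]
  have : ∀ r, (∑ q, g r * colAt cols r q * (f p * colAt cols p q)) =
      g r * f p * if r = p then 16 else 0 := by
    intro r
    rw [← h.gram, Finset.mul_sum]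
    exact Finset.sum_congr rfl fun q _ => by ring
  simp only [this, mul_ite, mul_zero, Finset.sum_ite_eq', Finset.mem_univ, if_true]
  ring

theorem abs_linMap_le (h : GenOK cols E L N Ni) (f : Fin 56 → ℤ) (hf : ∑ p, |f p| ≤ 16) (q : Fin 56) :
    |linMap cols f q| ≤ 64 := by
  simp only [linMap, lin]
  calc |∑ p, f p * colAt cols p q| ≤ ∑ p, |f p * colAt cols p q| := Finset.abs_sum_le_sum_abs _ _
    _ ≤ ∑ p, |f p| * 4 := Finset.sum_le_sum fun p _ => by
        rw [abs_mul]; exact mul_le_mul_of_nonneg_left (h.bound p q) (abs_nonneg _)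
    _ ≤ 64 := by rw [← Finset.sum_mul]; linarith

/-- The phase by which a line is moved. -/
noncomputable def phase (L : BTree) (i : ℕ) : Fin 4 :=
  ⟨tab L 14 i % 4, Nat.mod_lt _ (by norm_num)⟩

theorem lt_of_invStep {T T' : BTree} (h : allBelow 12 4060 (invStep (tab T 12) (tab T' 12) 4060) = true)
    (i : Fin 4060) : tab T 12 i < 4060 ∧ tab T' 12 (tab T 12 i) = i := by
  have := allBelow_spec h i i.2
  simp only [invStep, Bool.and_eq_true] at this
  exact ⟨by simpa [Nat.blt_eq] using this.1, Nat.eq_of_beq_eq_true this.2⟩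

attribute [local irreducible] code linK encP tab vecF posOf valOf linMap
seal vec

theorem linMap_vecF (h : GenOK cols E L N Ni) (i : Fin 4060) :
    linMap cols (vecF i) = 4 • vec (⟨tab N 12 i, (lt_of_invStep h.inv i).1⟩, phase L i) := by
  have hs := allBelow_spec h.lines i i.2
  simp only [liftStep, Bool.and_eq_true, decide_eq_true_eq, Nat.beq_eq] at hs
  refine enc_inj (fun c => ?_) ?_
  · have h1 := abs_linMap_le h (vecF i) (abs_vecF_le i) c
    have h2 := abs_le.1 (abs_vec_le (⟨tab N 12 i, (lt_of_invStep h.inv i).1⟩, phase L i) c)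
    have h1' := abs_le.1 h1
    rw [Pi.smul_apply, nsmul_eq_mul, abs_lt]
    constructor <;> push_cast <;> linarith
  · rw [enc_linMap h, lin_vecF E 512 (posOf_lt i), hs.2, hs.1]
    have he : Nat.land (tab L 14 i) 3 = (phase L i).1 := by
      show tab L 14 i &&& 3 = tab L 14 i % 4
      rw [show (3 : ℕ) = 2 ^ 2 - 1 from rfl, Nat.and_two_pow_sub_one_eq_mod]
    rw [he, ← enc_vec (⟨tab N 12 i, (lt_of_invStep h.inv i).1⟩, phase L i)]
    simp only [enc, lin, Pi.smul_apply, nsmul_eq_mul, Finset.mul_sum, mul_assoc]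
    rfl

/-- The permutation of the points. -/
noncomputable def genPerm (h : GenOK cols E L N Ni) : Equiv.Perm Pt where
  toFun p := (⟨tab N 12 p.1, (lt_of_invStep h.inv p.1).1⟩, p.2 + phase L p.1)
  invFun p := (⟨tab Ni 12 p.1, (lt_of_invStep h.inv' p.1).1⟩, p.2 - phase L (tab Ni 12 p.1))
  left_inv p := by
    have h1 := (lt_of_invStep h.inv p.1).2
    refine Prod.ext (Fin.ext h1) ?_
    show p.2 + phase L p.1 - phase L (tab Ni 12 (tab N 12 p.1)) = p.2
    rw [h1, add_sub_cancel_right]
  right_inv p := by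
    have h1 := (lt_of_invStep h.inv' p.1).2
    refine Prod.ext (Fin.ext h1) ?_
    show p.2 - phase L (tab Ni 12 p.1) + phase L (tab Ni 12 p.1) = p.2
    rw [sub_add_cancel]

theorem linMap_vec (h : GenOK cols E L N Ni) (p : Pt) :
    linMap cols (vec p) = 4 • vec (genPerm h p) := by
  have hi : ∀ e, linMap cols (rot^[e] (vecF p.1.1)) = rot^[e] (linMap cols (vecF p.1.1)) := by
    intro e
    induction e with
    | zero => rfl
    | succ e ih => rw [Function.iterate_succ_apply', Function.iterate_succ_apply', linMap_rot h, ih]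
  have hsmul : ∀ (e : ℕ) (f : Fin 56 → ℤ), rot^[e] (4 • f) = 4 • rot^[e] f := by
    intro e f
    induction e with
    | zero => rfl
    | succ e ih =>
        rw [Function.iterate_succ_apply', Function.iterate_succ_apply', ih]
        funext c
        simp only [rot, Pi.smul_apply, nsmul_eq_mul]
        split <;> ring
  rw [show vec p = rot^[p.2.1] (vecF p.1.1) by unfold vec; rfl]
  rw [hi, linMap_vecF h, hsmul]
  congr 1
  simp only [vec, genPerm, Equiv.coe_fn_mk]
  rw [← Function.iterate_add_apply, Fin.val_add, rot_iter_mod]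

theorem genPerm_mem (h : GenOK cols E L N Ni) : genPerm h ∈ sym := by
  refine ⟨fun p q => ?_, fun p => ?_⟩
  · have h1 := lin_linMap h (vec q) (vec p)
    rw [linMap_vec h, linMap_vec h] at h1
    simp only [lin, Pi.smul_apply, nsmul_eq_mul] at h1
    have h2 : 16 * ip (genPerm h p) (genPerm h q) = 16 * ip p q := by
      simp only [ip, lin]
      rw [← h1, Finset.mul_sum]
      exact Finset.sum_congr rfl fun c _ => by push_cast; ring
    linarith
  · exact Prod.ext rfl (by simp only [genPerm, rotP, Equiv.coe_fn_mk]; abel)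

end

theorem fst_apply_eq {σ : Equiv.Perm Pt} (hσ : σ ∈ sym) (p : Pt) : (σ p).1 = (σ (p.1, 0)).1 := by
  have h : ∀ e : ℕ, (σ (p.1, Fin.ofNat 4 e)).1 = (σ (p.1, 0)).1 := by
    intro e
    induction e with
    | zero => rfl
    | succ e ih =>
        have he : (p.1, Fin.ofNat 4 (e + 1)) = rotP (p.1, Fin.ofNat 4 e) :=
          Prod.ext rfl (Fin.ext (by simp [rotP, Fin.val_add]))
        rw [he, hσ.2]; exact ih
  have := h p.2.1
  rwa [show Fin.ofNat 4 p.2.1 = p.2 from Fin.ext (Nat.mod_eq_of_lt p.2.2)] at this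

theorem fst_mul {σ : Equiv.Perm Pt} (hσ : σ ∈ sym) (τ : Equiv.Perm Pt) (i : Fin 4060) :
    (σ ((τ (i, 0)).1, 0)).1 = ((σ * τ) (i, 0)).1 :=
  (fst_apply_eq hσ (τ (i, 0))).symm

/-- The permutation of the lines. -/
noncomputable def linePerm (σ : sym) : Equiv.Perm (Fin 4060) where
  toFun i := (σ.1 (i, 0)).1
  invFun i := (σ.1⁻¹ (i, 0)).1
  left_inv i := by
    show (σ.1⁻¹ ((σ.1 (i, 0)).1, 0)).1 = i
    rw [fst_mul (inv_mem σ.2), inv_mul_cancel]; rfl
  right_inv i := by
    show (σ.1 ((σ.1⁻¹ (i, 0)).1, 0)).1 = i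
    rw [fst_mul σ.2, mul_inv_cancel]; rfl

/-- The action on the lines. -/
noncomputable def lineHom : sym →* Equiv.Perm (Fin 4060) where
  toFun := linePerm
  map_one' := Equiv.ext fun _ => rfl
  map_mul' σ τ := Equiv.ext fun i => (fst_mul σ.2 τ.1 i).symm

theorem lineHom_apply (σ : sym) (i : Fin 4060) : lineHom σ i = (σ.1 (i, 0)).1 := rfl

/-- The scalar `i ^ c`. -/
def scalar (c : Fin 4) : Equiv.Perm Pt where
  toFun p := (p.1, p.2 + c)
  invFun p := (p.1, p.2 - c)
  left_inv p := by simp
  right_inv p := by simp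

theorem lin_rot_rot (f g : Fin 56 → ℤ) : lin (rot f) (rot g) = lin f g := by
  rw [lin_rot]
  congr 1
  funext c
  simp only [rotT, rot, pcoord_pcoord, pcoord_parity]
  by_cases h : c.1 % 2 = 0 <;> simp [h]

theorem scalar_mem (c : Fin 4) : scalar c ∈ sym := by
  refine ⟨fun p q => ?_, fun p => Prod.ext rfl (by simp only [scalar, rotP, Equiv.coe_fn_mk]; abel)⟩
  have h : ∀ p, vec (scalar c p) = rot^[c.1] (vec p) := by
    intro p
    simp only [vec, scalar, Equiv.coe_fn_mk]
    rw [← Function.iterate_add_apply, Fin.val_add, rot_iter_mod, add_comm]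
  simp only [ip, h]
  generalize c.1 = e
  induction e with
  | zero => rfl
  | succ e ih => rw [Function.iterate_succ_apply', Function.iterate_succ_apply', lin_rot_rot, ih]

theorem lineHom_scalar (c : Fin 4) : lineHom ⟨scalar c, scalar_mem c⟩ = 1 := Equiv.ext fun _ => rfl

theorem card_range_le : Nat.card lineHom.range ≤ 145926144000 := by
  have h1 := lineHom.ker.card_mul_index
  rw [Subgroup.index_ker] at h1
  have h2 : 4 ≤ Nat.card lineHom.ker := by
    refine le_trans (le_of_eq (Nat.card_fin 4).symm) (Nat.card_le_card_of_injective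
      (fun c => (⟨⟨scalar c, scalar_mem c⟩, MonoidHom.mem_ker.2 (lineHom_scalar c)⟩ : lineHom.ker))
      fun c d h => ?_)
    have h' := congrArg (fun z : lineHom.ker => ((z : sym) : Equiv.Perm Pt) ((0 : Fin 4060), 0)) h
    simpa [scalar] using h'
  have h3 := card_sym_le
  have h4 := Nat.mul_le_mul_right (Nat.card lineHom.range) h2
  omega

theorem lines_phase : ∀ j : Fin 6, ∀ e : Fin 4, j.1 ≠ 0 →
    ip (⟨j.1, by omega⟩, e) (bpt 0) = ip (bpt j) (bpt 0) → e = 0 := by
  decide +kernel

theorem eq_one_of_fix_lines {g : Equiv.Perm (Fin 4060)} (hg : g ∈ lineHom.range)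
    (hfix : ∀ i : Fin 4060, i.1 < 6 → g i = i) : g = 1 := by
  obtain ⟨σ, rfl⟩ := hg
  set c := (σ.1 (bpt 0)).2
  set τ : sym := ⟨scalar (-c), scalar_mem _⟩ * σ
  have hl : ∀ j : Fin 6, (τ.1 (bpt j)).1 = (bpt j).1 := fun j => hfix ⟨j.1, by omega⟩ j.2
  have h0 : τ.1 (bpt 0) = bpt 0 := Prod.ext (hl 0) (by show c + -c = 0; rw [add_neg_cancel])
  have hone : τ.1 = 1 := eq_one_of_fix τ.2 fun j => by
    rcases Nat.eq_zero_or_pos j.1 with h | h
    · rw [show j = 0 from Fin.ext h]; exact h0
    · refine Prod.ext (hl j) (lines_phase j _ (by omega) ?_)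
      have h1 := τ.2.1 (bpt j) (bpt 0)
      rw [h0] at h1
      rw [← h1, show τ.1 (bpt j) = (⟨j.1, by omega⟩, (τ.1 (bpt j)).2) from Prod.ext (hl j) rfl]
  have := congrArg lineHom (Subtype.ext hone : τ = 1)
  rwa [map_mul, lineHom_scalar, one_mul, map_one] at this

end CfsgLib.RuPerm
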