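import Cfsg.Agent.Lib.RuPerm.Orbit
import Cfsg.Agent.Lib.RuPerm.Data.Orbits

/-! The order and the simplicity of the group on the lines. -/

set_option autoImplicit false
set_option Elab.async false

namespace CfsgLib.RuPerm

open CfsgLib.SporRecognition.CosetCert

/-- The roots of the suborbits of the line `0`. -/
noncomputable def pRoot (l : ℕ) : ℕ := [0, 1, 2305].getD l 0

/-- The sizes of the suborbits. -/
def pSizes : List ℕ := [1, 2304, 1755]

/-- Label of a line. -/
noncomputable def pLabel (i : ℕ) : ℕ := tab Data.pLab 2 i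

/-- Tree check from the line `0` under the group. -/
noncomputable def hTreeStep (i : ℕ) : Bool :=
  treeStep [tab Data.n0 12, tab Data.n1 12] (fun u => u) (fun _ => 0) (fun _ => 0)
    (tab Data.hRk 8) (tab Data.hVia 2) (tab Data.hSrc 12) 4060 i

/-- Tree check of the suborbits. -/
noncomputable def pTreeStep (i : ℕ) : Bool :=
  Nat.blt (pLabel i) 3 &&
    treeStep sTabs (fun u => u) pLabel pRoot (tab Data.pRk 8) (tab Data.pVia 2) (tab Data.pSrc 12) 4060 i

theorem hTree_ok : allBelow 12 4060 hTreeStep = true := by decide +kernel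

theorem pTree_ok : allBelow 12 4060 pTreeStep = true := by decide +kernel

theorem pCount_ok : ∀ l : Fin 3, countLab 12 4060 pLabel l.1 = pSizes.getD l.1 0 := by decide +kernel

theorem pBlocks_ok : ∀ s ∈ (Finset.range pSizes.length).powerset, pLabel 0 ∈ s →
    (∑ l ∈ s, pSizes.getD l 0) ∣ 4060 → s = {pLabel 0} ∨ s = Finset.range pSizes.length := by
  decide +kernel

theorem pow29_ok : allBelow 12 4060 (powStep 29 Data.n0) = true ∧
    allBelow 12 4060 (powStep 29 Data.n1) = true := by
  decide +kernel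

theorem fix0_ok : tab Data.n2 12 0 = 0 ∧ tab Data.n3 12 0 = 0 ∧ tab Data.n6 12 0 = 0 ∧
    tab Data.n6 12 (baseAt 6) = baseAt 6 := by
  decide +kernel

/-- No key agrees with the extra element. -/
noncomputable def extraStep (k : ℕ) : Bool :=
  !(allNine fun f => Nat.beq (keyAt k f) (tab Data.n6 12 (baseAt f)))

theorem extra_ok : allBelow 14 10240 extraStep = true := by decide +kernel

theorem allNine_of {f : ℕ → Bool} (h : ∀ j : Fin 9, f j.1 = true) : allNine f = true := by
  have key : ∀ m ≤ 9, (Nat.rec true (fun j r => r && f j) m : Bool) = true := by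
    intro m
    induction m with
    | zero => intro _; rfl
    | succ m ih =>
        intro hm
        show ((Nat.rec true (fun j r => r && f j) m : Bool) && f m) = true
        rw [ih (by omega), h ⟨m, by omega⟩]
        rfl
  exact key 9 le_rfl

/-- The stabiliser of the line `0`. -/
noncomputable def stab0 : Subgroup grp := MulAction.stabilizer grp (0 : Fin 4060)

/-- The subgroup inside the stabiliser of the line `0`. -/
noncomputable def subIn : Subgroup grp := sub.subgroupOf grp

theorem subIn_le : subIn ≤ stab0 := by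
  have hle : sub ≤ MulAction.stabilizer (Equiv.Perm (Fin 4060)) (0 : Fin 4060) := by
    refine (Subgroup.closure_le _).2 ?_
    rintro s (rfl | rfl)
    · exact Fin.ext ((seedC_val 0).trans fix0_ok.1)
    · exact Fin.ext ((seedD_val 0).trans fix0_ok.2.1)
  intro g hg
  exact hle hg

theorem card_subIn : Nat.card subIn = 17971200 := by
  rw [subIn, Nat.card_congr (Subgroup.subgroupOfEquivOfLe sub_le).toEquiv, card_sub]

theorem subIn_ne : subIn ≠ stab0 := by
  intro he
  obtain ⟨g, hg, hgv⟩ := real_n6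
  have hm : (⟨g, hg⟩ : grp) ∈ stab0 := Fin.ext ((hgv 0).trans fix0_ok.2.2.1)
  rw [← he] at hm
  obtain ⟨j, k, hjk⟩ := sub_eq (g := g) (Subgroup.mem_subgroupOf.1 hm)
  have hb : oLine j = oLine (0 : Fin 1755) := by
    have h := hgv (base 6)
    rw [hjk, Equiv.Perm.mul_apply, kgrp_fix (kap_mem k), tau_base] at h
    rw [h, show ((base 6 : Fin 4060) : ℕ) = baseAt 6 from rfl, fix0_ok.2.2.2, ← tau_base, tau_zero]
    rfl
  obtain rfl := oLine_inj hb
  rw [tau_zero, one_mul] at hjk
  have hex := allBelow_spec extra_ok k.1 k.2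
  have hall : allNine (fun f => Nat.beq (keyAt k.1 f) (tab Data.n6 12 (baseAt f))) = true :=
    allNine_of fun f => by
      rw [Nat.beq_eq, ← kap_val, ← hjk, hgv]
      rfl
  rw [extraStep, hall] at hex
  simp at hex

theorem grp_pretransitive : MulAction.IsPretransitive grp (Fin 4060) := by
  have key : ∀ i : Fin 4060, ∃ g : grp, g • (0 : Fin 4060) = i := by
    intro i
    obtain ⟨g, hg, r, hr, hgr⟩ := reach (G := grp) (ts := [tab Data.n0 12, tab Data.n1 12])
      (fun j hj => sel_real real_n0 real_n1 hj) (fun u hu => hu) (allBelow_spec hTree_ok) i i.2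
    obtain rfl : r = 0 := Fin.ext hr
    exact ⟨⟨g, hg⟩, Fin.ext hgr⟩
  refine ⟨fun a b => ?_⟩
  obtain ⟨g, rfl⟩ := key a
  obtain ⟨h, rfl⟩ := key b
  exact ⟨h * g⁻¹, by rw [mul_smul, inv_smul_smul]⟩

theorem card_grp_and_stab : Nat.card grp = 145926144000 ∧ Nat.card stab0 = 35942400 := by
  have := grp_pretransitive
  have h1 := stab0.card_mul_index
  rw [stab0, MulAction.index_stabilizer_of_transitive, Nat.card_fin, ← stab0] at h1
  obtain ⟨m, hm⟩ := Subgroup.card_dvd_of_le subIn_le
  have hlt : Nat.card subIn ≠ Nat.card stab0 := fun h =>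
    subIn_ne (Subgroup.eq_of_le_of_card_ge subIn_le h.ge)
  have hpos : 0 < Nat.card stab0 := Nat.card_pos
  have hb := card_grp_le
  rw [card_subIn] at hm hlt
  omega

theorem isSimple_grp : IsSimpleGroup grp := by
  have := grp_pretransitive
  have htree : ∀ i < 4060, pLabel i < 3 ∧
      treeStep sTabs (fun u => u) pLabel pRoot (tab Data.pRk 8) (tab Data.pVia 2) (tab Data.pSrc 12) 4060 i = true := by
    intro i hi
    have h := allBelow_spec pTree_ok i hi
    simp only [pTreeStep, Bool.and_eq_true, Nat.blt_eq] at h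
    exact h
  have hsize : ∀ l < pSizes.length, {u : Fin 4060 | pLabel u = l}.ncard = pSizes.getD l 0 := by
    intro l hl
    rw [← pCount_ok ⟨l, hl⟩, ← ncard_lab (by norm_num)]
  refine isSimpleGroup_of_suborbits (G := grp) (0 : Fin 4060) (fun u => pLabel u) pSizes 35942400
    (fun u => (htree u u.2).1) ?_ hsize ?_ ?_ ?_ ?_ 29 (by norm_num)
    ((↑) ⁻¹' ({lineA, lineB} : Set (Equiv.Perm (Fin 4060)))) ?_ ?_
  · intro u hu
    have h1 : pLabel ((0 : Fin 4060) : ℕ) = 0 := by decide +kernel
    have h2 := hsize 0 (by decide)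
    obtain ⟨a, ha⟩ := Set.ncard_eq_one.1 h2
    rw [h1] at hu
    exact ((Set.ext_iff.1 ha u).1 hu).trans ((Set.ext_iff.1 ha 0).1 h1).symm
  · intro u v huv
    obtain ⟨g, hg, r, hr, hgr⟩ := reach (G := sub) (fun _ h => sub_real h) (fun u hu => hu)
      (fun u hu => (htree u hu).2) u u.2
    obtain ⟨g', hg', r', hr', hgr'⟩ := reach (G := sub) (fun _ h => sub_real h) (fun u hu => hu)
      (fun u hu => (htree u hu).2) v v.2
    obtain rfl : r = r' := Fin.ext (by rw [hr, hr', huv])
    have hmem : g' * g⁻¹ ∈ sub := mul_mem hg' (inv_mem hg)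
    refine ⟨⟨⟨g' * g⁻¹, sub_le hmem⟩, subIn_le (Subgroup.mem_subgroupOf.2 hmem)⟩, ?_⟩
    show (g' * g⁻¹) u = v
    rw [Equiv.Perm.mul_apply, show u = g r from Fin.ext hgr.symm, Equiv.Perm.inv_def,
      Equiv.symm_apply_apply]
    exact Fin.ext hgr'
  · intro s hs hm hd
    rw [Nat.card_fin] at hd
    exact pBlocks_ok s hs hm hd
  · rw [card_grp_and_stab.1, Nat.card_fin]
  · rw [Nat.card_fin]; norm_num
  · exact Subgroup.closure_closure_coe_preimage
  · rintro ⟨s, hs⟩ (h | h)
    · simp only at h; subst h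
      exact Subtype.ext (pow_of_step pow29_ok.1 lineA_val)
    · simp only [Set.mem_singleton_iff] at h; subst h
      exact Subtype.ext (pow_of_step pow29_ok.2 lineB_val)

theorem subIn_equiv_simple : IsSimpleGroup (subIn.subgroupOf stab0) ∧
    Nat.card (subIn.subgroupOf stab0) = 17971200 := by
  have e := (Subgroup.subgroupOfEquivOfLe subIn_le).trans (Subgroup.subgroupOfEquivOfLe sub_le)
  have := isSimple_sub
  exact ⟨MulEquiv.isSimpleGroup e, by rw [Nat.card_congr e.toEquiv, card_sub]⟩

end CfsgLib.RuPerm
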