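import Cfsg.Agent.Lib.RuPerm.Gens
import Cfsg.Agent.Lib.RuPerm.Data.Suborbit
import Cfsg.Agent.Lib.RuPerm.Data.Keys
import Cfsg.Agent.Lib.SporRecognition.CosetCert.Tables

/-! Checks on the key tables. -/

set_option autoImplicit false
set_option Elab.async false

namespace CfsgLib.RuPerm

open CfsgLib.SporRecognition.CosetCert

/-- Entry of a packed table with `256` leaves. -/
noncomputable def tab8 (T : BTree) (w i : ℕ) : ℕ :=
  field (T.get (Nat.land i 255)) w (Nat.shiftRight i 8)

/-- The nine lines of the key. -/
noncomputable def keyAt (k f : ℕ) : ℕ := field (tab8 Data.kKey 108 k) 12 f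

/-- The base lines. -/
noncomputable def baseAt (f : ℕ) : ℕ := keyAt 0 f

theorem baseAt_ok : (∀ f : Fin 6, baseAt f.1 = f.1) ∧ baseAt 6 = 2305 ∧ baseAt 7 = 2602 ∧
    baseAt 8 = 3501 := by
  decide +kernel

theorem baseAt_lt : ∀ f : Fin 9, baseAt f.1 < 4060 := by decide +kernel

/-- The two tables of the small subgroup. -/
noncomputable def kTabs : List (ℕ → ℕ) := [tab Data.n4 12, tab Data.n5 12]

/-- The two tables of the seeds. -/
noncomputable def sTabs : List (ℕ → ℕ) := [tab Data.n2 12, tab Data.n3 12]

/-- Conjunction over the nine fields. -/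
noncomputable def allNine (f : ℕ → Bool) : Bool := Nat.rec true (fun j r => r && f j) 9

theorem allNine_spec {f : ℕ → Bool} (h : allNine f = true) (j : Fin 9) : f j.1 = true := by
  have key : ∀ m, (Nat.rec true (fun j r => r && f j) m : Bool) = true → ∀ k < m, f k = true := by
    intro m
    induction m with
    | zero => intro _ k hk; omega
    | succ m ih =>
        intro hm k hk
        have hm' : (Nat.rec true (fun j r => r && f j) m : Bool) = true ∧ f m = true := by
          simpa using hm
        rcases Nat.lt_succ_iff_lt_or_eq.1 hk with hk | rfl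
        · exact ih hm'.1 k hk
        · exact hm'.2
  exact key 9 h j.1 j.2

/-- The key hangs from its parent. -/
noncomputable def keyStep (k : ℕ) : Bool :=
  Nat.beq k 0 ||
    (Nat.blt (tab8 Data.kPar 14 k) k && Nat.blt (tab8 Data.kGen 2 k) 2 &&
      allNine fun f => Nat.beq (sel kTabs (tab8 Data.kGen 2 k) (keyAt (tab8 Data.kPar 14 k) f)) (keyAt k f))

/-- The keys are closed under a generator. -/
noncomputable def closeStep (j : ℕ) (T : BTree) (k : ℕ) : Bool :=
  Nat.blt (tab8 T 14 k) 10240 &&
    allNine fun f => Nat.beq (sel kTabs j (keyAt k f)) (keyAt (tab8 T 14 k) f)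

/-- The keys are distinct. -/
noncomputable def sortedKeyStep (k : ℕ) : Bool :=
  Nat.blt (tab8 Data.kSort 14 k) 10240 &&
    (Nat.beq k 10239 ||
      Nat.blt (tab8 Data.kKey 108 (tab8 Data.kSort 14 k)) (tab8 Data.kKey 108 (tab8 Data.kSort 14 (Nat.add k 1))))

private theorem allBelow_11 {n : ℕ} {f : ℕ → Bool} (hn : Nat.ble n (Nat.pow 2 11) = true)
    (h0 : allPow n f 9 0 = true) (h1 : allPow n f 9 512 = true) (h2 : allPow n f 9 1024 = true)
    (h3 : allPow n f 9 1536 = true) : allBelow 11 n f = true := by
  have e : allPow n f 11 0 = true := allPow_append (allPow_append h0 h1) (allPow_append h2 h3)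
  rw [allBelow, hn, e]; rfl

private theorem allBelow_14 {n : ℕ} {f : ℕ → Bool} (hn : Nat.ble n (Nat.pow 2 14) = true)
    (h0 : allPow n f 12 0 = true) (h1 : allPow n f 12 4096 = true) (h2 : allPow n f 12 8192 = true)
    (h3 : allPow n f 12 12288 = true) : allBelow 14 n f = true := by
  have e : allPow n f 14 0 = true := allPow_append (allPow_append h0 h1) (allPow_append h2 h3)
  rw [allBelow, hn, e]; rfl

theorem key_ok : allBelow 14 10240 keyStep = true :=
  allBelow_14 (by decide +kernel) (by decide +kernel) (by decide +kernel) (by decide +kernel) (by decide +kernel)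

theorem close0_ok : allBelow 14 10240 (closeStep 0 Data.kTab0) = true :=
  allBelow_14 (by decide +kernel) (by decide +kernel) (by decide +kernel) (by decide +kernel) (by decide +kernel)

theorem close1_ok : allBelow 14 10240 (closeStep 1 Data.kTab1) = true :=
  allBelow_14 (by decide +kernel) (by decide +kernel) (by decide +kernel) (by decide +kernel) (by decide +kernel)

theorem sortedKey_ok : allBelow 14 10240 sortedKeyStep = true :=
  allBelow_14 (by decide +kernel) (by decide +kernel) (by decide +kernel) (by decide +kernel) (by decide +kernel)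

/-- A line of the large suborbit of the seeds. -/
noncomputable def oLine (j : ℕ) : ℕ := tab Data.oPt 12 j

/-- Following the tree of transversal elements. -/
noncomputable def tApp (fuel : ℕ) : ℕ → ℕ → ℕ :=
  Nat.rec (fun _ u => u)
    (fun _ ih j u => bif Nat.beq j 0 then u else
      sel sTabs (tab Data.oVia 2 j) (ih (tab Data.oPar 11 j) u)) fuel

/-- The transversal reaches the suborbit and it is stable with witnesses. -/
noncomputable def transStep (j : ℕ) : Bool :=
  Nat.blt (tab Data.oVia 2 j) 2 && Nat.beq (tApp 20 j (baseAt 6)) (oLine j) &&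
    Nat.blt (oLine j) 4060 && Nat.beq (tab Data.oIdx 11 (oLine j)) j

/-- The suborbit is stable with witnesses. -/
noncomputable def witStep (s : ℕ) (A W : BTree) (j : ℕ) : Bool :=
  Nat.blt (tab A 11 j) 1755 && Nat.blt (tab W 14 j) 10240 &&
    allNine fun f => Nat.beq (tApp 20 (tab A 11 j) (keyAt (tab W 14 j) f)) (sel sTabs s (tApp 20 j (baseAt f)))

theorem trans_ok : allBelow 11 1755 transStep = true :=
  allBelow_11 (by decide +kernel) (by decide +kernel) (by decide +kernel) (by decide +kernel) (by decide +kernel)

theorem wit0_ok : allBelow 11 1755 (witStep 0 Data.oAct0 Data.wit0) = true :=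
  allBelow_11 (by decide +kernel) (by decide +kernel) (by decide +kernel) (by decide +kernel) (by decide +kernel)

theorem wit1_ok : allBelow 11 1755 (witStep 1 Data.oAct1 Data.wit1) = true :=
  allBelow_11 (by decide +kernel) (by decide +kernel) (by decide +kernel) (by decide +kernel) (by decide +kernel)

end CfsgLib.RuPerm
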