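import Cfsg.Agent.Lib.RuPerm.Nodes
import Cfsg.Agent.Lib.RuPerm.KeyChecks

/-! The orders of the two subgroups. -/

set_option autoImplicit false
set_option Elab.async false

namespace CfsgLib.RuPerm

open CfsgLib.SporRecognition.CosetCert

/-- A base line. -/
noncomputable def base (f : Fin 9) : Fin 4060 := ⟨baseAt f.1, baseAt_lt f⟩

theorem eq_one_of_fix_base {g : Equiv.Perm (Fin 4060)} (hg : g ∈ grp) (h : ∀ f, g (base f) = base f) :
    g = 1 := by
  refine eq_one_of_fix_six hg fun i hi => ?_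
  have hb : base ⟨i.1, by omega⟩ = i := Fin.ext (baseAt_ok.1 ⟨i.1, hi⟩)
  have := h ⟨i.1, by omega⟩
  rwa [hb] at this

theorem eq_of_base {g h : Equiv.Perm (Fin 4060)} (hg : g ∈ grp) (hh : h ∈ grp)
    (e : ∀ f, (g (base f) : ℕ) = h (base f)) : g = h := by
  refine (inv_mul_eq_one.1 (eq_one_of_fix_base (mul_mem (inv_mem hh) hg) fun f => ?_)).symm
  rw [Equiv.Perm.mul_apply, Fin.ext (e f), Equiv.Perm.inv_def, Equiv.symm_apply_apply]

theorem sel_real {G : Subgroup (Equiv.Perm (Fin 4060))} {t u : ℕ → ℕ} (ht : Real G t) (hu : Real G u)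
    {j : ℕ} (hj : j < 2) : Real G (sel [t, u] j) := by
  interval_cases j
  · exact ht
  · exact hu

theorem kgrp_real {j : ℕ} (hj : j < 2) : Real kgrp (sel kTabs j) :=
  sel_real (G := kgrp) ⟨genE, Subgroup.subset_closure (Set.mem_insert _ _), genE_val⟩
    ⟨genF, Subgroup.subset_closure (Set.mem_insert_of_mem _ (Set.mem_singleton _)), genF_val⟩ hj

theorem sub_real {j : ℕ} (hj : j < 2) : Real sub (sel sTabs j) := sel_real sub_n2 sub_n3 hj

theorem kgrp_le_grp : kgrp ≤ grp := kgrp_le.trans sub_le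

theorem exists_key : ∀ k < 10240, ∃ g ∈ kgrp, ∀ f : Fin 9, (g (base f) : ℕ) = keyAt k f.1 := by
  intro k
  induction k using Nat.strong_induction_on with
  | _ k ih =>
    intro hk
    have h := allBelow_spec key_ok k hk
    simp only [keyStep, Bool.or_eq_true, Bool.and_eq_true, Nat.beq_eq, Nat.blt_eq] at h
    rcases h with rfl | ⟨⟨hp, hg⟩, hf⟩
    · exact ⟨1, one_mem _, fun f => rfl⟩
    · obtain ⟨g, hgm, hgv⟩ := ih _ hp (hp.trans hk)
      obtain ⟨s, hs, hsv⟩ := kgrp_real hg
      refine ⟨s * g, mul_mem hs hgm, fun f => ?_⟩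
      rw [Equiv.Perm.mul_apply, hsv, hgv]
      exact Nat.eq_of_beq_eq_true (allNine_spec hf f)

/-- The element with a given key. -/
noncomputable def kap (k : Fin 10240) : Equiv.Perm (Fin 4060) := (exists_key k k.2).choose

theorem kap_mem (k : Fin 10240) : kap k ∈ kgrp := (exists_key k k.2).choose_spec.1

theorem kap_val (k : Fin 10240) (f : Fin 9) : (kap k (base f) : ℕ) = keyAt k.1 f.1 :=
  (exists_key k k.2).choose_spec.2 f

theorem kap_zero : kap 0 = 1 :=
  eq_of_base (kgrp_le_grp (kap_mem 0)) (one_mem _) fun f => kap_val 0 f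

theorem field_ext108 {a b : ℕ} (ha : a < 2 ^ 108) (hb : b < 2 ^ 108)
    (h : ∀ f : Fin 9, field a 12 f.1 = field b 12 f.1) : a = b := by
  refine Nat.eq_of_testBit_eq fun i => ?_
  by_cases hi : i < 108
  · have := congrArg (fun z => Nat.testBit z (i % 12)) (h ⟨i / 12, by omega⟩)
    simp only [field, Nat.mul_eq, show ∀ x y, Nat.land x y = x &&& y from fun _ _ => rfl,
      show ∀ x y, Nat.shiftRight x y = x >>> y from fun _ _ => rfl,
      show Nat.sub (Nat.shiftLeft 1 12) 1 = 2 ^ 12 - 1 from rfl, Nat.testBit_and,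
      Nat.testBit_shiftRight, Nat.testBit_two_pow_sub_one, Nat.mod_lt i (by norm_num : 12 > 0),
      decide_true, Bool.and_true, Nat.div_add_mod] at this
    exact this
  · rw [Nat.testBit_eq_false_of_lt (ha.trans_le (Nat.pow_le_pow_right (by norm_num) (by omega))),
      Nat.testBit_eq_false_of_lt (hb.trans_le (Nat.pow_le_pow_right (by norm_num) (by omega)))]

theorem key_lt (k : ℕ) : tab8 Data.kKey 108 k < 2 ^ 108 := by
  show _ &&& (2 ^ 108 - 1) < _
  rw [Nat.and_two_pow_sub_one_eq_mod]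
  exact Nat.mod_lt _ (by norm_num)

theorem kap_injective : Function.Injective kap := by
  intro a b h
  let s : Fin 10240 → Fin 10240 := fun m => ⟨tab8 Data.kSort 14 m, by
    have := allBelow_spec sortedKey_ok m m.2
    simp only [sortedKeyStep, Bool.and_eq_true, Nat.blt_eq] at this
    exact this.1⟩
  have hm : StrictMono fun m : Fin (10239 + 1) => tab8 Data.kKey 108 (s m).1 := by
    refine Fin.strictMono_iff_lt_succ.2 fun m => ?_
    have := allBelow_spec sortedKey_ok m.1 (by omega)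
    simp only [sortedKeyStep, Bool.and_eq_true, Bool.or_eq_true, Nat.beq_eq, Nat.blt_eq] at this
    exact this.2.resolve_left (by omega)
  have hs : Function.Bijective s := Finite.injective_iff_bijective.1 fun p q hpq =>
    hm.injective (by simp only [hpq])
  obtain ⟨p, rfl⟩ := hs.2 a
  obtain ⟨q, rfl⟩ := hs.2 b
  have : p = q := hm.injective (field_ext108 (key_lt _) (key_lt _) fun f => by
    have := congrArg (fun g : Equiv.Perm (Fin 4060) => (g (base f) : ℕ)) h
    simp only [kap_val] at this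
    exact this)
  rw [this]

theorem le_of_mul_closed {G : Type*} [Group G] [Finite G] (S : Set G) (U : Set G) (h1 : (1 : G) ∈ U)
    (h : ∀ s ∈ S, ∀ u ∈ U, s * u ∈ U) : ∀ g ∈ Subgroup.closure S, g ∈ U := by
  intro g hg
  have : ∀ u ∈ U, g * u ∈ U := by
    rw [← Subgroup.mem_toSubmonoid, Subgroup.closure_toSubmonoid_of_finite] at hg
    induction hg using Submonoid.closure_induction with
    | mem x hx => exact h x hx
    | one => simp
    | mul x y _ _ hx hy => intro u hu; rw [mul_assoc]; exact hx _ (hy u hu)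
  simpa using this 1 h1

theorem kgrp_eq {g : Equiv.Perm (Fin 4060)} (hg : g ∈ kgrp) : ∃ k, kap k = g := by
  refine le_of_mul_closed _ (Set.range kap) ⟨0, kap_zero⟩ ?_ g hg
  rintro s hs _ ⟨k, rfl⟩
  have key : ∀ (j : ℕ) (T : BTree), j < 2 → allBelow 14 10240 (closeStep j T) = true →
      ∀ s ∈ kgrp, (∀ i : Fin 4060, (s i : ℕ) = sel kTabs j i) → s * kap k ∈ Set.range kap := by
    intro j T _ hc s hs hsv
    have h := allBelow_spec hc k k.2
    simp only [closeStep, Bool.and_eq_true, Nat.blt_eq] at h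
    refine ⟨⟨_, h.1⟩, eq_of_base (kgrp_le_grp (kap_mem _))
      (kgrp_le_grp (mul_mem hs (kap_mem k))) fun f => ?_⟩
    rw [kap_val, Equiv.Perm.mul_apply, hsv, kap_val]
    exact (Nat.eq_of_beq_eq_true (allNine_spec h.2 f)).symm
  rcases hs with rfl | rfl
  · exact key 0 _ (by norm_num) close0_ok _ (Subgroup.subset_closure (Set.mem_insert _ _)) genE_val
  · exact key 1 _ (by norm_num) close1_ok _ (Subgroup.subset_closure (Set.mem_insert_of_mem _ rfl))
      genF_val

theorem card_kgrp : Nat.card kgrp = 10240 := by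
  rw [← Nat.card_eq_of_bijective (fun k => (⟨kap k, kap_mem k⟩ : kgrp))
    ⟨fun a b h => kap_injective (congrArg Subtype.val h), fun g =>
      let ⟨k, hk⟩ := kgrp_eq g.2; ⟨k, Subtype.ext hk⟩⟩, Nat.card_fin]

theorem tApp_real : ∀ (fuel j : ℕ), ∃ g ∈ sub, ∀ i : Fin 4060, (g i : ℕ) = tApp fuel j i := by
  intro fuel
  induction fuel with
  | zero => exact fun j => ⟨1, one_mem _, fun _ => rfl⟩
  | succ fuel ih =>
      intro j
      rcases Nat.eq_zero_or_pos j with rfl | hj
      · exact ⟨1, one_mem _, fun _ => rfl⟩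
      · have hb : Nat.beq j 0 = false := by
          rw [← Bool.not_eq_true, Nat.beq_eq]; omega
        obtain ⟨g, hg, hgv⟩ := ih (tab Data.oPar 11 j)
        by_cases hv : tab Data.oVia 2 j < 2
        · obtain ⟨s, hs, hsv⟩ := sub_real hv
          refine ⟨s * g, mul_mem hs hg, fun i => ?_⟩
          rw [Equiv.Perm.mul_apply, hsv, hgv]
          show _ = bif Nat.beq j 0 then _ else _
          rw [hb, cond_false]; rfl
        · refine ⟨g, hg, fun i => ?_⟩
          rw [hgv]
          show _ = bif Nat.beq j 0 then _ else _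
          rw [hb, cond_false, sel_eq, List.getElem?_eq_none (by simp [sTabs]; omega)]
          rfl

/-- A transversal element. -/
noncomputable def tau (j : Fin 1755) : Equiv.Perm (Fin 4060) := (tApp_real 20 j).choose

theorem tau_mem (j : Fin 1755) : tau j ∈ sub := (tApp_real 20 j).choose_spec.1

theorem tau_val (j : Fin 1755) (i : Fin 4060) : (tau j i : ℕ) = tApp 20 j i :=
  (tApp_real 20 j).choose_spec.2 i

theorem tau_zero : tau 0 = 1 := Equiv.ext fun i => Fin.ext (tau_val 0 i)

theorem kgrp_fix_gens : (∀ j : Fin 2, sel kTabs j.1 (baseAt 6) = baseAt 6) := by decide +kernel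

theorem kgrp_fix {g : Equiv.Perm (Fin 4060)} (hg : g ∈ kgrp) : g (base 6) = base 6 := by
  have : kgrp ≤ MulAction.stabilizer (Equiv.Perm (Fin 4060)) (base 6) := by
    refine (Subgroup.closure_le _).2 ?_
    rintro s (rfl | rfl)
    · exact Fin.ext ((genE_val _).trans (kgrp_fix_gens 0))
    · exact Fin.ext ((genF_val _).trans (kgrp_fix_gens 1))
  exact this hg

theorem tau_base (j : Fin 1755) : (tau j (base 6) : ℕ) = oLine j := by
  have h := allBelow_spec trans_ok j j.2
  simp only [transStep, Bool.and_eq_true, Nat.beq_eq, Nat.blt_eq] at h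
  rw [tau_val]
  exact h.1.1.2

theorem sub_eq {g : Equiv.Perm (Fin 4060)} (hg : g ∈ sub) : ∃ j k, g = tau j * kap k := by
  refine le_of_mul_closed _ {g | ∃ j k, g = tau j * kap k} ⟨0, 0, by rw [tau_zero, kap_zero, mul_one]⟩
    ?_ g hg
  rintro s hs _ ⟨j, k, rfl⟩
  have key : ∀ (a : ℕ) (A W : BTree), allBelow 11 1755 (witStep a A W) = true →
      ∀ s ∈ sub, (∀ i : Fin 4060, (s i : ℕ) = sel sTabs a i) → ∃ j' k', s * (tau j * kap k) = tau j' * kap k' := by
    intro a A W hc s hs hsv
    have h := allBelow_spec hc j j.2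
    simp only [witStep, Bool.and_eq_true, Nat.blt_eq] at h
    obtain ⟨⟨hA, hW⟩, hf⟩ := h
    have heq : s * tau j = tau ⟨_, hA⟩ * kap ⟨_, hW⟩ := by
      refine eq_of_base (sub_le (mul_mem hs (tau_mem j)))
        (sub_le (mul_mem (tau_mem _) (kgrp_le (kap_mem _)))) fun f => ?_
      rw [Equiv.Perm.mul_apply, Equiv.Perm.mul_apply, hsv, tau_val, tau_val, kap_val]
      exact (Nat.eq_of_beq_eq_true (allNine_spec hf f)).symm
    obtain ⟨k', hk'⟩ := kgrp_eq (mul_mem (kap_mem ⟨_, hW⟩) (kap_mem k))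
    exact ⟨⟨_, hA⟩, k', by rw [hk', ← mul_assoc, heq, mul_assoc]⟩
  rcases hs with rfl | rfl
  · exact key 0 _ _ wit0_ok _ (Subgroup.subset_closure (Set.mem_insert _ _)) seedC_val
  · exact key 1 _ _ wit1_ok _ (Subgroup.subset_closure (Set.mem_insert_of_mem _ rfl)) seedD_val

theorem oLine_inj {i j : Fin 1755} (h : oLine i = oLine j) : i = j := by
  have hi := allBelow_spec trans_ok i i.2
  have hj := allBelow_spec trans_ok j j.2
  simp only [transStep, Bool.and_eq_true, Nat.beq_eq] at hi hj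
  exact Fin.ext (by rw [← hi.2, h, hj.2])

theorem tau_mul_inj {i j : Fin 1755} {a b : Fin 10240} (h : tau i * kap a = tau j * kap b) :
    i = j ∧ a = b := by
  have h' := congrArg (fun g : Equiv.Perm (Fin 4060) => (g (base 6) : ℕ)) h
  simp only [Equiv.Perm.mul_apply, kgrp_fix (kap_mem a), kgrp_fix (kap_mem b), tau_base] at h'
  obtain rfl := oLine_inj h'
  exact ⟨rfl, kap_injective (mul_left_cancel h)⟩

theorem card_sub : Nat.card sub = 17971200 := by
  rw [← Nat.card_eq_of_bijective
    (fun p : Fin 1755 × Fin 10240 => (⟨tau p.1 * kap p.2,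
      mul_mem (tau_mem p.1) (kgrp_le (kap_mem p.2))⟩ : sub)) ⟨?_, ?_⟩, Nat.card_prod, Nat.card_fin, Nat.card_fin]
  · intro p q h
    obtain ⟨h1, h2⟩ := tau_mul_inj (congrArg Subtype.val h)
    exact Prod.ext h1 h2
  · intro g
    obtain ⟨j, k, h⟩ := sub_eq g.2
    exact ⟨(j, k), Subtype.ext h.symm⟩

end CfsgLib.RuPerm
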