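import Cfsg.Agent.Lib.RuPerm.Cover
import Cfsg.Agent.Lib.RuPerm.Data.OutData

/-! An invariant of pairs of lines, computed by one multiplication of packed numbers. -/

set_option autoImplicit false
set_option Elab.async false

namespace CfsgLib.RuPerm

open CfsgLib.SporRecognition.CosetCert

/-- First packed residues of a line. -/
noncomputable def uAt (i : ℕ) : ℕ := tab256 Data.uTab 672 i

/-- Second packed residues of a line. -/
noncomputable def wAtL (i : ℕ) : ℕ := tab256 Data.wTab 672 i

/-- The label of a pair of lines. -/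
noncomputable def lz (i j : ℕ) : ℕ := Nat.land (Nat.shiftRight (Nat.mul (uAt i) (wAtL j)) 660) 7

/-- Residue of an entry. -/
noncomputable def res1 (i k : ℕ) : ℕ := Nat.land (Nat.add (Nat.shiftRight (field (repPack i) 10 k) 6) 4) 7

/-- Residue of the turned entry. -/
noncomputable def res2 (i k : ℕ) : ℕ :=
  bif Nat.beq (Nat.land (posOf i k) 1) 0 then res1 i k else Nat.land (Nat.sub 8 (res1 i k)) 7

/-- Position of the turned entry. -/
noncomputable def pos2 (i k : ℕ) : ℕ :=
  bif Nat.beq (Nat.land (posOf i k) 1) 0 then Nat.add (posOf i k) 1 else Nat.sub (posOf i k) 1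

/-- The packed residues are right. -/
noncomputable def packStep (i : ℕ) : Bool :=
  Nat.beq (uAt i) (sumTo 16 fun k => Nat.shiftLeft (res1 i k) (Nat.mul 12 (posOf i k))) &&
    Nat.beq (wAtL i) (sumTo 16 fun k =>
      Nat.add (Nat.shiftLeft (res1 i k) (Nat.mul 12 (Nat.sub 55 (posOf i k))))
        (Nat.shiftLeft (res2 i k) (Nat.mul 12 (Nat.sub 55 (pos2 i k))))) &&
    allTo 56 fun c => Nat.blt (field (wAtL i) 12 c) 16

end CfsgLib.RuPerm
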