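import Cfsg.Agent.Lib.RuPerm.OutChecksC

/-! The label is invariant under the group. -/

set_option autoImplicit false
set_option Elab.async false

namespace CfsgLib.RuPerm

open Cfsg.Spor CfsgLib.SporRecognition.CosetCert

theorem coeff_lt : ∀ (n : ℕ) (f : ℕ → ℕ), (∀ k < n, f k < 4096) →
    ∑ k ∈ Finset.range n, f k * 4096 ^ k < 4096 ^ n
  | 0, f, _ => by simp
  | n + 1, f, h => by
      rw [Finset.sum_range_succ, pow_succ']
      have h1 := coeff_lt n f fun k hk => h k (by omega)
      have h2 : f n * 4096 ^ n ≤ 4095 * 4096 ^ n :=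
        Nat.mul_le_mul_right _ (by have := h n (by omega); omega)
      omega

theorem coeff_mod : ∀ (n : ℕ) (f : ℕ → ℕ), (∀ k < n, f k < 4096) → ∀ m < n,
    (∑ k ∈ Finset.range n, f k * 4096 ^ k) / 4096 ^ m % 8 = f m % 8
  | 0, _, _, m, hm => absurd hm (by omega)
  | n + 1, f, h, m, hm => by
      rw [Finset.sum_range_succ]
      rcases Nat.lt_succ_iff_lt_or_eq.1 hm with hm | rfl
      · obtain ⟨d, rfl⟩ : ∃ d, n = m + 1 + d := ⟨n - (m + 1), by omega⟩
        rw [show f (m + 1 + d) * 4096 ^ (m + 1 + d) = 4096 ^ m * (8 * (512 * 4096 ^ d * f (m + 1 + d))) by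
            rw [pow_add, pow_succ, show (4096 : ℕ) = 8 * 512 by norm_num]; ring,
          Nat.add_mul_div_left _ _ (by positivity), Nat.add_mul_mod_self_left]
        exact coeff_mod _ f (fun k hk => h k (by omega)) m hm
      · rw [Nat.add_mul_div_right _ _ (by positivity),
          Nat.div_eq_of_lt (coeff_lt m f fun k hk => h k (by omega)), zero_add]

/-- The middle coefficient of a product. -/
theorem middle_coeff (u w : Fin 56 → ℕ) (hu : ∑ c, u c ≤ 112) (hw : ∀ c, w c ≤ 15) :
    (∑ c : Fin 56, u c * 4096 ^ c.1) * (∑ c : Fin 56, w c * 4096 ^ (55 - c.1)) / 4096 ^ 55 % 8 =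
      (∑ c, u c * w c) % 8 := by
  let f : ℕ → ℕ := fun k => ∑ p : Fin 56 × Fin 56, if p.1.1 + (55 - p.2.1) = k then u p.1 * w p.2 else 0
  have hprod : (∑ c : Fin 56, u c * 4096 ^ c.1) * (∑ c : Fin 56, w c * 4096 ^ (55 - c.1)) =
      ∑ k ∈ Finset.range 111, f k * 4096 ^ k := by
    simp only [f, Finset.sum_mul, ite_mul, zero_mul]
    rw [Finset.sum_comm, Fintype.sum_prod_type]
    refine Finset.sum_congr rfl fun a _ => ?_
    rw [Finset.mul_sum]
    refine Finset.sum_congr rfl fun b _ => ?_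
    rw [Finset.sum_ite_eq, if_pos (Finset.mem_range.2 (by dsimp only; omega))]
    ring
  have hf : ∀ k, f k ≤ 1680 := by
    intro k
    calc f k = ∑ a : Fin 56, ∑ b : Fin 56, if a.1 + (55 - b.1) = k then u a * w b else 0 :=
          Fintype.sum_prod_type _
      _ ≤ ∑ a : Fin 56, u a * 15 := Finset.sum_le_sum fun a _ => by
          by_cases hex : ∃ b : Fin 56, a.1 + (55 - b.1) = k
          · obtain ⟨b, hb⟩ := hex
            rw [Finset.sum_eq_single b]
            · rw [if_pos hb]; exact Nat.mul_le_mul_left _ (hw b)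
            · intro c _ hc; exact if_neg fun h => hc (Fin.ext (by omega))
            · simp
          · push Not at hex
            simp [hex]
      _ ≤ 1680 := by rw [← Finset.sum_mul]; omega
  rw [hprod, coeff_mod 111 f (fun k _ => by have := hf k; omega) 55 (by norm_num)]
  refine congrArg (fun z => z % 8) ?_
  simp only [f]
  rw [Fintype.sum_prod_type]
  refine Finset.sum_congr rfl fun a _ => ?_
  rw [Finset.sum_eq_single a]
  · exact if_pos (by dsimp only; omega)
  · intro b _ hb; exact if_neg fun h => hb (Fin.ext (by dsimp only at h; omega))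
  · simp

/-- The first residue vector. -/
noncomputable def uF (i : ℕ) (c : Fin 56) : ℕ :=
  ∑ k ∈ Finset.range 16, if posOf i k = c.1 then res1 i k else 0

/-- The second residue vector. -/
noncomputable def wF (i : ℕ) (c : Fin 56) : ℕ :=
  ∑ k ∈ Finset.range 16, ((if posOf i k = c.1 then res1 i k else 0) + if pos2 i k = c.1 then res2 i k else 0)

theorem land_seven (a : ℕ) : Nat.land a 7 = a % 8 := Nat.and_two_pow_sub_one_eq_mod a 3

theorem res1_lt (i k : ℕ) : res1 i k < 8 := by rw [res1, land_seven]; omega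

theorem res2_lt (i k : ℕ) : res2 i k < 8 := by
  unfold res2
  cases Nat.beq (Nat.land (posOf i k) 1) 0
  · rw [cond_false, land_seven]; omega
  · rw [cond_true]; exact res1_lt i k

theorem res1_cast (i k : ℕ) : ((res1 i k : ℕ) : ZMod 8) = (valOf i k : ZMod 8) := by
  rw [res1, land_seven, ZMod.natCast_mod]
  simp only [valOf, Nat.add_eq, Nat.cast_add, Int.cast_sub, Int.cast_natCast, Nat.cast_ofNat, Int.cast_ofNat]
  rw [sub_eq_add_neg]
  rfl

theorem res2_cast (i k : ℕ) : ((res2 i k : ℕ) : ZMod 8) =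
    if posOf i k % 2 = 0 then (valOf i k : ZMod 8) else -(valOf i k : ZMod 8) := by
  unfold res2
  by_cases h : posOf i k % 2 = 0
  · rw [if_pos h, show Nat.beq (Nat.land (posOf i k) 1) 0 = true by rw [Nat.beq_eq, land_one, h],
      cond_true, res1_cast]
  · rw [if_neg h, show Nat.beq (Nat.land (posOf i k) 1) 0 = false by
      rw [← Bool.not_eq_true, Nat.beq_eq, land_one]; exact h,
      cond_false, land_seven, ZMod.natCast_mod, Nat.sub_eq, Nat.cast_sub (res1_lt i k).le, res1_cast]
    exact zero_sub _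

theorem pos2_eq (i : Fin 4060) {k : ℕ} (hk : k < 16) (c : Fin 56) :
    pos2 i k = c.1 ↔ posOf i k = (pcoord c).1 := by
  have hp := posOf_lt i k hk
  have hc := c.2
  unfold pos2 pcoord
  by_cases h : posOf i k % 2 = 0
  · rw [show Nat.beq (Nat.land (posOf i k) 1) 0 = true by rw [Nat.beq_eq, land_one, h], cond_true]
    simp only [Nat.add_eq]
    split <;> (dsimp only; omega)
  · rw [show Nat.beq (Nat.land (posOf i k) 1) 0 = false by
      rw [← Bool.not_eq_true, Nat.beq_eq, land_one]; exact h, cond_false]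
    simp only [Nat.sub_eq]
    split <;> (dsimp only; omega)

theorem uF_cast (i : ℕ) (c : Fin 56) : ((uF i c : ℕ) : ZMod 8) = (vecF i c : ZMod 8) := by
  simp only [uF, vecF, Nat.cast_sum, Int.cast_sum]
  refine Finset.sum_congr rfl fun k _ => ?_
  split
  · exact res1_cast i k
  · simp

theorem wF_cast (i : Fin 4060) (c : Fin 56) :
    ((wF i c : ℕ) : ZMod 8) = ((vecF i c + rot (vecF i) c : ℤ) : ZMod 8) := by
  have hrot : (rot (vecF i) c : ZMod 8) = ∑ k ∈ Finset.range 16,
      if pos2 i k = c.1 then ((res2 i k : ℕ) : ZMod 8) else 0 := by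
    unfold rot
    by_cases h : c.1 % 2 = 0
    · rw [if_pos h, vecF, Int.cast_neg, Int.cast_sum, ← Finset.sum_neg_distrib]
      refine Finset.sum_congr rfl fun k hk => ?_
      simp only [pos2_eq i (Finset.mem_range.1 hk)]
      split
      · rename_i hp
        rw [res2_cast, if_neg (by rw [hp, pcoord_parity]; exact not_not_intro h)]
      · simp
    · rw [if_neg h, vecF, Int.cast_sum]
      refine Finset.sum_congr rfl fun k hk => ?_
      simp only [pos2_eq i (Finset.mem_range.1 hk)]
      split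
      · rename_i hp
        rw [res2_cast, if_pos (by rw [hp, pcoord_parity]; exact h)]
      · simp
  rw [Int.cast_add, hrot, ← uF_cast, wF, uF, Nat.cast_sum, Nat.cast_sum, ← Finset.sum_add_distrib]
  refine Finset.sum_congr rfl fun k _ => ?_
  split <;> split <;> simp

theorem sum_uF_le (i : Fin 4060) : ∑ c, uF i c ≤ 112 := by
  simp only [uF]
  rw [Finset.sum_comm]
  refine (Finset.sum_le_sum (g := fun _ => 7) fun k hk => ?_).trans (by simp)
  rw [Finset.sum_eq_single (⟨posOf i k, posOf_lt i k (Finset.mem_range.1 hk)⟩ : Fin 56)]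
  · rw [if_pos rfl]; have := res1_lt i k; omega
  · intro c _ hc; exact if_neg fun h => hc (Fin.ext h.symm)
  · simp

theorem shift_eq (a k : ℕ) : Nat.shiftLeft a (Nat.mul 12 k) = a * 4096 ^ k := by
  show a <<< (12 * k) = _
  rw [Nat.shiftLeft_eq, pow_mul]
  norm_num

theorem pack_eq (i : Fin 4060) :
    uAt i = ∑ c : Fin 56, uF i c * 4096 ^ c.1 ∧
      wAtL i = ∑ c : Fin 56, wF i c * 4096 ^ (55 - c.1) := by
  have h := allBelow_spec packStep_ok i i.2
  simp only [packStep, Bool.and_eq_true, Nat.beq_eq] at h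
  constructor
  · rw [h.1.1, sumTo_eq]
    simp only [uF, Finset.sum_mul, shift_eq, ite_mul, zero_mul]
    rw [Finset.sum_comm]
    refine Finset.sum_congr rfl fun k hk => ?_
    rw [Finset.sum_eq_single (⟨posOf i k, posOf_lt i k (Finset.mem_range.1 hk)⟩ : Fin 56)]
    · rw [if_pos rfl]
    · intro c _ hc; exact if_neg fun h => hc (Fin.ext h.symm)
    · simp
  · rw [h.1.2, sumTo_eq]
    simp only [wF, Finset.sum_mul, add_mul, shift_eq, ite_mul, zero_mul, Nat.add_eq, Nat.sub_eq]
    rw [Finset.sum_comm]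
    refine Finset.sum_congr rfl fun k hk => ?_
    rw [Finset.sum_add_distrib]
    have hp := posOf_lt i k (Finset.mem_range.1 hk)
    have hp2 : pos2 i k < 56 := by
      have h1 := (pos2_eq i (Finset.mem_range.1 hk) (pcoord ⟨posOf i k, hp⟩)).2 (by rw [pcoord_pcoord])
      rw [h1]; exact (pcoord _).2
    refine congrArg₂ (fun a b : ℕ => a + b) ?_ ?_
    · rw [Finset.sum_eq_single (⟨posOf i k, hp⟩ : Fin 56)]
      · rw [if_pos rfl]
      · intro c _ hc; exact if_neg fun h => hc (Fin.ext h.symm)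
      · simp
    · rw [Finset.sum_eq_single (⟨pos2 i k, hp2⟩ : Fin 56)]
      · rw [if_pos rfl]
      · intro c _ hc; exact if_neg fun h => hc (Fin.ext h.symm)
      · simp

theorem wF_le (i : Fin 4060) (c : Fin 56) : wF i c ≤ 15 := by
  have h := allBelow_spec packStep_ok i i.2
  simp only [packStep, Bool.and_eq_true] at h
  have h1 := allTo_spec h.2 (55 - c.1) (by omega)
  rw [Nat.blt_eq] at h1
  have hlt : ∀ d, wF i d < 4096 := by
    intro d
    refine lt_of_le_of_lt (Finset.sum_le_sum (g := fun _ => 14) fun k _ => ?_) (by simp)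
    have := res1_lt i k
    have := res2_lt i k
    split <;> split <;> omega
  let g : ℕ → ℕ := fun k => if h : k < 56 then wF i ⟨55 - k, by omega⟩ else 0
  have hg : wAtL i = ∑ k ∈ Finset.range 56, g k * 4096 ^ k := by
    rw [(pack_eq i).2, ← Fin.sum_univ_eq_sum_range]
    refine Fintype.sum_equiv Fin.revPerm _ _ fun d => ?_
    have hd := d.2
    simp only [Fin.revPerm_apply, g, Fin.val_rev, dif_pos (show 56 - (d.1 + 1) < 56 by omega)]
    rw [show (⟨55 - (56 - (d.1 + 1)), by omega⟩ : Fin 56) = d from Fin.ext (by dsimp only; omega),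
      show 56 - (d.1 + 1) = 55 - d.1 by omega]
  have hfield : field (wAtL i) 12 (55 - c.1) = wF i c := by
    show wAtL i >>> (12 * (55 - c.1)) &&& (2 ^ 12 - 1) = _
    rw [Nat.and_two_pow_sub_one_eq_mod, Nat.shiftRight_eq_div_pow, pow_mul]
    have hc : g (55 - c.1) = wF i c := by
      simp only [g, dif_pos (show 55 - c.1 < 56 by omega)]
      congr 1
      exact Fin.ext (by dsimp only; omega)
    have hlow : ∀ m ≤ 56, ∀ (f : ℕ → ℕ), (∀ k < m, f k < 4096) → ∀ p < m,
        (∑ k ∈ Finset.range m, f k * 4096 ^ k) / 4096 ^ p % 4096 = f p := by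
      intro m
      induction m with
      | zero => intro _ _ _ p hp; omega
      | succ m ih =>
          intro hm f hf p hp
          rw [Finset.sum_range_succ]
          rcases Nat.lt_succ_iff_lt_or_eq.1 hp with hp | rfl
          · obtain ⟨d, rfl⟩ : ∃ d, m = p + 1 + d := ⟨m - (p + 1), by omega⟩
            rw [show f (p + 1 + d) * 4096 ^ (p + 1 + d) = 4096 ^ p * (4096 * (4096 ^ d * f (p + 1 + d))) by
                rw [pow_add, pow_succ]; ring,
              Nat.add_mul_div_left _ _ (by positivity), Nat.add_mul_mod_self_left]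
            exact ih (by omega) f (fun k hk => hf k (by omega)) p hp
          · rw [Nat.add_mul_div_right _ _ (by positivity),
              Nat.div_eq_of_lt (coeff_lt p f fun k hk => hf k (by omega)), zero_add,
              Nat.mod_eq_of_lt (hf p (by omega))]
    rw [hg, show ((2 : ℕ) ^ 12) = 4096 by norm_num,
      hlow 56 le_rfl g (fun k hk => by simp only [g, dif_pos hk]; exact hlt _) _ (by omega), hc]
  rw [hfield] at h1
  omega

/-- The label is the inner product with the turned vector modulo eight. -/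
theorem lz_eq (i j : Fin 4060) :
    ((lz i j : ℕ) : ZMod 8) = ((ip (j, 0) (i, 0) + ip (rotP (j, 0)) (i, 0) : ℤ) : ZMod 8) := by
  have h8 : lz i j % 8 = (∑ c, uF i c * wF j c) % 8 := by
    rw [← middle_coeff _ _ (sum_uF_le i) (wF_le j), ← (pack_eq i).1, ← (pack_eq j).2, lz, land_seven,
      Nat.mod_mod]
    show ((uAt i * wAtL j) >>> 660) % 8 = _
    rw [Nat.shiftRight_eq_div_pow, show (2 : ℕ) ^ 660 = 4096 ^ 55 by rw [show (4096 : ℕ) = 2 ^ 12 by norm_num, ← pow_mul]]
  rw [← ZMod.natCast_mod, h8, ZMod.natCast_mod, Nat.cast_sum]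
  simp only [Nat.cast_mul, uF_cast, wF_cast, ip, lin, vec_rotP, Int.cast_sum, Int.cast_add,
    Int.cast_mul, ← Finset.sum_add_distrib]
  refine Finset.sum_congr rfl fun c _ => ?_
  show _ = ((rot^[0] (vecF j.1) c : ℤ) : ZMod 8) * ((rot^[0] (vecF i.1) c : ℤ) : ZMod 8) +
    ((rot (rot^[0] (vecF j.1)) c : ℤ) : ZMod 8) * ((rot^[0] (vecF i.1) c : ℤ) : ZMod 8)
  simp only [Function.iterate_zero, id_eq]
  ring

theorem ip_rot_rot (p q : Pt) : ip (rotP p) (rotP q) = ip p q := by
  simp only [ip, vec_rotP, lin_rot_rot]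

theorem rotP_four (p : Pt) : rotP (rotP (rotP (rotP p))) = p := by
  refine Prod.ext rfl (Fin.ext ?_)
  simp only [rotP, Fin.val_add, Fin.val_one]
  omega

theorem ip_rot_neg (p q : Pt) : ip (rotP (rotP p)) q = -ip p q := by
  simp only [ip, lin, vec_rotP, ← Finset.sum_neg_distrib]
  refine Finset.sum_congr rfl fun c _ => ?_
  simp only [rot, pcoord_pcoord, pcoord_parity]
  by_cases h : c.1 % 2 = 0 <;> simp [h]

/-- The phase independent quantity. -/
noncomputable def hsum (p q : Pt) : ZMod 8 := ((ip p q + ip (rotP p) q : ℤ) : ZMod 8)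

theorem four_dvd_ip (p q : Pt) : (4 : ℤ) ∣ ip p q := by
  rw [ip_eq_dot]
  exact RuLattice.dot_dvd (hull_eq ▸ rvec_mem p) (hull_eq ▸ rvec_mem q)

theorem hsum_rot_left (p q : Pt) : hsum (rotP p) q = hsum p q := by
  simp only [hsum, ip_rot_neg]
  obtain ⟨d, hd⟩ := four_dvd_ip p q
  rw [ZMod.intCast_eq_intCast_iff_dvd_sub]
  exact ⟨d, by rw [hd]; push_cast; ring⟩

theorem hsum_rot_right (p q : Pt) : hsum p (rotP q) = hsum p q := by
  rw [← hsum_rot_left p (rotP q)]
  simp only [hsum, ip_rot_rot]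

theorem hsum_phase (i j : Fin 4060) : ∀ e f : Fin 4, hsum (i, e) (j, f) = hsum (i, 0) (j, 0) := by
  have h1 : ∀ (q : Pt) (k : ℕ), hsum (i, Fin.ofNat 4 k) q = hsum (i, 0) q := by
    intro q k
    induction k with
    | zero => rfl
    | succ k ih =>
        rw [show (i, Fin.ofNat 4 (k + 1)) = rotP (i, Fin.ofNat 4 k) from
          Prod.ext rfl (Fin.ext (by simp [rotP, Fin.val_add])), hsum_rot_left, ih]
  have h2 : ∀ (p : Pt) (k : ℕ), hsum p (j, Fin.ofNat 4 k) = hsum p (j, 0) := by
    intro p k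
    induction k with
    | zero => rfl
    | succ k ih =>
        rw [show (j, Fin.ofNat 4 (k + 1)) = rotP (j, Fin.ofNat 4 k) from
          Prod.ext rfl (Fin.ext (by simp [rotP, Fin.val_add])), hsum_rot_right, ih]
  intro e f
  rw [show e = Fin.ofNat 4 e.1 from Fin.ext (Nat.mod_eq_of_lt e.2).symm,
    show f = Fin.ofNat 4 f.1 from Fin.ext (Nat.mod_eq_of_lt f.2).symm, h1, h2]

/-- The label is invariant. -/
theorem lz_inv {g : Equiv.Perm (Fin 4060)} (hg : g ∈ grp) (x y : Fin 4060) :
    lz (g x : Fin 4060) (g y : Fin 4060) = lz x y := by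
  obtain ⟨σ, rfl⟩ := grp_le hg
  have h : ((lz (lineHom σ x : Fin 4060) (lineHom σ y : Fin 4060) : ℕ) : ZMod 8) = (lz x y : ℕ) := by
    rw [lz_eq, lz_eq]
    show hsum (lineHom σ y, 0) (lineHom σ x, 0) = hsum (y, 0) (x, 0)
    rw [← hsum_phase (lineHom σ y) (lineHom σ x) (σ.1 (y, 0)).2 (σ.1 (x, 0)).2,
      show ((lineHom σ y, (σ.1 (y, 0)).2) : Pt) = σ.1 (y, 0) from rfl,
      show ((lineHom σ x, (σ.1 (x, 0)).2) : Pt) = σ.1 (x, 0) from rfl]
    simp only [hsum, ← σ.2.2, σ.2.1]
  rw [ZMod.natCast_eq_natCast_iff'] at h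
  have hb : ∀ a b, lz a b < 8 := fun a b => by rw [lz, land_seven]; omega
  rwa [Nat.mod_eq_of_lt (hb _ _), Nat.mod_eq_of_lt (hb _ _)] at h

end CfsgLib.RuPerm
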