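import Cfsg.Agent.Lib.RuPerm.SpanChecks
import Cfsg.Agent.Lib.RuPerm.Group

/-! The lattice is spanned by the 16240 vectors. -/

set_option autoImplicit false
set_option Elab.async false

namespace CfsgLib.RuPerm

open Cfsg.Spor

theorem getD_ofFn (f : Fin 56 → ℤ) (j : Fin 56) : (List.ofFn f).getD j.1 0 = f j := by
  rw [List.getD_eq_getElem _ _ (by simp), List.getElem_ofFn]

theorem co_ofF (f : Fin 56 → ℤ) (j : Fin 56) : RuLattice.co (ofF f) j = f j := by
  rw [ofF, RuLattice.co_ofL, List.getD_eq_getElem _ _ (by simp), List.getElem_ofFn]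

theorem ofF_co (v : RuVec) : ofF (RuLattice.co v) = v := RuLattice.co_ext fun j => co_ofF _ j

theorem co_gI (v : RuVec) : RuLattice.co (gI • v) = rot (RuLattice.co v) := by
  funext j
  have hj := j.2
  have hre : ∀ z : GaussianInt, (gI • z).re = -z.im := fun z => by simp [gI, smul_eq_mul]
  have him : ∀ z : GaussianInt, (gI • z).im = z.re := fun z => by simp [gI, smul_eq_mul]
  by_cases h : j.1 % 2 = 0
  · have hp : pcoord j = ⟨j.1 + 1, by omega⟩ := dif_pos h
    simp only [RuLattice.co, rot, hp, if_pos h, if_neg (show ¬(j.1 + 1) % 2 = 0 by omega),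
      Pi.smul_apply, hre]
    congr! 3
    refine Prod.ext (Fin.ext ?_) (Fin.ext ?_) <;> (simp only; omega)
  · have hp : pcoord j = ⟨j.1 - 1, by omega⟩ := dif_neg h
    simp only [RuLattice.co, rot, hp, if_neg h, if_pos (show (j.1 - 1) % 2 = 0 by omega),
      Pi.smul_apply, him]
    congr! 2
    refine Prod.ext (Fin.ext ?_) (Fin.ext ?_) <;> (simp only; omega)

/-- The vector of a point, in the ambient module. -/
noncomputable def rvec (p : Pt) : RuVec := ofF (vec p)

theorem co_rvec (p : Pt) : RuLattice.co (rvec p) = vec p := funext (co_ofF _)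

theorem rvec_rotP (p : Pt) : rvec (rotP p) = gI • rvec p :=
  RuLattice.co_ext fun j => by rw [co_rvec, co_gI, co_rvec, vec_rotP]

theorem rvec_injective : Function.Injective rvec := fun p q h =>
  vec_injective (by rw [← co_rvec, h, co_rvec])

theorem eq_toL {f : Fin 56 → ℤ} {v : RuVec} (h : List.ofFn f = RuLattice.toL v) : ofF f = v := by
  rw [ofF, h, RuLattice.ofL_toL]

theorem ops_mem {k : ℕ} (hk : k < 5) {v : RuVec} (hv : v ∈ ruLattice) : opR k v ∈ ruLattice := by
  rw [ruLattice, AddSubgroup.mem_sInf] at hv ⊢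
  intro L hL
  obtain ⟨h0, h1, h2, h3, h4⟩ := hL.2 v (hv L hL)
  interval_cases k
  exacts [h0, h1, h2, h3, h4]

theorem der_mem : ∀ i < 99, rvec (ptOf (derAt i).2.2) ∈ ruLattice := by
  intro i
  induction i using Nat.strong_induction_on with
  | _ i ih =>
    intro hi
    have h := der_ok
    rw [List.all_eq_true] at h
    have h' := h i (List.mem_range.2 hi)
    rw [derStep] at h'
    by_cases hop : (derAt i).2.1 < 5
    · rw [if_pos hop, Bool.and_eq_true, decide_eq_true_eq, beq_iff_eq] at h'
      rw [rvec, eq_toL h'.2]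
      exact ops_mem hop (ih _ h'.1 (h'.1.trans hi))
    · rw [if_neg hop, Bool.and_eq_true, decide_eq_true_eq, beq_iff_eq] at h'
      rw [rvec, eq_toL h'.2, List.getD_eq_getElem _ _ h'.1, ruLattice, AddSubgroup.mem_sInf]
      exact fun L hL => hL.1 _ (List.getElem_mem _)

/-- A coordinate as an additive map. -/
def coHom (j : Fin 56) : RuVec →+ ℤ :=
  AddMonoidHom.mk' (fun v => RuLattice.co v j) fun v w => RuLattice.co_add v w j

theorem co_sum {ι : Type*} (s : Finset ι) (g : ι → RuVec) (j : Fin 56) :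
    RuLattice.co (∑ k ∈ s, g k) j = ∑ k ∈ s, RuLattice.co (g k) j :=
  map_sum (coHom j) g s

theorem hull_le_of_derived {L : AddSubgroup RuVec}
    (hL : ∀ i < 99, rvec (ptOf (derAt i).2.2) ∈ L) : RuLattice.hull ≤ L := by
  have h4 : ∀ z : RuVec, (4 : ℤ) • z ∈ L := by
    intro z
    have e : (4 : ℤ) • z =
        ∑ p : Fin 56, RuLattice.co z p • rvec (ptOf (derAt (Data.spanUnit.getD p.1 0)).2.2) := by
      refine RuLattice.co_ext fun c => ?_
      simp only [co_sum, RuLattice.co_smul, co_rvec, unit_ok, mul_ite, mul_zero, Finset.sum_ite_eq,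
        Finset.mem_univ, if_true]
      ring
    rw [e]
    exact AddSubgroup.sum_mem _ fun p _ => AddSubgroup.zsmul_mem _ (hL _ (unit_lt p)) _
  rw [RuLattice.hull, AddSubgroup.closure_le]
  rintro x (⟨b, hb, rfl⟩ | ⟨z, rfl⟩)
  · obtain ⟨k, hk, rfl⟩ := List.getElem_of_mem hb
    set S := ∑ i : Fin 40, (Data.spanCombo.getD k []).getD i.1 0 •
      rvec (ptOf (derAt (Data.spanUse.getD i.1 0)).2.2)
    have hS : S ∈ L := AddSubgroup.sum_mem _ fun i _ => AddSubgroup.zsmul_mem _ (hL _ (use_lt i)) _
    have hdvd : ∀ c, (4 : ℤ) ∣ RuLattice.co (RuLattice.ofL RuLattice.basis[k] - S) c := by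
      intro c
      have h := Int.dvd_of_emod_eq_zero (combo_mod ⟨k, basis_len ▸ hk⟩ c)
      have e : RuLattice.co (RuLattice.ofL RuLattice.basis[k] - S) c =
          RuLattice.co (RuLattice.ofL RuLattice.basis[k]) c - RuLattice.co S c :=
        map_sub (coHom c) _ _
      rw [e, RuLattice.co_ofL, co_sum]
      simp only [RuLattice.co_smul, co_rvec]
      rw [List.getD_eq_getElem RuLattice.basis [] hk] at h
      exact h
    choose f hf using hdvd
    have e : RuLattice.ofL RuLattice.basis[k] = S + (4 : ℤ) • ofF f := by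
      rw [← sub_eq_iff_eq_add']
      exact RuLattice.co_ext fun c => by rw [RuLattice.co_smul, co_ofF, hf]
    exact e ▸ AddSubgroup.add_mem _ hS (h4 _)
  · exact h4 z

theorem hull_eq : RuLattice.hull = ruLattice :=
  le_antisymm (hull_le_of_derived der_mem) RuLattice.ruLattice_le

theorem linMap_add (cols : List (List ℤ)) (f g : Fin 56 → ℤ) :
    linMap cols (f + g) = linMap cols f + linMap cols g := by
  funext q
  simp only [linMap, lin, Pi.add_apply, add_mul, Finset.sum_add_distrib]

theorem linMap_smul (cols : List (List ℤ)) (k : ℤ) (f : Fin 56 → ℤ) :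
    linMap cols (k • f) = k • linMap cols f := by
  funext q
  simp only [linMap, lin, Pi.smul_apply, smul_eq_mul, Finset.mul_sum, mul_assoc]

/-- The image under the linear map, divided by four, is in the lattice. -/
def Maps (cols : List (List ℤ)) (v : RuVec) : Prop :=
  ∃ y ∈ ruLattice, linMap cols (RuLattice.co v) = (4 : ℤ) • RuLattice.co y

theorem co_add' (v w : RuVec) : RuLattice.co (v + w) = RuLattice.co v + RuLattice.co w :=
  funext (RuLattice.co_add v w)

theorem maps_of_chk {cols cb cc : List (List ℤ)} (h : imgChk cols cb cc = true) {v : RuVec}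
    (hv : v ∈ ruLattice) : Maps cols v := by
  simp only [imgChk, Bool.and_eq_true, List.all_eq_true, List.mem_range, beq_iff_eq] at h
  obtain ⟨hb, hc⟩ := h
  rw [← hull_eq] at hv
  induction hv using AddSubgroup.closure_induction with
  | mem x hx =>
      rcases hx with ⟨b, hb', rfl⟩ | ⟨z, rfl⟩
      · obtain ⟨k, hk, rfl⟩ := List.getElem_of_mem hb'
        obtain ⟨h1, h2⟩ := hb k (basis_len ▸ hk)
        refine ⟨_, hull_eq ▸ RuLattice.ofL_mem_of_chk h2, funext fun q => ?_⟩
        have e : RuLattice.co (RuLattice.ofL RuLattice.basis[k]) =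
            fun c : Fin 56 => (RuLattice.basis.getD k []).getD c.1 0 :=
          funext fun c => by rw [RuLattice.co_ofL, List.getD_eq_getElem RuLattice.basis [] hk]
        rw [e, Pi.smul_apply, RuLattice.co_ofL, getD_ofFn]
        exact (Int.mul_ediv_cancel' (Int.dvd_of_emod_eq_zero (h1 q (List.mem_finRange q)))).symm
      · refine ⟨∑ p : Fin 56, RuLattice.co z p • ofF (fun q => colAt cols p q),
          AddSubgroup.sum_mem _ fun p _ => AddSubgroup.zsmul_mem _
            (hull_eq ▸ RuLattice.ofL_mem_of_chk (hc p (List.mem_finRange p))) _, funext fun q => ?_⟩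
        simp only [Pi.smul_apply, smul_eq_mul, co_sum, RuLattice.co_smul, co_ofF, linMap, lin,
          Finset.mul_sum, mul_assoc]
  | zero =>
      refine ⟨0, AddSubgroup.zero_mem _, funext fun q => ?_⟩
      simp [linMap, lin, RuLattice.co_zero]
  | add x y _ _ hx hy =>
      obtain ⟨a, ha, ha'⟩ := hx
      obtain ⟨b, hb, hb'⟩ := hy
      exact ⟨a + b, AddSubgroup.add_mem _ ha hb, by
        rw [co_add', co_add', linMap_add, ha', hb', smul_add]⟩
  | neg x _ hx =>
      obtain ⟨a, ha, ha'⟩ := hx
      refine ⟨-a, AddSubgroup.neg_mem _ ha, funext fun q => ?_⟩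
      have h1 := congrFun ha' q
      simp only [linMap, lin, Pi.smul_apply, smul_eq_mul, RuLattice.co_neg, neg_mul, mul_neg,
        Finset.sum_neg_distrib] at h1 ⊢
      rw [h1]

theorem gen_maps_point {cols cb cc : List (List ℤ)} {E : ℕ} {L N Ni : SporRecognition.CosetCert.BTree}
    (h : GenOK cols E L N Ni) (hc : imgChk cols cb cc = true) {p : Pt} (hp : rvec p ∈ ruLattice) :
    rvec (genPerm h p) ∈ ruLattice := by
  obtain ⟨y, hy, hye⟩ := maps_of_chk hc hp
  rw [co_rvec, linMap_vec h] at hye
  have e : rvec (genPerm h p) = y := by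
    refine RuLattice.co_ext fun c => ?_
    have h1 := congrFun hye c
    simp only [Pi.smul_apply, smul_eq_mul, nsmul_eq_mul] at h1
    rw [co_rvec]
    push_cast at h1
    linarith
  exact e ▸ hy

theorem phases_mem {i : Fin 4060} {e : Fin 4} (h : rvec (i, e) ∈ ruLattice) :
    ∀ e', rvec (i, e') ∈ ruLattice := by
  have step : ∀ k : ℕ, rvec (rotP^[k] (i, e)) ∈ ruLattice := by
    intro k
    induction k with
    | zero => exact h
    | succ k ih => rw [Function.iterate_succ_apply', rvec_rotP]; exact gI_smul_mem_ruLattice ih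
  intro e'
  have hk : ∀ k : ℕ, rotP^[k] (i, e) = (i, e + Fin.ofNat 4 k) := by
    intro k
    induction k with
    | zero => simp
    | succ k ih =>
        rw [Function.iterate_succ_apply', ih]
        refine Prod.ext rfl (Fin.ext ?_)
        simp only [rotP, Fin.val_add, Fin.val_ofNat, Fin.val_one]
        omega
  have := step (e' - e).1
  rwa [hk, show Fin.ofNat 4 (e' - e).1 = e' - e from Fin.ext (Nat.mod_eq_of_lt (e' - e).2),
    add_sub_cancel] at this

/-- The lines inside the lattice. -/
def inside : Set (Fin 4060) := {i | rvec (i, 0) ∈ ruLattice}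

theorem image_inside {g : Equiv.Perm (Fin 4060)} (hg : g ∈ grp) : g '' inside = inside := by
  induction hg using Subgroup.closure_induction with
  | mem x hx =>
      refine Set.eq_of_subset_of_ncard_le ?_ (Set.ncard_image_of_injective _ x.injective).ge (Set.toFinite _)
      rintro _ ⟨i, hi, rfl⟩
      rcases hx with rfl | rfl
      · exact phases_mem (gen_maps_point genA imgA_ok hi) 0
      · exact phases_mem (gen_maps_point genB imgB_ok hi) 0
  | one => simp
  | mul x y _ _ hx hy => rw [Equiv.Perm.coe_mul, Set.image_comp, hy, hx]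
  | inv x _ hx =>
      conv_lhs => rw [← hx, ← Set.image_comp, ← Equiv.Perm.coe_mul, inv_mul_cancel, Equiv.Perm.coe_one,
        Set.image_id]

theorem rvec_mem (p : Pt) : rvec p ∈ ruLattice := by
  obtain ⟨q, hq⟩ : ∃ q : Pt, rvec q ∈ ruLattice := ⟨_, der_mem 0 (by norm_num)⟩
  have := grp_pretransitive
  obtain ⟨⟨g, hg⟩, hgp⟩ := MulAction.exists_smul_eq grp q.1 p.1
  have h1 : g q.1 ∈ inside := image_inside hg ▸ Set.mem_image_of_mem g (phases_mem (e := q.2) hq 0)
  rw [show g q.1 = p.1 from hgp] at h1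
  exact phases_mem h1 p.2

theorem lattice_eq_span : ruLattice = AddSubgroup.closure (Set.range rvec) :=
  le_antisymm
    (hull_eq ▸ hull_le_of_derived fun _ _ => AddSubgroup.subset_closure ⟨_, rfl⟩)
    ((AddSubgroup.closure_le _).2 (by rintro _ ⟨p, rfl⟩; exact rvec_mem p))

end CfsgLib.RuPerm
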