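import Cfsg.Agent.Lib.RuPerm.GenA
import Cfsg.Agent.Lib.RuPerm.GenB

/-! The group on the lines, and the elements given by words. -/

set_option autoImplicit false
set_option Elab.async false

namespace CfsgLib.RuPerm

open CfsgLib.SporRecognition.CosetCert

/-- The function `t` is the value table of an element of `G`. -/
def Real {n : ℕ} (G : Subgroup (Equiv.Perm (Fin n))) (t : ℕ → ℕ) : Prop :=
  ∃ g ∈ G, ∀ i : Fin n, (g i : ℕ) = t i

variable {n : ℕ} {G : Subgroup (Equiv.Perm (Fin n))}

theorem real_trace : ∀ {ts : List (ℕ → ℕ)}, (∀ t ∈ ts, Real G t) → Real G (trace ts)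
  | [], _ => ⟨1, one_mem _, fun _ => rfl⟩
  | t :: ts, h => by
      obtain ⟨g, hg, hgv⟩ := h t List.mem_cons_self
      obtain ⟨k, hk, hkv⟩ := real_trace fun s hs => h s (List.mem_cons_of_mem _ hs)
      exact ⟨k * g, mul_mem hk hg, fun i => by
        rw [Equiv.Perm.mul_apply, hkv, hgv, trace_cons]⟩

/-- A word evaluates to a table. -/
noncomputable def wordStep (ts : List BTree) (T : BTree) (i : ℕ) : Bool :=
  Nat.beq (trace (ts.map fun t => tab t 12) i) (tab T 12 i)

theorem real_of_word {H : Subgroup (Equiv.Perm (Fin 4060))} {ts : List BTree} {T : BTree}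
    (hc : allBelow 12 4060 (wordStep ts T) = true) (h : ∀ t ∈ ts, Real H (tab t 12)) :
    Real H (tab T 12) := by
  obtain ⟨g, hg, hgv⟩ := real_trace (ts := ts.map fun t => tab t 12) (G := H) fun t ht => by
    obtain ⟨s, hs, rfl⟩ := List.mem_map.1 ht
    exact h s hs
  exact ⟨g, hg, fun i => by rw [hgv, Nat.eq_of_beq_eq_true (allBelow_spec hc i i.2)]⟩

theorem real_inv {H : Subgroup (Equiv.Perm (Fin 4060))} {T T' : BTree}
    (hc : allBelow 12 4060 (invStep (tab T' 12) (tab T 12) 4060) = true) (h : Real H (tab T 12)) :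
    Real H (tab T' 12) := by
  obtain ⟨g, hg, hgv⟩ := h
  refine ⟨g⁻¹, inv_mem hg, fun i => ?_⟩
  have h1 := lt_of_invStep hc i
  have h2 : g ⟨tab T' 12 i, h1.1⟩ = i := Fin.ext (by rw [hgv]; exact h1.2)
  have : g⁻¹ i = ⟨tab T' 12 i, h1.1⟩ := by rw [Equiv.Perm.inv_def, Equiv.symm_apply_eq, h2]
  rw [this]

/-- The symmetry given by the first generator. -/
noncomputable def symA : sym := ⟨genPerm genA, genPerm_mem genA⟩

/-- The symmetry given by the second generator. -/
noncomputable def symB : sym := ⟨genPerm genB, genPerm_mem genB⟩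

/-- The first generator on the lines. -/
noncomputable def lineA : Equiv.Perm (Fin 4060) := lineHom symA

/-- The second generator on the lines. -/
noncomputable def lineB : Equiv.Perm (Fin 4060) := lineHom symB

theorem lineA_val (i : Fin 4060) : (lineA i : ℕ) = tab Data.n0 12 i := rfl

theorem lineB_val (i : Fin 4060) : (lineB i : ℕ) = tab Data.n1 12 i := rfl

/-- The group on the lines. -/
noncomputable def grp : Subgroup (Equiv.Perm (Fin 4060)) := Subgroup.closure {lineA, lineB}

theorem grp_le : grp ≤ lineHom.range :=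
  (Subgroup.closure_le _).2 (by rintro g (rfl | rfl) <;> exact ⟨_, rfl⟩)

theorem eq_one_of_fix_six {g : Equiv.Perm (Fin 4060)} (hg : g ∈ grp)
    (hfix : ∀ i : Fin 4060, i.1 < 6 → g i = i) : g = 1 :=
  eq_one_of_fix_lines (grp_le hg) hfix

theorem card_grp_le : Nat.card grp ≤ 145926144000 :=
  (Subgroup.card_le_of_le grp_le).trans card_range_le

theorem real_n0 : Real grp (tab Data.n0 12) :=
  ⟨lineA, Subgroup.subset_closure (Set.mem_insert _ _), lineA_val⟩

theorem real_n1 : Real grp (tab Data.n1 12) :=
  ⟨lineB, Subgroup.subset_closure (Set.mem_insert_of_mem _ rfl), lineB_val⟩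

theorem real_n0i : Real grp (tab Data.n0i 12) := real_inv genA.inv' real_n0

theorem real_n1i : Real grp (tab Data.n1i 12) := real_inv genB.inv' real_n1

theorem n2i_ok : allBelow 12 4060 (invStep (tab Data.n2i 12) (tab Data.n2 12) 4060) = true := by
  decide +kernel

theorem n3i_ok : allBelow 12 4060 (invStep (tab Data.n3i 12) (tab Data.n3 12) 4060) = true := by
  decide +kernel

theorem w2_ok : allBelow 12 4060 (wordStep Data.w2 Data.n2) = true := by decide +kernel

theorem w3_ok : allBelow 12 4060 (wordStep Data.w3 Data.n3) = true := by decide +kernel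

theorem w4_ok : allBelow 12 4060 (wordStep Data.w4 Data.n4) = true := by decide +kernel

theorem w5_ok : allBelow 12 4060 (wordStep Data.w5 Data.n5) = true := by decide +kernel

theorem w6_ok : allBelow 12 4060 (wordStep Data.w6 Data.n6) = true := by decide +kernel

theorem real_n2 : Real grp (tab Data.n2 12) := by
  refine real_of_word w2_ok ?_
  simp only [Data.w2, List.forall_mem_cons, real_n0, real_n1, real_n0i, real_n1i, true_and]
  simp

theorem real_n3 : Real grp (tab Data.n3 12) := by
  refine real_of_word w3_ok ?_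
  simp only [Data.w3, List.forall_mem_cons, real_n0, real_n1, real_n0i, real_n1i, true_and]
  simp

/-- The first seed of the subgroup. -/
noncomputable def seedC : Equiv.Perm (Fin 4060) := real_n2.choose

theorem seedC_mem : seedC ∈ grp := real_n2.choose_spec.1

theorem seedC_val (i : Fin 4060) : (seedC i : ℕ) = tab Data.n2 12 i := real_n2.choose_spec.2 i

/-- The second seed of the subgroup. -/
noncomputable def seedD : Equiv.Perm (Fin 4060) := real_n3.choose

theorem seedD_mem : seedD ∈ grp := real_n3.choose_spec.1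

theorem seedD_val (i : Fin 4060) : (seedD i : ℕ) = tab Data.n3 12 i := real_n3.choose_spec.2 i

/-- The subgroup fixing the line `0`. -/
noncomputable def sub : Subgroup (Equiv.Perm (Fin 4060)) := Subgroup.closure {seedC, seedD}

theorem sub_le : sub ≤ grp :=
  (Subgroup.closure_le _).2 (by rintro g (rfl | rfl); exacts [seedC_mem, seedD_mem])

theorem sub_n2 : Real sub (tab Data.n2 12) :=
  ⟨seedC, Subgroup.subset_closure (Set.mem_insert _ _), seedC_val⟩

theorem sub_n3 : Real sub (tab Data.n3 12) :=
  ⟨seedD, Subgroup.subset_closure (Set.mem_insert_of_mem _ rfl), seedD_val⟩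

theorem sub_n2i : Real sub (tab Data.n2i 12) := real_inv n2i_ok sub_n2

theorem sub_n3i : Real sub (tab Data.n3i 12) := real_inv n3i_ok sub_n3

theorem sub_n4 : Real sub (tab Data.n4 12) := by
  refine real_of_word w4_ok ?_
  simp only [Data.w4, List.forall_mem_cons, sub_n2, sub_n3, sub_n2i, sub_n3i, true_and]
  simp

theorem sub_n5 : Real sub (tab Data.n5 12) := by
  refine real_of_word w5_ok ?_
  simp only [Data.w5, List.forall_mem_cons, sub_n2, sub_n3, sub_n2i, sub_n3i, true_and]
  simp

/-- A first element fixing the lines `0` and `x`. -/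
noncomputable def genE : Equiv.Perm (Fin 4060) := sub_n4.choose

theorem genE_mem : genE ∈ sub := sub_n4.choose_spec.1

theorem genE_val (i : Fin 4060) : (genE i : ℕ) = tab Data.n4 12 i := sub_n4.choose_spec.2 i

/-- A second element fixing the lines `0` and `x`. -/
noncomputable def genF : Equiv.Perm (Fin 4060) := sub_n5.choose

theorem genF_mem : genF ∈ sub := sub_n5.choose_spec.1

theorem genF_val (i : Fin 4060) : (genF i : ℕ) = tab Data.n5 12 i := sub_n5.choose_spec.2 i

/-- The subgroup fixing the lines `0` and `x`. -/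
noncomputable def kgrp : Subgroup (Equiv.Perm (Fin 4060)) := Subgroup.closure {genE, genF}

theorem kgrp_le : kgrp ≤ sub :=
  (Subgroup.closure_le _).2 (by rintro g (rfl | rfl); exacts [genE_mem, genF_mem])

theorem real_n6 : Real grp (tab Data.n6 12) := by
  have h2i : Real grp (tab Data.n2i 12) := real_inv n2i_ok real_n2
  have h3i : Real grp (tab Data.n3i 12) := real_inv n3i_ok real_n3
  refine real_of_word w6_ok ?_
  simp only [Data.w6, List.forall_mem_cons, real_n0, real_n1, real_n0i, real_n1i, h2i, h3i, true_and]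
  simp

end CfsgLib.RuPerm
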