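import Cfsg.Agent.Lib.RuPerm.Keys
import Cfsg.Agent.Lib.RuPerm.Criterion

/-! Orbits from trees, and the simplicity of the subgroup. -/

set_option autoImplicit false
set_option Elab.async false

namespace CfsgLib.RuPerm

open CfsgLib.SporRecognition.CosetCert

/-- A point hangs from the root of its label. -/
noncomputable def treeStep (ts : List (ℕ → ℕ)) (pt lab root rk via src : ℕ → ℕ) (n u : ℕ) : Bool :=
  bif Nat.beq (rk u) 0 then Nat.beq (root (lab u)) (pt u) else
    Nat.blt (src u) n && Nat.blt (rk (src u)) (rk u) && Nat.beq (lab (src u)) (lab u) &&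
      Nat.blt (via u) 2 && Nat.beq (sel ts (via u) (pt (src u))) (pt u)

theorem reach {G : Subgroup (Equiv.Perm (Fin 4060))} {ts : List (ℕ → ℕ)}
    (hts : ∀ j < 2, Real G (sel ts j)) {pt lab root rk via src : ℕ → ℕ} {n : ℕ}
    (hpt : ∀ u < n, pt u < 4060) (h : ∀ u < n, treeStep ts pt lab root rk via src n u = true) :
    ∀ u, (hu : u < n) → ∃ g ∈ G, ∃ r : Fin 4060, (r : ℕ) = root (lab u) ∧ (g r : ℕ) = pt u := by
  intro u
  induction hk : rk u using Nat.strong_induction_on generalizing u with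
  | _ k ih =>
    intro hu
    have h' := h u hu
    unfold treeStep at h'
    cases h0 : Nat.beq (rk u) 0
    · rw [h0, cond_false] at h'
      simp only [Bool.and_eq_true, Nat.blt_eq, Nat.beq_eq] at h'
      obtain ⟨⟨⟨⟨hs, hr⟩, hl⟩, hv⟩, he⟩ := h'
      obtain ⟨g, hg, r, hr1, hr2⟩ := ih _ (hk ▸ hr) (src u) rfl hs
      obtain ⟨s, hs', hsv⟩ := hts _ hv
      exact ⟨s * g, mul_mem hs' hg, r, by rw [hr1, hl],
        by rw [Equiv.Perm.mul_apply, hsv, hr2, he]⟩
    · rw [h0, cond_true] at h'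
      exact ⟨1, one_mem _, ⟨pt u, hpt u hu⟩, (Nat.eq_of_beq_eq_true h').symm, rfl⟩

/-- The roots of the suborbits inside the large suborbit. -/
noncomputable def kRoot (l : ℕ) : ℕ := oLine ([0, 1, 2, 43, 156].getD l 0)

/-- The sizes of these suborbits. -/
def kSizes : List ℕ := [1, 1024, 640, 80, 10]

/-- Label of an index. -/
noncomputable def kLabel (j : ℕ) : ℕ := tab Data.kLab 3 j

/-- Tree check inside the large suborbit. -/
noncomputable def kTreeStep (j : ℕ) : Bool :=
  Nat.blt (kLabel j) 5 &&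
    treeStep kTabs oLine kLabel kRoot (tab Data.kRk 8) (tab Data.kVia 2) (tab Data.kSrc 11) 1755 j

theorem kTree_ok : allBelow 11 1755 kTreeStep = true := by decide +kernel

theorem kCount_ok : ∀ l : Fin 5, countLab 11 1755 kLabel l.1 = kSizes.getD l.1 0 := by decide +kernel

theorem kBlocks_ok : ∀ s ∈ (Finset.range kSizes.length).powerset, kLabel 0 ∈ s →
    (∑ l ∈ s, kSizes.getD l 0) ∣ 1755 → s = {kLabel 0} ∨ s = Finset.range kSizes.length := by
  decide +kernel

/-- The seeds have order dividing `13`. -/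
noncomputable def powStep (p : ℕ) (T : BTree) (i : ℕ) : Bool := Nat.beq (iter (tab T 12) p i) i

theorem pow13_ok : allBelow 12 4060 (powStep 13 Data.n2) = true ∧
    allBelow 12 4060 (powStep 13 Data.n3) = true := by
  decide +kernel

/-- Only the first key fixes the two extra lines. -/
noncomputable def extStep (k : ℕ) : Bool :=
  Nat.beq k 0 || !(Nat.beq (keyAt k 7) 2602 && Nat.beq (keyAt k 8) 3501)

theorem ext_ok : allBelow 14 10240 extStep = true ∧
    Nat.blt (tab Data.oIdx 11 2602) 1755 = true ∧ Nat.blt (tab Data.oIdx 11 3501) 1755 = true ∧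
    Nat.beq (oLine (tab Data.oIdx 11 2602)) 2602 = true ∧
    Nat.beq (oLine (tab Data.oIdx 11 3501)) 3501 = true := by
  decide +kernel

theorem pow_of_step {p : ℕ} {T : BTree} (hc : allBelow 12 4060 (powStep p T) = true)
    {g : Equiv.Perm (Fin 4060)} (hg : ∀ i : Fin 4060, (g i : ℕ) = tab T 12 i) : g ^ p = 1 := by
  refine Equiv.ext fun i => Fin.ext ?_
  have h : ∀ m, ∀ i : Fin 4060, ((g ^ m) i : ℕ) = iter (tab T 12) m i := by
    intro m
    induction m with
    | zero => intro i; simp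
    | succ m ih => intro i; rw [pow_succ, Equiv.Perm.mul_apply, ih, hg, iter_succ]
  rw [h]
  exact Nat.eq_of_beq_eq_true (allBelow_spec hc i i.2)

/-- The large suborbit. -/
abbrev Omega : Type := MulAction.orbit sub (base 6)

theorem oLine_lt (j : Fin 1755) : oLine j < 4060 := by
  have h := allBelow_spec trans_ok j j.2
  simp only [transStep, Bool.and_eq_true, Nat.blt_eq] at h
  exact h.1.2

theorem oIdx_oLine (j : Fin 1755) : tab Data.oIdx 11 (oLine j) = j := by
  have h := allBelow_spec trans_ok j j.2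
  simp only [transStep, Bool.and_eq_true, Nat.beq_eq] at h
  exact h.2

/-- The point of the suborbit with a given index. -/
noncomputable def omegaPt (j : Fin 1755) : Omega :=
  ⟨⟨oLine j, oLine_lt j⟩, ⟨⟨tau j, tau_mem j⟩, Fin.ext (tau_base j)⟩⟩

theorem omegaPt_bijective : Function.Bijective omegaPt := by
  refine ⟨fun i j h => oLine_inj (congrArg (fun z : Omega => (z.1 : ℕ)) h), ?_⟩
  rintro ⟨_, ⟨g, hg⟩, rfl⟩
  obtain ⟨j, k, rfl⟩ := sub_eq hg
  refine ⟨j, Subtype.ext (Fin.ext ?_)⟩
  show oLine j = ((tau j * kap k) (base 6) : ℕ)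
  rw [Equiv.Perm.mul_apply, kgrp_fix (kap_mem k), tau_base]

/-- Label of a point of the suborbit. -/
noncomputable def omegaLab (u : Omega) : ℕ := kLabel (tab Data.oIdx 11 (u.1 : ℕ))

theorem omegaLab_pt (j : Fin 1755) : omegaLab (omegaPt j) = kLabel j.1 :=
  congrArg kLabel (oIdx_oLine j)

/-- The base point of the suborbit. -/
noncomputable def omega0 : Omega := ⟨base 6, MulAction.mem_orbit_self _⟩

theorem omega0_eq : omega0 = omegaPt 0 := by
  refine Subtype.ext (Fin.ext ?_)
  show (base 6 : ℕ) = oLine (0 : Fin 1755)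
  rw [← tau_base, tau_zero]; rfl

theorem card_omega : Nat.card Omega = 1755 := by
  rw [← Nat.card_eq_of_bijective _ omegaPt_bijective, Nat.card_fin]

instance sub_faithful : FaithfulSMul sub Omega := by
  refine ⟨fun {a b} h => ?_⟩
  suffices ∀ g : sub, (∀ u : Omega, g • u = u) → g = 1 by
    refine (inv_mul_eq_one.1 (this (b⁻¹ * a) fun u => ?_)).symm
    rw [mul_smul, h, inv_smul_smul]
  intro g hg
  have hv : ∀ j, g.1 (omegaPt j).1 = (omegaPt j).1 := fun j => congrArg Subtype.val (hg (omegaPt j))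
  obtain ⟨j, k, hjk⟩ := sub_eq g.2
  have h0 := congrArg Fin.val (hv 0)
  rw [show (omegaPt 0).1 = base 6 from (congrArg Subtype.val omega0_eq).symm, hjk,
    Equiv.Perm.mul_apply, kgrp_fix (kap_mem k), tau_base,
    show (base 6 : ℕ) = oLine (0 : Fin 1755) from congrArg (fun z : Omega => (z.1 : ℕ)) omega0_eq] at h0
  obtain rfl := oLine_inj h0
  rw [tau_zero, one_mul] at hjk
  obtain ⟨he, ha, hb, hae, hbe⟩ := ext_ok
  simp only [Nat.blt_eq, Nat.beq_eq] at ha hb hae hbe
  have hf : ∀ (f : Fin 9) (m : ℕ), (hm : m < 1755) → oLine m = baseAt f.1 → keyAt k.1 f.1 = baseAt f.1 := by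
    intro f m hm hfm
    have : base f = (omegaPt ⟨m, hm⟩).1 := Fin.ext hfm.symm
    rw [← kap_val, ← hjk, this, hv, ← this]
    rfl
  have h7 := hf 7 _ ha (hae.trans baseAt_ok.2.2.1.symm)
  have h8 := hf 8 _ hb (hbe.trans baseAt_ok.2.2.2.symm)
  have := allBelow_spec he k.1 k.2
  simp only [extStep, Bool.or_eq_true, Nat.beq_eq, Bool.not_eq_true', Bool.and_eq_false_iff] at this
  rcases this with h | h
  · refine Subtype.ext ?_
    rw [hjk, show k = 0 from Fin.ext h, kap_zero]; rfl
  · exfalso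
    rw [show ((7 : Fin 9) : ℕ) = 7 from rfl, baseAt_ok.2.2.1] at h7
    rw [show ((8 : Fin 9) : ℕ) = 8 from rfl, baseAt_ok.2.2.2] at h8
    rw [h7, h8] at h
    simp at h

theorem isSimple_sub : IsSimpleGroup sub := by
  have htree : ∀ j < 1755, kLabel j < 5 ∧
      treeStep kTabs oLine kLabel kRoot (tab Data.kRk 8) (tab Data.kVia 2) (tab Data.kSrc 11) 1755 j = true := by
    intro j hj
    have h := allBelow_spec kTree_ok j hj
    simp only [kTreeStep, Bool.and_eq_true, Nat.blt_eq] at h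
    exact h
  have hsize : ∀ l < kSizes.length, {u | omegaLab u = l}.ncard = kSizes.getD l 0 := by
    intro l hl
    rw [← kCount_ok ⟨l, hl⟩, ← ncard_lab (by norm_num),
      ← Set.ncard_image_of_injective _ omegaPt_bijective.1]
    congr 1
    ext u
    obtain ⟨j, rfl⟩ := omegaPt_bijective.2 u
    simp only [Set.mem_ofPred_eq, omegaPt_bijective.1.mem_set_image, omegaLab_pt]
  refine isSimpleGroup_of_suborbits omega0 omegaLab kSizes 10240 ?_ ?_ hsize ?_ ?_ ?_ ?_ 13
    (by norm_num) ((↑) ⁻¹' ({seedC, seedD} : Set (Equiv.Perm (Fin 4060)))) ?_ ?_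
  · intro u
    obtain ⟨j, rfl⟩ := omegaPt_bijective.2 u
    rw [omegaLab_pt]
    exact (htree j j.2).1
  · intro u hu
    have h1 : omegaLab omega0 = 0 := by
      rw [omega0_eq, omegaLab_pt]
      decide +kernel
    have h2 := hsize 0 (by decide)
    obtain ⟨a, ha⟩ := Set.ncard_eq_one.1 h2
    rw [h1] at hu
    exact ((Set.ext_iff.1 ha u).1 hu).trans ((Set.ext_iff.1 ha omega0).1 h1).symm
  · intro u v huv
    obtain ⟨i, rfl⟩ := omegaPt_bijective.2 u
    obtain ⟨j, rfl⟩ := omegaPt_bijective.2 v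
    rw [omegaLab_pt, omegaLab_pt] at huv
    obtain ⟨g, hg, r, hr, hgr⟩ := reach (fun _ h => kgrp_real h) (fun u hu => oLine_lt ⟨u, hu⟩)
      (fun u hu => (htree u hu).2) i i.2
    obtain ⟨g', hg', r', hr', hgr'⟩ := reach (fun _ h => kgrp_real h) (fun u hu => oLine_lt ⟨u, hu⟩)
      (fun u hu => (htree u hu).2) j j.2
    obtain rfl : r = r' := Fin.ext (by rw [hr, hr', huv])
    refine ⟨⟨⟨g' * g⁻¹, kgrp_le (mul_mem hg' (inv_mem hg))⟩, Subtype.ext ?_⟩, Subtype.ext ?_⟩
    · exact kgrp_fix (mul_mem hg' (inv_mem hg))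
    · show (g' * g⁻¹) ⟨oLine i, oLine_lt i⟩ = ⟨oLine j, oLine_lt j⟩
      rw [Equiv.Perm.mul_apply, show (⟨oLine i, oLine_lt i⟩ : Fin 4060) = g r from Fin.ext hgr.symm,
        Equiv.Perm.inv_def, Equiv.symm_apply_apply]
      exact Fin.ext hgr'
  · intro s hs hm hd
    rw [card_omega] at hd
    rw [omega0_eq, omegaLab_pt] at hm ⊢
    exact kBlocks_ok s hs hm hd
  · rw [card_sub, card_omega]
  · rw [card_omega]; norm_num
  · exact Subgroup.closure_closure_coe_preimage
  · rintro ⟨s, hs⟩ (h | h)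
    · simp only at h; subst h
      exact Subtype.ext (pow_of_step pow13_ok.1 seedC_val)
    · simp only [Set.mem_singleton_iff] at h; subst h
      exact Subtype.ext (pow_of_step pow13_ok.2 seedD_val)

end CfsgLib.RuPerm
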