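import Cfsg.Agent.Lib.RuPerm.OutDefs

/-! Kernel checks for the automorphisms: tables and relations. -/

set_option autoImplicit false
set_option Elab.async false

namespace CfsgLib.RuPerm

open CfsgLib.SporRecognition.CosetCert CfsgLib.SporadicOut

theorem seedStep_ok : allBelow 12 4060 seedStep = true := by decide +kernel

theorem rel0_ok : allBelow 12 4060 (relStepO 0) = true := by decide +kernel

theorem rel1_ok : allBelow 12 4060 (relStepO 1) = true := by decide +kernel

theorem rel2_ok : allBelow 12 4060 (relStepO 2) = true := by decide +kernel

theorem break1_ok : (List.range 28).all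
    (fun i => Nat.beq i 0 || breakStep 1 i (Data.oBreak1.getD i (0, 0))) = true := by decide +kernel

theorem break2_ok : (List.range 28).all
    (fun i => breakStep 2 i (Data.oBreak2.getD i (0, 0))) = true := by decide +kernel

end CfsgLib.RuPerm
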