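import Cfsg.Agent.Lib.RuPerm.OutDefs

/-! Kernel checks for the automorphisms: the candidates. -/

set_option autoImplicit false
set_option Elab.async false

namespace CfsgLib.RuPerm

open CfsgLib.SporRecognition.CosetCert CfsgLib.SporadicOut

theorem candX_ok : allBelow 12 4060 candXStep = true := by decide +kernel

end CfsgLib.RuPerm
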