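import Cfsg.Agent.Lib.RuPerm.LabelInv
import Cfsg.Agent.Lib.RuPerm.OutChecksA
import Cfsg.Agent.Lib.RuPerm.OutChecksB
import Cfsg.Agent.Lib.SporadicOut.Auto
import Cfsg.Agent.Lib.SporadicOut.Rigid

/-!
Every automorphism of the group on 4060 lines is inner: after an inner automorphism it fixes an
element `b` of order 14 normalising a Sylow 29-subgroup and maps `a` to `a` or `a ^ 2`, and the
possible images of an involution inverting `b` are excluded by three relations.
-/

set_option autoImplicit false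
set_option Elab.async false

namespace CfsgLib.RuPerm

open CfsgLib.SporRecognition.CosetCert CfsgLib.SporadicOut

local instance fact_prime_twentynine_ru : Fact (Nat.Prime 29) := ⟨by norm_num⟩

/-- The inclusion. -/
noncomputable abbrev act : grp →* Equiv.Perm (Fin 4060) := grp.subtype

theorem act_injective : Function.Injective act := Subtype.val_injective

theorem hasTab_of_real {t : ℕ → ℕ} (h : Real grp t) : ∃ g : grp, HasTab act g t := by
  obtain ⟨g, hg, hv⟩ := h
  exact ⟨⟨g, hg⟩, hv⟩

theorem nodeT_real (j : ℕ) : Real grp (nodeT j) := by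
  have h : ∀ T ∈ [Data.n0, Data.n1, Data.n2, Data.n3, Data.n4, Data.n5, Data.n6],
      Real grp (tab T 12) := by
    simp only [List.forall_mem_cons, List.not_mem_nil, IsEmpty.forall_iff, implies_true, and_true]
    have hsub : ∀ {t}, Real sub t → Real grp t := fun ⟨g, hg, hv⟩ => ⟨g, sub_le hg, hv⟩
    exact ⟨real_n0, real_n1, real_n2, real_n3, hsub sub_n4, hsub sub_n5, real_n6⟩
  unfold nodeT
  by_cases hj : j < [Data.n0, Data.n1, Data.n2, Data.n3, Data.n4, Data.n5, Data.n6].length
  · rw [List.getD_eq_getElem _ _ hj]; exact h _ (List.getElem_mem hj)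
  · rw [List.getD_eq_default _ _ (Nat.le_of_not_lt hj)]; exact real_n0

theorem exists_of_word {w : List ℕ} {t : ℕ → ℕ} (h : ∀ u < 4060, trace (w.map nodeT) u = t u) :
    ∃ g : grp, HasTab act g t := by
  obtain ⟨g, hg, hv⟩ := real_trace (G := grp) (ts := w.map nodeT) fun t ht => by
    obtain ⟨j, -, rfl⟩ := List.mem_map.1 ht
    exact nodeT_real j
  exact ⟨⟨g, hg⟩, fun u => (hv u).trans (h u u.2)⟩

theorem seed_facts : ∀ u < 4060, trace (Data.oWB.map nodeT) u = tB u ∧
    invStep tB tBi 4060 u = true ∧ invStep tBi tB 4060 u = true ∧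
    tB (tA u) = tA (tA (tA (tA (tB u)))) ∧ iter tA 29 u = u ∧
    trace (Data.oWN.map (five 1 0)) u = tab Data.n1 12 u := by
  intro u hu
  have h := allBelow_spec seedStep_ok u hu
  simp only [seedStep, nodeWordStep, Bool.and_eq_true, Nat.beq_eq] at h
  exact ⟨h.1.1.1.1.1, h.1.1.1.1.2, h.1.1.1.2, h.1.1.2, h.1.2, h.2⟩

theorem candX_facts : ∀ u < 4060, trace (Data.oWX.map nodeT) u = tX0 u ∧
    trace (Data.oWC.map nodeT) u = tC u ∧ tX0 (tX0 u) = u ∧ tX0 (tB u) = tBi (tX0 u) ∧
    tC (tB u) = tB (tC u) := by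
  intro u hu
  have h := allBelow_spec candX_ok u hu
  simp only [candXStep, nodeWordStep, Bool.and_eq_true, Nat.beq_eq] at h
  exact ⟨h.1.1.1.1.1, h.1.1.1.1.2, h.1.1.1.2, h.1.1.2, h.1.2⟩

/-- The element of order 29. -/
noncomputable def eA : grp := ⟨lineA, Subgroup.subset_closure (Set.mem_insert _ _)⟩

theorem eA_tab : HasTab act eA tA := lineA_val

/-- The element of order 14. -/
noncomputable def eB : grp := (exists_of_word fun u hu => (seed_facts u hu).1).choose

theorem eB_tab : HasTab act eB tB := (exists_of_word fun u hu => (seed_facts u hu).1).choose_spec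

/-- The first inverting element. -/
noncomputable def eX0 : grp := (exists_of_word fun u hu => (candX_facts u hu).1).choose

theorem eX0_tab : HasTab act eX0 tX0 :=
  (exists_of_word fun u hu => (candX_facts u hu).1).choose_spec

/-- An element centralising the normalising element. -/
noncomputable def eC : grp := (exists_of_word fun u hu => (candX_facts u hu).2.1).choose

theorem eC_tab : HasTab act eC tC := (exists_of_word fun u hu => (candX_facts u hu).2.1).choose_spec

/-- A candidate. -/
noncomputable def eX (i : Fin 28) : grp := eX0 * eB ^ (i.1 % 14) * (if i.1 < 14 then 1 else eC)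

theorem eB_pow_tab (m : ℕ) : HasTab act (eB ^ m) (iter tB m) := by
  induction m with
  | zero => intro u; rw [pow_zero, map_one]; rfl
  | succ m ih => intro u; rw [pow_succ, map_mul, Equiv.Perm.mul_apply, ih, iter_succ, eB_tab]

theorem eX_tab (i : Fin 28) : HasTab act (eX i) (tX i) := by
  intro u
  rw [eX, map_mul, map_mul, Equiv.Perm.mul_apply, Equiv.Perm.mul_apply, eX0_tab, eB_pow_tab]
  unfold tX
  by_cases h : i.1 < 14
  · rw [if_pos h, map_one, show Nat.blt i.1 14 = true by rw [Nat.blt_eq]; exact h]; rfl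
  · rw [if_neg h, eC_tab, show Nat.blt i.1 14 = false by
      rw [← Bool.not_eq_true, Nat.blt_eq]; exact h]
    rfl

theorem eAi_tab : HasTab act eA⁻¹ tAi := eA_tab.inv genA.inv

theorem eBi_tab : HasTab act eB⁻¹ tBi :=
  eB_tab.inv (d := 12) (by
    refine allBelow_of_upto (hi := 4060) (fun u _ hu _ => (seed_facts u hu).2.1) le_rfl (by decide))

theorem pow_tab (m : ℕ) : HasTab act (eA ^ m) (iter tA m) := by
  induction m with
  | zero => intro u; rw [pow_zero, map_one]; rfl
  | succ m ih => intro u; rw [pow_succ, map_mul, Equiv.Perm.mul_apply, ih, iter_succ, eA_tab]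

theorem eA_pow : eA ^ 29 = 1 :=
  act_injective (Equiv.ext fun u => Fin.ext (by rw [pow_tab 29 u, (seed_facts u u.2).2.2.2.2.1, map_one]; rfl))

theorem eA_ne_one : eA ≠ 1 := fun h => by
  have h0 := eA_tab 0
  rw [h, map_one] at h0
  exact absurd h0 (by show (0 : ℕ) ≠ tA 0; decide +kernel)

theorem orderOf_eA : orderOf eA = 29 := orderOf_eq_prime eA_pow eA_ne_one

theorem eB_eA : eB * eA * eB⁻¹ = eA ^ 4 := by
  rw [mul_inv_eq_iff_eq_mul]
  refine act_injective (Equiv.ext fun u => Fin.ext ?_)
  rw [map_mul, map_mul, Equiv.Perm.mul_apply, Equiv.Perm.mul_apply, pow_tab 4, eB_tab, eA_tab, eB_tab]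
  exact (seed_facts u u.2).2.2.2.1

theorem eX_eB (i : Fin 28) : eX i * eB = eB⁻¹ * eX i := by
  have h0 : eX0 * eB = eB⁻¹ * eX0 :=
    act_injective (Equiv.ext fun u => Fin.ext (by
      rw [map_mul, map_mul, Equiv.Perm.mul_apply, Equiv.Perm.mul_apply, eX0_tab, eB_tab, eBi_tab, eX0_tab]
      exact (candX_facts u u.2).2.2.2.1))
  have hc : Commute eC eB :=
    act_injective (Equiv.ext fun u => Fin.ext (by
      rw [map_mul, map_mul, Equiv.Perm.mul_apply, Equiv.Perm.mul_apply, eC_tab, eB_tab, eB_tab, eC_tab]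
      exact (candX_facts u u.2).2.2.2.2))
  have hd : Commute (eB ^ (i.1 % 14) * (if i.1 < 14 then 1 else eC)) eB := by
    refine (Commute.pow_self eB _).mul_left ?_
    split
    · exact Commute.one_left _
    · exact hc
  rw [eX, mul_assoc eX0, mul_assoc eX0, hd.eq, ← mul_assoc, h0, mul_assoc]

theorem lz_act (g : grp) : ∀ x y : Fin 4060, lz (act g x : Fin 4060) (act g y : Fin 4060) = lz x y :=
  lz_inv g.2

theorem first_image {g a a' : grp} {t t' : ℕ → ℕ} (ha : HasTab act a t) (ha' : HasTab act a' t')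
    (hg : g * a = a' * g) {q : ℕ × ℕ} (hq : q.1 < 4060) {ys : List ℕ}
    (hchk : nodeChk 12 4060 lz t t' [] q (ys.map fun y => [y]) [] = true) :
    ((act g ⟨q.1, hq⟩ : Fin 4060) : ℕ) ∈ ys := by
  obtain ⟨l, hl, hys⟩ := staged_sound (lz_act g) ha ha' hg
    (Staged.next (prev := []) (S := [[]]) (S' := ys.map fun y => [y]) hq
      (fun img hi => by rw [List.mem_singleton.1 hi]; exact hchk) Staged.done)
    [] (by simp) rfl (by simp)
  obtain ⟨y, hy, rfl⟩ := List.mem_map.1 hl
  obtain ⟨x, hx, hxy⟩ := hys (q, y) (by simp)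
  rw [show (⟨q.1, hq⟩ : Fin 4060) = x from Fin.ext hx.symm, hxy]
  exact hy

theorem eq_one_of_six {g : grp} (h : ∀ x : Fin 4060, x.1 < 6 → act g x = x) : g = 1 :=
  Subtype.ext (eq_one_of_fix_six g.2 h)

theorem one_node {d n : ℕ} {L : ℕ → ℕ → ℕ} {t t' : ℕ → ℕ} {prev : List (ℕ × ℕ)} {q : ℕ × ℕ}
    {img : List ℕ} {o : List (List ℕ)} (h : nodeChk d n L t t' prev q o img = true) :
    ∀ i ∈ [img], nodeChk d n L t t' prev q o i = true := fun i hi => by
  rw [List.mem_singleton.1 hi]; exact h

theorem fix_cent_a {g : grp} (hg : g * eA = eA * g)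
    (h0 : ((act g 0 : Fin 4060) : ℕ) = 0 ∨ ((act g 0 : Fin 4060) : ℕ) = Data.oR1) : g = 1 := by
  have st : Staged 12 4060 lz tA tA [(0, 29)] [[0], [Data.oR1]]
      [(1, 29), (2, 29), (3, 29), (4, 29), (5, 29)] [[0, 1, 2, 3, 4, 5]] :=
    .next (by norm_num) (fun i hi => by
        simp only [List.mem_cons, List.not_mem_nil, or_false] at hi
        rcases hi with rfl | rfl
        exacts [searchA1_0, searchA1_1])
      (.next (by norm_num) (one_node searchA2) (.next (by norm_num) (one_node searchA3)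
        (.next (by norm_num) (one_node searchA4) (.next (by norm_num) (one_node searchA5) .done))))
  obtain ⟨y, hy, hyg⟩ : ∃ y, [y] ∈ [[0], [Data.oR1]] ∧ ((act g 0 : Fin 4060) : ℕ) = y := by
    rcases h0 with h | h
    · exact ⟨0, List.mem_cons_self, h⟩
    · exact ⟨Data.oR1, List.mem_cons_of_mem _ List.mem_cons_self, h⟩
  obtain ⟨l, hl, hpts⟩ := staged_sound (lz_act g) eA_tab eA_tab hg st [y] hy rfl (by
    intro r hr
    simp only [List.zip_cons_cons, List.zip_nil_left, List.mem_singleton] at hr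
    subst hr
    exact ⟨0, rfl, hyg⟩)
  rw [List.mem_singleton.1 hl] at hpts
  refine eq_one_of_six fun x hx => ?_
  obtain ⟨z, hz, hzy⟩ := hpts ((x.1, 29), x.1) (by
    have h := x.2
    generalize x.1 = m at hx ⊢
    interval_cases m <;> simp)
  rw [show x = z from Fin.ext hz.symm]
  exact Fin.ext (hzy.trans hz.symm)

theorem fix_cent_b {g : grp} (hg : g * eB = eB * g) (h0 : ((act g 4 : Fin 4060) : ℕ) = 4) : g = 1 := by
  have st : Staged 12 4060 lz tB tB [(4, 14)] [[4]]
      [(0, 14), (1, 14), (2, 14), (3, 14), (5, 14)] [[4, 0, 1, 2, 3, 5]] :=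
    .next (by norm_num) (one_node searchB1)
      (.next (by norm_num) (one_node searchB2) (.next (by norm_num) (one_node searchB3)
        (.next (by norm_num) (one_node searchB4) (.next (by norm_num) (one_node searchB5) .done))))
  obtain ⟨l, hl, hpts⟩ := staged_sound (lz_act g) eB_tab eB_tab hg st [4] List.mem_cons_self rfl (by
    intro r hr
    simp only [List.zip_cons_cons, List.zip_nil_left, List.mem_singleton] at hr
    subst hr
    exact ⟨4, rfl, h0⟩)
  rw [List.mem_singleton.1 hl] at hpts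
  refine eq_one_of_six fun x hx => ?_
  obtain ⟨z, hz, hzy⟩ := hpts ((x.1, 14), x.1) (by
    have h := x.2
    generalize x.1 = m at hx ⊢
    interval_cases m <;> simp)
  rw [show x = z from Fin.ext hz.symm]
  exact Fin.ext (hzy.trans hz.symm)

theorem cent_a (g : grp) (hg : g * eA = eA * g) : g ∈ Subgroup.zpowers eA := by
  have hy := first_image eA_tab eA_tab hg (q := (0, 29)) (by norm_num) searchA0
  obtain ⟨i, hi, hie⟩ := List.getElem_of_mem hy
  obtain ⟨hlen, hall, -⟩ := yA_ok
  rw [List.all_eq_true] at hall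
  have h := hall i (List.mem_range.2 hi)
  simp only [Bool.and_eq_true, Nat.blt_eq, Nat.beq_eq] at h
  rw [List.getD_eq_getElem Data.oYA 0 hi, hie] at h
  set m := (Data.oYRed.getD i (0, 0)).1
  have hback : ∀ r : ℕ, (hr : r < 4060) → ((act g 0 : Fin 4060) : ℕ) = iter tA m r →
      ((act ((eA ^ m)⁻¹ * g) 0 : Fin 4060) : ℕ) = r := by
    intro r hr he
    have h1 : act g 0 = act (eA ^ m) ⟨r, hr⟩ := Fin.ext (by rw [he, pow_tab m ⟨r, hr⟩])
    rw [map_mul, Equiv.Perm.mul_apply, h1, map_inv, Equiv.Perm.inv_def, Equiv.symm_apply_apply]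
  have hcomm : (eA ^ m)⁻¹ * g * eA = eA * ((eA ^ m)⁻¹ * g) := by
    rw [mul_assoc, hg, ← mul_assoc, ← mul_assoc,
      ((Commute.refl eA).pow_left m).inv_left.eq]
  have hone : (eA ^ m)⁻¹ * g = 1 := by
    refine fix_cent_a hcomm ?_
    cases hb : Nat.beq (Data.oYRed.getD i (0, 0)).2 0
    · rw [hb, cond_false] at h
      exact Or.inr (hback _ yA_ok.2.2 h.2.symm)
    · rw [hb, cond_true] at h
      exact Or.inl (hback 0 (by norm_num) h.2.symm)
  rw [← inv_mul_eq_one.1 hone]
  exact Subgroup.pow_mem _ (Subgroup.mem_zpowers _) _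

theorem inverting (g : grp) (hg : g * eB = eB⁻¹ * g) : ∃ i, g = eX i := by
  have hy := first_image eB_tab eBi_tab hg (q := (4, 14)) (by norm_num) searchB0
  obtain ⟨j, hj, hje⟩ := List.getElem_of_mem hy
  have hall := yB_ok
  rw [List.all_eq_true] at hall
  have h := hall j (List.mem_range.2 hj)
  simp only [Bool.and_eq_true, Nat.blt_eq, Nat.beq_eq] at h
  rw [List.getD_eq_getElem Data.oYB 0 hj, hje] at h
  refine ⟨⟨_, h.1⟩, ?_⟩
  set x := eX ⟨_, h.1⟩
  have h1 : x⁻¹ * g = 1 := by
    refine fix_cent_b ?_ ?_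
    · have e : x⁻¹ * eB⁻¹ = eB * x⁻¹ := by
        rw [eq_mul_inv_iff_mul_eq, mul_assoc, inv_mul_eq_iff_eq_mul]
        exact (eX_eB ⟨_, h.1⟩).symm
      rw [mul_assoc, hg, ← mul_assoc, e, mul_assoc]
    · have h4 : act g (⟨4, by norm_num⟩ : Fin 4060) = act x ⟨4, by norm_num⟩ :=
        Fin.ext (h.2.symm.trans (eX_tab ⟨_, h.1⟩ ⟨4, by norm_num⟩).symm)
      rw [map_mul, Equiv.Perm.mul_apply, show (4 : Fin 4060) = ⟨4, by norm_num⟩ from rfl, h4, map_inv,
        Equiv.Perm.inv_def, Equiv.symm_apply_apply]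
  exact (inv_mul_eq_one.1 h1).symm

/-- Evaluation of a word on five letters. -/
noncomputable def wEl (f : ℕ → grp) : List ℕ → grp
  | [] => 1
  | j :: w => wEl f w * f j

theorem wEl_tab {f : ℕ → grp} {T : ℕ → ℕ → ℕ} (h : ∀ j, HasTab act (f j) (T j)) :
    ∀ w : List ℕ, HasTab act (wEl f w) (trace (w.map T))
  | [] => fun u => by rw [wEl, map_one]; rfl
  | j :: w => fun u => by
      rw [wEl, map_mul, Equiv.Perm.mul_apply, wEl_tab h w, h j, List.map_cons, trace_cons]

theorem map_wEl (ψ : grp →* grp) (f : ℕ → grp) : ∀ w, ψ (wEl f w) = wEl (fun j => ψ (f j)) w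
  | [] => map_one ψ
  | j :: w => by rw [wEl, map_mul, map_wEl ψ f w, wEl]

/-- The five elements. -/
noncomputable def letters (k : ℕ) (i : Fin 28) (j : ℕ) : grp :=
  if j = 0 then eA ^ k else if j = 1 then (eA ^ k)⁻¹ else if j = 2 then eB else
    if j = 3 then eB⁻¹ else eX i

theorem five_tab {k : ℕ} (hk : k = 1 ∨ k = 2) (i : Fin 28) (j : ℕ) :
    HasTab act (letters k i j) (five k i j) := by
  have e1 : HasTab act (eA ^ 2) tA2 := fun u => by rw [pow_tab 2 u]; rfl
  have e2 : HasTab act (eA ^ 2)⁻¹ tA2i := fun u => by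
    rw [pow_two, mul_inv_rev, map_mul, Equiv.Perm.mul_apply, eAi_tab, eAi_tab]; rfl
  have hb : ∀ a b : ℕ, a ≠ b → Nat.beq a b = false := fun a b h => by
    rw [← Bool.not_eq_true, Nat.beq_eq]; exact h
  unfold letters five
  by_cases h0 : j = 0
  · subst h0
    rcases hk with rfl | rfl
    · simpa using eA_tab
    · exact e1
  rw [if_neg h0, hb j 0 h0, cond_false]
  by_cases h1 : j = 1
  · subst h1
    rcases hk with rfl | rfl
    · simpa using eAi_tab
    · exact e2
  rw [if_neg h1, hb j 1 h1, cond_false]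
  by_cases h2 : j = 2
  · subst h2; simpa using eB_tab
  rw [if_neg h2, hb j 2 h2, cond_false]
  by_cases h3 : j = 3
  · subst h3; simpa using eBi_tab
  rw [if_neg h3, hb j 3 h3, cond_false]
  exact eX_tab i

theorem rel_holds {r : ℕ} (hr : r < 3) : wEl (letters 1 0) (Data.oRel.getD r []) = 1 := by
  have hc : allBelow 12 4060 (relStepO r) = true := by
    interval_cases r
    exacts [rel0_ok, rel1_ok, rel2_ok]
  refine act_injective (Equiv.ext fun u => Fin.ext ?_)
  rw [wEl_tab (five_tab (Or.inl rfl) 0), map_one]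
  exact Nat.eq_of_beq_eq_true (allBelow_spec hc u u.2)

theorem wN_eq : wEl (letters 1 0) Data.oWN = (⟨lineB, Subgroup.subset_closure
    (Set.mem_insert_of_mem _ rfl)⟩ : grp) :=
  act_injective (Equiv.ext fun u => Fin.ext (by
    rw [wEl_tab (five_tab (Or.inl rfl) 0)]
    exact (seed_facts u u.2).2.2.2.2.2.trans (lineB_val u).symm))

theorem rigid {ψ : MulAut grp} {k : ℕ} (hk : k = 1 ∨ k = 2) (ha : ψ eA = eA ^ k) (hb : ψ eB = eB) :
    ψ = 1 := by
  have hx : ψ (eX 0) * eB = eB⁻¹ * ψ (eX 0) := by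
    have e := congrArg ψ (eX_eB 0)
    rwa [map_mul, map_mul, map_inv, hb] at e
  obtain ⟨i, hi⟩ := inverting _ hx
  have hmap : ∀ j, ψ (letters 1 0 j) = letters k i j := by
    intro j
    unfold letters
    split_ifs <;> simp [ha, hb, hi]
  have hw : ∀ w, ψ (wEl (letters 1 0) w) = wEl (letters k i) w := fun w => by
    rw [show ψ (wEl (letters 1 0) w) = (ψ : grp →* grp) (wEl (letters 1 0) w) from rfl, map_wEl]
    congr 1
    exact funext hmap
  have hbreak : ∀ e : ℕ × ℕ, breakStep k i e = true → False := by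
    intro e he
    simp only [breakStep, Bool.and_eq_true, Nat.blt_eq, Bool.not_eq_true', ← Bool.not_eq_true,
      Nat.beq_eq] at he
    obtain ⟨⟨hr, hu⟩, hne⟩ := he
    have h1 := hw (Data.oRel.getD e.1 [])
    rw [rel_holds hr, map_one] at h1
    have h2 := wEl_tab (five_tab hk i) (Data.oRel.getD e.1 []) ⟨e.2, hu⟩
    rw [← h1, map_one] at h2
    exact hne h2.symm
  rcases hk with rfl | rfl
  · by_cases hi0 : i = 0
    · subst hi0
      have hfix : ∀ g ∈ Subgroup.closure ({lineA, lineB} : Set (Equiv.Perm (Fin 4060))),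
          ∀ hg : g ∈ grp, ψ ⟨g, hg⟩ = ⟨g, hg⟩ := by
        intro g hg'
        induction hg' using Subgroup.closure_induction with
        | mem x hx =>
            intro hg
            rcases hx with rfl | rfl
            · exact ha.trans (pow_one _)
            · have := hw Data.oWN
              rw [wN_eq] at this
              exact this
        | one => intro hg; exact map_one ψ
        | mul x y hx hy a b =>
            intro hg
            have := map_mul ψ (⟨x, hx⟩ : grp) ⟨y, hy⟩
            rw [a hx, b hy] at this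
            exact this
        | inv x hx a =>
            intro hg
            have := map_inv ψ (⟨x, hx⟩ : grp)
            rw [a hx] at this
            exact this
      exact MulEquiv.ext fun g => hfix g.1 g.2 g.2
    · have h := break1_ok
      rw [List.all_eq_true] at h
      have h' := h i.1 (List.mem_range.2 i.2)
      rw [Bool.or_eq_true, Nat.beq_eq] at h'
      exact (hbreak _ (h'.resolve_left fun e => hi0 (Fin.ext e))).elim
  · have h := break2_ok
    rw [List.all_eq_true] at h
    exact (hbreak _ (h i.1 (List.mem_range.2 i.2))).elim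

theorem grp_inner (φ : MulAut grp) : ∃ g : grp, MulAut.conj g * φ = 1 := by
  obtain ⟨g, hgb, k, hk, hga⟩ := exists_normalised_pow (p := 29) (r := 4) orderOf_eA
    (by rw [card_grp_and_stab.1]; norm_num) eB_eA cent_a [1, 2] (by decide) (by decide) (by decide) φ
  simp only [List.mem_cons, List.not_mem_nil, or_false] at hk
  exact ⟨g, rigid hk hga hgb⟩

/-- The outer automorphism group is trivial. -/
theorem natCard_out_ru : Nat.card (Cfsg.Out Cfsg.Spor.Ru) = 1 :=
  natCard_out_eq_one fun φ => by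
    obtain ⟨g, hg⟩ := grp_inner ((ruEquiv.symm.trans φ).trans ruEquiv)
    refine ⟨ruEquiv.symm g, MulEquiv.ext fun x => ruEquiv.injective ?_⟩
    have h := DFunLike.congr_fun hg (ruEquiv x)
    simp only [MulAut.mul_apply, MulAut.conj_apply, MulEquiv.trans_apply, MulEquiv.symm_apply_apply,
      MulAut.one_apply] at h
    simp only [MulAut.mul_apply, MulAut.conj_apply, MulAut.one_apply, map_mul, map_inv,
      MulEquiv.apply_symm_apply, h]

end CfsgLib.RuPerm
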