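import Cfsg.Agent.Lib.RuPerm.OutDefs

/-! Kernel checks for the automorphisms: the searches. -/

set_option autoImplicit false
set_option Elab.async false

namespace CfsgLib.RuPerm

open CfsgLib.SporRecognition.CosetCert CfsgLib.SporadicOut

theorem packStep_ok0 : allPow 4060 packStep 11 0 = true := by decide +kernel

theorem packStep_ok1 : allPow 4060 packStep 11 2048 = true := by decide +kernel

theorem packStep_ok : allBelow 12 4060 packStep = true :=
  allBelow_of_upto (hi := 4096) (Upto.trans ((Upto.of_pow packStep_ok0 (Nat.le_refl _)) : Upto _ _ 0 2048)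
    ((Upto.of_pow packStep_ok1 (Nat.le_refl _)) : Upto _ _ 2048 4096)) (by decide) (by decide)

theorem searchA0 : nodeChk 12 4060 lz tA tA [] (0, 29) (Data.oYA.map fun y => [y]) [] = true := by
  decide +kernel

theorem searchB0 : nodeChk 12 4060 lz tB tBi [] (4, 14) (Data.oYB.map fun y => [y]) [] = true := by
  decide +kernel

theorem searchA1_0 : nodeChk 12 4060 lz tA tA [(0, 29)] (1, 29) [[0, 1]] [0] = true := by
  decide +kernel

theorem searchA1_1 : nodeChk 12 4060 lz tA tA [(0, 29)] (1, 29) [[0, 1]] [Data.oR1] = true := by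
  decide +kernel

theorem searchA2 : nodeChk 12 4060 lz tA tA [(0, 29), (1, 29)] (2, 29) [[0, 1, 2]] [0, 1] = true := by
  decide +kernel

theorem searchA3 :
    nodeChk 12 4060 lz tA tA [(0, 29), (1, 29), (2, 29)] (3, 29) [[0, 1, 2, 3]] [0, 1, 2] = true := by
  decide +kernel

theorem searchA4 : nodeChk 12 4060 lz tA tA [(0, 29), (1, 29), (2, 29), (3, 29)] (4, 29)
    [[0, 1, 2, 3, 4]] [0, 1, 2, 3] = true := by
  decide +kernel

theorem searchA5 : nodeChk 12 4060 lz tA tA [(0, 29), (1, 29), (2, 29), (3, 29), (4, 29)] (5, 29)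
    [[0, 1, 2, 3, 4, 5]] [0, 1, 2, 3, 4] = true := by
  decide +kernel

theorem searchB1 : nodeChk 12 4060 lz tB tB [(4, 14)] (0, 14) [[4, 0]] [4] = true := by decide +kernel

theorem searchB2 : nodeChk 12 4060 lz tB tB [(4, 14), (0, 14)] (1, 14) [[4, 0, 1]] [4, 0] = true := by
  decide +kernel

theorem searchB3 :
    nodeChk 12 4060 lz tB tB [(4, 14), (0, 14), (1, 14)] (2, 14) [[4, 0, 1, 2]] [4, 0, 1] = true := by
  decide +kernel

theorem searchB4 : nodeChk 12 4060 lz tB tB [(4, 14), (0, 14), (1, 14), (2, 14)] (3, 14)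
    [[4, 0, 1, 2, 3]] [4, 0, 1, 2] = true := by
  decide +kernel

theorem searchB5 : nodeChk 12 4060 lz tB tB [(4, 14), (0, 14), (1, 14), (2, 14), (3, 14)] (5, 14)
    [[4, 0, 1, 2, 3, 5]] [4, 0, 1, 2, 3] = true := by
  decide +kernel

theorem yA_ok : Data.oYA.length = Data.oYRed.length ∧ (List.range Data.oYA.length).all (fun i =>
    Nat.blt (Data.oYRed.getD i (0, 0)).1 29 &&
      Nat.beq (iter tA (Data.oYRed.getD i (0, 0)).1
        (bif Nat.beq (Data.oYRed.getD i (0, 0)).2 0 then 0 else Data.oR1)) (Data.oYA.getD i 0)) = true ∧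
    Data.oR1 < 4060 := by
  decide +kernel

theorem yB_ok : (List.range Data.oYB.length).all (fun i =>
    Nat.blt (Data.oYCand.getD i 0) 28 &&
      Nat.beq (tX (Data.oYCand.getD i 0) 4) (Data.oYB.getD i 0)) = true := by
  decide +kernel

end CfsgLib.RuPerm
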