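import Cfsg.Agent.Lib.RuPerm.Label
import Cfsg.Agent.Lib.SporadicOut.Scheme

/-! Tables and tests for the automorphisms of the group on the lines. -/

set_option autoImplicit false
set_option Elab.async false

namespace CfsgLib.RuPerm

open CfsgLib.SporRecognition.CosetCert CfsgLib.SporadicOut

/-- The tables of the nodes. -/
noncomputable def nodeT (j : ℕ) : ℕ → ℕ :=
  tab ([Data.n0, Data.n1, Data.n2, Data.n3, Data.n4, Data.n5, Data.n6].getD j Data.n0) 12

/-- The first element. -/
noncomputable def tA : ℕ → ℕ := tab Data.n0 12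
/-- Its inverse. -/
noncomputable def tAi : ℕ → ℕ := tab Data.n0i 12
/-- Its square. -/
noncomputable def tA2 : ℕ → ℕ := trace [tA, tA]
/-- The inverse of the square. -/
noncomputable def tA2i : ℕ → ℕ := trace [tAi, tAi]
/-- The normalising element. -/
noncomputable def tB : ℕ → ℕ := tab Data.oB 12
/-- Its inverse. -/
noncomputable def tBi : ℕ → ℕ := tab Data.oBi 12
/-- The first inverting element. -/
noncomputable def tX0 : ℕ → ℕ := tab Data.oX0 12
/-- An element centralising the normalising element. -/
noncomputable def tC : ℕ → ℕ := tab Data.oC 12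
/-- The candidates. -/
noncomputable def tX (i : ℕ) (u : ℕ) : ℕ :=
  tX0 (iter tB (i % 14) (bif Nat.blt i 14 then u else tC u))

/-- Five letters. -/
noncomputable def five (k i : ℕ) (j : ℕ) : ℕ → ℕ :=
  bif Nat.beq j 0 then (bif Nat.beq k 1 then tA else tA2) else
    bif Nat.beq j 1 then (bif Nat.beq k 1 then tAi else tA2i) else
      bif Nat.beq j 2 then tB else bif Nat.beq j 3 then tBi else tX i

/-- A node word evaluates to a table. -/
noncomputable def nodeWordStep (w : List ℕ) (t : ℕ → ℕ) (u : ℕ) : Bool := Nat.beq (trace (w.map nodeT) u) (t u)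

/-- Checks on the two elements giving the candidates. -/
noncomputable def candXStep (u : ℕ) : Bool :=
  nodeWordStep Data.oWX tX0 u && nodeWordStep Data.oWC tC u && Nat.beq (tX0 (tX0 u)) u &&
    Nat.beq (tX0 (tB u)) (tBi (tX0 u)) && Nat.beq (tC (tB u)) (tB (tC u)) && invStep tC tC 4060 u

/-- Checks on the two seeds. -/
noncomputable def seedStep (u : ℕ) : Bool :=
  nodeWordStep Data.oWB tB u && invStep tB tBi 4060 u && invStep tBi tB 4060 u &&
    Nat.beq (tB (tA u)) (tA (tA (tA (tA (tB u))))) && Nat.beq (iter tA 29 u) u &&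
    Nat.beq (trace (Data.oWN.map (five 1 0)) u) (tab Data.n1 12 u)

/-- The relations hold. -/
noncomputable def relStepO (r u : ℕ) : Bool := Nat.beq (trace ((Data.oRel.getD r []).map (five 1 0)) u) u

/-- The relation breaks for a candidate. -/
noncomputable def breakStep (k i : ℕ) (e : ℕ × ℕ) : Bool :=
  Nat.blt e.1 3 && Nat.blt e.2 4060 && !Nat.beq (trace ((Data.oRel.getD e.1 []).map (five k i)) e.2) e.2

end CfsgLib.RuPerm
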