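import Cfsg.Agent.Lib.RuPerm.RigidDefs

/-! Class counts, second part. -/

set_option autoImplicit false
set_option Elab.async false

namespace CfsgLib.RuPerm

open CfsgLib.SporRecognition.CosetCert

theorem class3 : countPow 16240 (inClass 3 (codeK 3 12)) 14 0 = 2 := by decide +kernel

theorem class4 : countPow 16240 (inClass 4 (codeK 4 16)) 14 0 = 25 := by decide +kernel

theorem class5 : countPow 16240 (inClass 5 (codeK 5 20)) 14 0 = 4 := by decide +kernel

end CfsgLib.RuPerm
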