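import Cfsg.Agent.Lib.RuPerm.RigidDefs

/-! The single points. -/

set_option autoImplicit false
set_option Elab.async false

namespace CfsgLib.RuPerm

open CfsgLib.SporRecognition.CosetCert

private theorem singles_part0 : allPow 16240 singleStep 11 0 = true := by decide +kernel

private theorem singles_part1 : allPow 16240 singleStep 11 2048 = true := by decide +kernel

private theorem singles_part2 : allPow 16240 singleStep 11 4096 = true := by decide +kernel

private theorem singles_part3 : allPow 16240 singleStep 11 6144 = true := by decide +kernel

private theorem singles_part4 : allPow 16240 singleStep 11 8192 = true := by decide +kernel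

private theorem singles_part5 : allPow 16240 singleStep 11 10240 = true := by decide +kernel

private theorem singles_part6 : allPow 16240 singleStep 11 12288 = true := by decide +kernel

private theorem singles_part7 : allPow 16240 singleStep 11 14336 = true := by decide +kernel

private theorem singles_below : allBelow 14 16240 singleStep = true := by
  have e : allPow 16240 singleStep 14 0 = true :=
    allPow_append (allPow_append (allPow_append singles_part0 singles_part1) (allPow_append singles_part2 singles_part3))
      (allPow_append (allPow_append singles_part4 singles_part5) (allPow_append singles_part6 singles_part7))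
  rw [allBelow, show Nat.ble 16240 (Nat.pow 2 14) = true by decide +kernel, e]
  rfl

theorem singles_ok : allBelow 14 16240 singleStep = true ∧ Data.singles.length = 28 ∧
    Data.singleCodes.length = 28 ∧
    (List.range 28).all (fun m => decide (codeK 6 (Data.singles.getD m 0) = Data.singleCodes.getD m 0) &&
      Nat.beq (ptNum (singlePt m)).1 (Data.singles.getD m 0)) = true :=
  ⟨singles_below, by decide +kernel, by decide +kernel, by decide +kernel⟩

theorem singleVecs_ok :
    Data.singleVecs = List.ofFn fun m : Fin 56 => List.ofFn fun d : Fin 56 => vec (singleRow m.1) d := by
  decide +kernel

theorem combo_ok : ((List.finRange 56).all fun c : Fin 56 =>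
    ((comboSum (Data.comboRows.getD c.1 []) Data.singleVecs).zip (List.finRange 56)).all fun e : ℤ × Fin 56 =>
      (e.1 - if c = e.2 then 1 else 0) % 4093 == 0) = true := by
  decide +kernel

end CfsgLib.RuPerm
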