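import Cfsg.Agent.Lib.RuPerm.RigidClassA
import Cfsg.Agent.Lib.RuPerm.RigidClassB
import Cfsg.Agent.Lib.RuPerm.RigidSingles

/-! At most 583704576000 symmetries. -/

set_option autoImplicit false
set_option Elab.async false

namespace CfsgLib.RuPerm

open CfsgLib.SporRecognition.CosetCert

attribute [local irreducible] vec code linK

theorem ncard_class (k : Fin 6) :
    {p : Pt | code k.1 p = code k.1 (bpt k)}.ncard ≤ classSize.getD k.1 0 := by
  have hcard : Nat.card Pt = 16240 := by simp
  rcases Nat.eq_zero_or_pos k.1 with h | h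
  · rw [show k = 0 from Fin.ext h]
    exact (Set.ncard_le_card _).trans hcard.le
  · obtain ⟨k', hk'⟩ : ∃ k' : Fin 6, k'.1 + 1 = k.1 := ⟨⟨k.1 - 1, by omega⟩, by simp only; omega⟩
    have hsub : ptNum '' {p : Pt | code k.1 p = code k.1 (bpt k)} ⊆
        {q : Fin 16240 | inClass k.1 (codeK k.1 (4 * k.1)) q.1 = true} := by
      rintro _ ⟨p, hp, rfl⟩
      simp only [Set.mem_ofPred_eq, inClass, decide_eq_true_eq] at hp ⊢
      rw [← hk'] at hp ⊢
      rw [code_ptNum, code_ptNum] at hp
      rw [hp]
      congr 1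
      simp only [ptNum, bpt, hk']
      rfl
    rw [← Set.ncard_image_of_injective _ ptNum_injective]
    refine (Set.ncard_le_ncard hsub (Set.toFinite _)).trans (le_of_eq ?_)
    have hc : countPow 16240 (inClass k.1 (codeK k.1 (4 * k.1))) 14 0 = classSize.getD k.1 0 := by
      have h5 := k.2
      obtain ⟨kv, hkv⟩ := k
      simp only at h h5 ⊢
      interval_cases kv
      exacts [class1, class2, class3, class4, class5]
    rw [← hc, countPow_spec, ← Set.ncard_coe_finset, ← Set.ncard_image_of_injective _ Fin.val_injective]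
    congr 1
    ext q
    simp only [Set.mem_image, Set.mem_ofPred_eq, Finset.coe_filter, Finset.mem_Ico, zero_add,
      zero_le, true_and]
    constructor
    · rintro ⟨v, hv, rfl⟩; exact ⟨by omega, v.2, hv⟩
    · rintro ⟨-, hq, hv⟩; exact ⟨⟨q, hq⟩, hv, rfl⟩

theorem fix_single {σ : Equiv.Perm Pt} (hσ : σ ∈ sym) (hfix : ∀ j : Fin 6, σ (bpt j) = bpt j)
    {m : ℕ} (hm : m < 28) : σ (singlePt m) = singlePt m := by
  obtain ⟨hall, hl1, hl2, hsing⟩ := singles_ok
  simp only [List.all_eq_true, List.mem_range, Bool.and_eq_true, decide_eq_true_eq, Nat.beq_eq]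
    at hsing
  obtain ⟨hc, hn⟩ := hsing m hm
  apply ptNum_injective
  have h := code_apply hσ 6 (fun j _ => hfix j) (singlePt m)
  rw [code_ptNum ⟨5, by norm_num⟩, code_ptNum ⟨5, by norm_num⟩] at h
  simp only at h
  rw [hn, hc] at h
  have := allBelow_spec hall _ (ptNum (σ (singlePt m))).2
  simp only [singleStep, List.all_eq_true, Bool.or_eq_true, Bool.not_eq_true', decide_eq_false_iff_not,
    Nat.beq_eq] at this
  have hmem : (Data.singleCodes.getD m 0, Data.singles.getD m 0) ∈
      List.zip Data.singleCodes Data.singles := by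
    rw [List.getD_eq_getElem _ _ (hl2 ▸ hm), List.getD_eq_getElem _ _ (hl1 ▸ hm)]
    exact List.mem_iff_getElem.2 ⟨m, by simp [hl1, hl2, hm], List.getElem_zip⟩
  rcases this _ hmem with h' | h'
  · exact absurd h h'
  · exact Fin.ext (by rw [h']; exact hn.symm)

theorem comboSum_length : ∀ (ks : List ℤ) (rs : List (List ℤ)), (∀ r ∈ rs, r.length = 56) →
    (comboSum ks rs).length = 56
  | [], _, _ => List.length_replicate
  | _ :: _, [], _ => List.length_replicate
  | k :: ks, r :: rs, h => by
      simp [comboSum, h r List.mem_cons_self,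
        comboSum_length ks rs fun x hx => h x (List.mem_cons_of_mem _ hx)]

theorem comboSum_dot (D : Fin 56 → ℤ) : ∀ (ks : List ℤ) (rs : List (List ℤ)),
    (∀ r ∈ rs, r.length = 56 ∧ ∑ d : Fin 56, D d * r.getD d.1 0 = 0) →
    ∑ d : Fin 56, D d * (comboSum ks rs).getD d.1 0 = 0
  | [], _, _ => Finset.sum_eq_zero fun d _ => by
      show D d * (List.replicate 56 (0 : ℤ)).getD d.1 0 = 0
      rw [List.getD_eq_getElem _ _ (by simp), List.getElem_replicate, mul_zero]
  | _ :: _, [], _ => Finset.sum_eq_zero fun d _ => by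
      show D d * (List.replicate 56 (0 : ℤ)).getD d.1 0 = 0
      rw [List.getD_eq_getElem _ _ (by simp), List.getElem_replicate, mul_zero]
  | k :: ks, r :: rs, h => by
      obtain ⟨hl, hr⟩ := h r List.mem_cons_self
      have ih := comboSum_dot D ks rs fun x hx => h x (List.mem_cons_of_mem _ hx)
      have hl' := comboSum_length ks rs fun x hx => (h x (List.mem_cons_of_mem _ hx)).1
      calc ∑ d : Fin 56, D d * (comboSum (k :: ks) (r :: rs)).getD d.1 0
          = ∑ d : Fin 56, (k * (D d * r.getD d.1 0) + D d * (comboSum ks rs).getD d.1 0) :=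
            Finset.sum_congr rfl fun d _ => by
              have hd := d.2
              show D d * (List.zipWith (fun a b => k * a + b) r (comboSum ks rs)).getD d.1 0 = _
              rw [List.getD_eq_getElem _ _ (by simp [hl, hl']), List.getD_eq_getElem _ _ (by omega),
                List.getD_eq_getElem _ _ (by omega), List.getElem_zipWith]
              ring
        _ = 0 := by rw [Finset.sum_add_distrib, ← Finset.mul_sum, hr, ih, mul_zero, add_zero]

theorem eq_one_of_fix {σ : Equiv.Perm Pt} (hσ : σ ∈ sym) (hfix : ∀ j : Fin 6, σ (bpt j) = bpt j) :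
    σ = 1 := by
  have hrow : ∀ m : Fin 56, σ (singleRow m.1) = singleRow m.1 := by
    intro m
    have hm : m.1 / 2 < 28 := by omega
    unfold singleRow
    split
    · exact fix_single hσ hfix hm
    · rw [hσ.2, fix_single hσ hfix hm]
  refine Equiv.ext fun p => vec_injective (funext fun c => ?_)
  rw [Equiv.Perm.one_apply]
  set D : Fin 56 → ℤ := fun d => vec (σ p) d - vec p d
  have hD : ∀ m : Fin 56, ∑ d, D d * vec (singleRow m.1) d = 0 := by
    intro m
    have h1 := hσ.1 p (singleRow m.1)
    rw [hrow m] at h1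
    simp only [ip, lin] at h1
    simp only [D, sub_mul, Finset.sum_sub_distrib]
    linarith
  have hdvd : (4093 : ℤ) ∣ D c := by
    have hrows : ∀ r ∈ Data.singleVecs, r.length = 56 ∧ ∑ d : Fin 56, D d * r.getD d.1 0 = 0 := by
      intro r hr
      rw [singleVecs_ok] at hr
      obtain ⟨m, rfl⟩ := List.mem_ofFn.1 hr
      refine ⟨List.length_ofFn, ?_⟩
      rw [← hD m]
      refine Finset.sum_congr rfl fun d _ => ?_
      rw [List.getD_eq_getElem _ _ (by simp), List.getElem_ofFn]
    have h1 := comboSum_dot D (Data.comboRows.getD c.1 []) Data.singleVecs hrows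
    have hlen := comboSum_length (Data.comboRows.getD c.1 []) Data.singleVecs fun r hr => (hrows r hr).1
    set row := comboSum (Data.comboRows.getD c.1 []) Data.singleVecs with hrow'
    have hmod : ∀ d : Fin 56, (4093 : ℤ) ∣ row.getD d.1 0 - if c = d then 1 else 0 := by
      intro d
      have h := combo_ok
      simp only [List.all_eq_true, beq_iff_eq] at h
      have hd : d.1 < row.length := by omega
      rw [List.getD_eq_getElem _ _ hd]
      refine Int.dvd_of_emod_eq_zero ?_
      have hz : (row[d.1], d) ∈ row.zip (List.finRange 56) :=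
        List.mem_iff_getElem.2 ⟨d.1, by simp [hlen], by simp⟩
      exact h c (List.mem_finRange c) _ hz
    have h2 : (4093 : ℤ) ∣ ∑ d : Fin 56, D d * (row.getD d.1 0 - if c = d then 1 else 0) :=
      Finset.dvd_sum fun d _ => (hmod d).mul_left _
    simp only [mul_sub, Finset.sum_sub_distrib, h1, mul_ite, mul_one, mul_zero, Finset.sum_ite_eq,
      Finset.mem_univ, if_true, zero_sub, dvd_neg] at h2
    exact h2
  have ha := abs_le.1 (abs_vec_le (σ p) c)
  have hb := abs_le.1 (abs_vec_le p c)
  obtain ⟨t, ht⟩ := hdvd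
  simp only [D] at ht
  omega

/-- The stabiliser of the first `k` base points in the symmetry group. -/
noncomputable def symStab (k : ℕ) : Subgroup (Equiv.Perm Pt) :=
  sym ⊓ ⨅ (j : Fin 6) (_ : j.1 < k), MulAction.stabilizer (Equiv.Perm Pt) (bpt j)

theorem mem_symStab {k : ℕ} {σ : Equiv.Perm Pt} :
    σ ∈ symStab k ↔ σ ∈ sym ∧ ∀ j : Fin 6, j.1 < k → σ (bpt j) = bpt j := by
  simp only [symStab, Subgroup.mem_inf, Subgroup.mem_iInf, MulAction.mem_stabilizer_iff,
    Equiv.Perm.smul_def]

attribute [local irreducible] symStab sym classSize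

theorem card_symStab_le (k : Fin 6) :
    Nat.card (symStab k.1) ≤ classSize.getD k.1 0 * Nat.card (symStab (k.1 + 1)) := by
  have h1 := Subgroup.card_mul_index (MulAction.stabilizer (symStab k.1) (bpt k))
  rw [MulAction.index_stabilizer] at h1
  have horb : (MulAction.orbit (symStab k.1) (bpt k)).ncard ≤ classSize.getD k.1 0 := by
    refine le_trans (Set.ncard_le_ncard ?_ (Set.toFinite _)) (ncard_class k)
    rintro _ ⟨⟨σ, hσ⟩, rfl⟩
    obtain ⟨h, hfix⟩ := mem_symStab.1 hσ
    show code k.1 (σ (bpt k)) = code k.1 (bpt k)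
    exact code_apply h k.1 hfix (bpt k)
  have hst : Nat.card (MulAction.stabilizer (symStab k.1) (bpt k)) ≤ Nat.card (symStab (k.1 + 1)) := by
    refine Nat.card_le_card_of_injective (fun x => (⟨(x.1 : Equiv.Perm Pt), mem_symStab.2 ⟨
      (mem_symStab.1 x.1.2).1, fun j hj => ?_⟩⟩ : symStab (k.1 + 1))) ?_
    · rcases Nat.lt_succ_iff_lt_or_eq.1 hj with hj | hj
      · exact (mem_symStab.1 x.1.2).2 j hj
      · obtain rfl : j = k := Fin.ext hj
        have hx := MulAction.mem_stabilizer_iff.1 x.2
        rw [Subgroup.smul_def, Equiv.Perm.smul_def] at hx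
        exact hx
    · intro x y h
      exact Subtype.ext (Subtype.ext (congrArg (fun z : symStab (k.1 + 1) => (z : Equiv.Perm Pt)) h))
  rw [← h1, mul_comm (classSize.getD k.1 0)]
  exact Nat.mul_le_mul hst horb

/-- The upper bound. -/
theorem card_sym_le : Nat.card sym ≤ 583704576000 := by
  have h6 : Nat.card (symStab 6) ≤ 1 := by
    have : Subsingleton (symStab 6) := ⟨fun a b => Subtype.ext (by
      obtain ⟨ha, ha'⟩ := mem_symStab.1 a.2
      obtain ⟨hb, hb'⟩ := mem_symStab.1 b.2
      rw [eq_one_of_fix ha fun j => ha' j j.2, eq_one_of_fix hb fun j => hb' j j.2])⟩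
    exact Finite.card_le_one_iff_subsingleton.2 this
  have h0 : symStab 0 = sym := by
    ext σ; simp [mem_symStab]
  have c := fun (k : ℕ) (hk : k < 6) => card_symStab_le ⟨k, hk⟩
  have c0 := c 0 (by norm_num)
  have c1 := c 1 (by norm_num)
  have c2 := c 2 (by norm_num)
  have c3 := c 3 (by norm_num)
  have c4 := c 4 (by norm_num)
  have c5 := c 5 (by norm_num)
  simp only [classSize, List.getD_cons_zero, List.getD_cons_succ, h0, Nat.reduceAdd] at c0 c1 c2 c3 c4 c5
  omega

end CfsgLib.RuPerm
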