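import Cfsg.Agent.Lib.RuPerm.RigidDefs

/-! Class counts, first part. -/

set_option autoImplicit false
set_option Elab.async false

namespace CfsgLib.RuPerm

open CfsgLib.SporRecognition.CosetCert

theorem class1 : countPow 16240 (inClass 1 (codeK 1 4)) 14 0 = 2304 := by decide +kernel

theorem class2 : countPow 16240 (inClass 2 (codeK 2 8)) 14 0 = 78 := by decide +kernel

end CfsgLib.RuPerm
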