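import Cfsg.Agent.Lib.RuPerm.Vectors
import Cfsg.Agent.Lib.RuPerm.Data.Rigid

/-! Symmetries of the points and the data for their rigidity. -/

set_option autoImplicit false
set_option Elab.async false

namespace CfsgLib.RuPerm

open CfsgLib.SporRecognition.CosetCert

/-- The real inner product. -/
noncomputable def ip (p q : Pt) : ℤ := lin (vec q) (vec p)

/-- Symmetries of the point set. -/
noncomputable def sym : Subgroup (Equiv.Perm Pt) where
  carrier := {σ | (∀ p q, ip (σ p) (σ q) = ip p q) ∧ ∀ p, σ (rotP p) = rotP (σ p)}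
  one_mem' := ⟨fun _ _ => rfl, fun _ => rfl⟩
  mul_mem' := by
    rintro a b ⟨ha, ha'⟩ ⟨hb, hb'⟩
    exact ⟨fun p q => by simp only [Equiv.Perm.mul_apply, ha, hb],
      fun p => by simp only [Equiv.Perm.mul_apply, hb', ha']⟩
  inv_mem' := by
    rintro a ⟨ha, ha'⟩
    refine ⟨fun p q => ?_, fun p => ?_⟩
    · simp only [Equiv.Perm.coe_inv]
      conv_rhs => rw [← a.apply_symm_apply p, ← a.apply_symm_apply q, ha]
    · apply a.injective
      rw [ha', Equiv.Perm.coe_inv, Equiv.apply_symm_apply, Equiv.apply_symm_apply]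

/-- The base points. -/
def bpt (j : Fin 6) : Pt := (⟨j.1, by omega⟩, 0)

/-- The combined weight of the first `k` base points. -/
noncomputable def codeW (k : ℕ) (c : Fin 56) : ℤ :=
  ∑ j : Fin 6, if j.1 < k then
    256 ^ (2 * j.1) * vec (bpt j) c + 256 ^ (2 * j.1 + 1) * vec (rotP (bpt j)) c else 0

/-- The profile code with respect to the first `k` base points. -/
noncomputable def code (k : ℕ) (p : Pt) : ℤ := lin (codeW k) (vec p)

theorem code_eq (k : ℕ) (p : Pt) : code k p =
    ∑ j : Fin 6, if j.1 < k then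
      256 ^ (2 * j.1) * ip p (bpt j) + 256 ^ (2 * j.1 + 1) * ip p (rotP (bpt j)) else 0 := by
  simp only [code, codeW, lin, ip, Finset.mul_sum]
  rw [Finset.sum_comm]
  refine Finset.sum_congr rfl fun j _ => ?_
  split
  · rw [← Finset.sum_add_distrib]
    exact Finset.sum_congr rfl fun c _ => by ring
  · simp

theorem code_apply {σ : Equiv.Perm Pt} (hσ : σ ∈ sym) (k : ℕ)
    (hfix : ∀ j : Fin 6, j.1 < k → σ (bpt j) = bpt j) (p : Pt) : code k (σ p) = code k p := by
  rw [code_eq, code_eq]
  refine Finset.sum_congr rfl fun j _ => ?_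
  split
  · rename_i hj
    have h1 : ip (σ p) (bpt j) = ip p (bpt j) := by
      conv_lhs => rw [← hfix j hj]
      exact hσ.1 _ _
    have h2 : ip (σ p) (rotP (bpt j)) = ip p (rotP (bpt j)) := by
      conv_lhs => rw [← hfix j hj, ← hσ.2]
      exact hσ.1 _ _
    rw [h1, h2]
  · rfl

/-- Packed weights of the codes. -/
noncomputable def codePack (k e : ℕ) : ℕ :=
  [[Data.code1_0, Data.code1_1, Data.code1_2, Data.code1_3],
   [Data.code2_0, Data.code2_1, Data.code2_2, Data.code2_3],
   [Data.code3_0, Data.code3_1, Data.code3_2, Data.code3_3],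
   [Data.code4_0, Data.code4_1, Data.code4_2, Data.code4_3],
   [Data.code5_0, Data.code5_1, Data.code5_2, Data.code5_3],
   [Data.code6_0, Data.code6_1, Data.code6_2, Data.code6_3]].getD (k - 1) [] |>.getD e 0

theorem codePack_ok : ∀ (k : Fin 6) (e : Fin 4) (c : Fin 56),
    wAt (codePack (k.1 + 1) e.1) 128 c.1 = rotT^[e.1] (codeW (k.1 + 1)) c := by
  decide +kernel

/-- Kernel evaluation of a code. -/
noncomputable def codeK (k q : ℕ) : ℤ :=
  linK (Nat.shiftRight q 2) (codePack k (Nat.land q 3)) 128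

theorem code_ptNum (k : Fin 6) (p : Pt) : code (k.1 + 1) p = codeK (k.1 + 1) (ptNum p).1 := by
  have h1 : Nat.shiftRight (ptNum p).1 2 = p.1.1 := by
    show (4 * p.1.1 + p.2.1) >>> 2 = _
    rw [Nat.shiftRight_eq_div_pow]; omega
  have h2 : Nat.land (ptNum p).1 3 = p.2.1 := by
    show (4 * p.1.1 + p.2.1) &&& 3 = _
    rw [show (3 : ℕ) = 2 ^ 2 - 1 from rfl, Nat.and_two_pow_sub_one_eq_mod]; omega
  rw [codeK, h1, h2, code, vec, lin_rot_iter,
    show rotT^[p.2.1] (codeW (k.1 + 1)) = fun c : Fin 56 => wAt (codePack (k.1 + 1) p.2.1) 128 c.1 from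
      funext fun c => (codePack_ok k p.2 c).symm,
    lin_vecF _ _ (posOf_lt p.1)]

/-- Class membership test. -/
noncomputable def inClass (k : ℕ) (t : ℤ) (q : ℕ) : Bool := decide (codeK k q = t)

/-- The sizes of the classes. -/
def classSize : List ℕ := [16240, 2304, 78, 2, 25, 4]

/-- A single point. -/
def singlePt (m : ℕ) : Pt :=
  (⟨Data.singles.getD m 0 / 4 % 4060, Nat.mod_lt _ (by norm_num)⟩, ⟨Data.singles.getD m 0 % 4, by omega⟩)

/-- A point is alone in its profile. -/
noncomputable def singleStep (q : ℕ) : Bool :=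
  (List.zip Data.singleCodes Data.singles).all fun e => !decide (codeK 6 q = e.1) || Nat.beq q e.2

/-- The points `s` and `i s` for the singles. -/
def singleRow (m : ℕ) : Pt := if m % 2 = 0 then singlePt (m / 2) else rotP (singlePt (m / 2))

/-- A combination of rows. -/
def comboSum : List ℤ → List (List ℤ) → List ℤ
  | k :: ks, r :: rs => List.zipWith (fun a b => k * a + b) r (comboSum ks rs)
  | _, _ => List.replicate 56 0

end CfsgLib.RuPerm
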