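import Cfsg.Agent.Lib.RuPerm.Gens
import Cfsg.Agent.Lib.Rudvalis.LatticeMin
import Cfsg.Agent.Lib.RuPerm.Data.Span

/-! Checks: the enclosing group is spanned by derived vectors, and the generators preserve it. -/

set_option autoImplicit false
set_option Elab.async false

namespace CfsgLib.RuPerm

open Cfsg.Spor

/-- A lattice vector from a coordinate function. -/
def ofF (f : Fin 56 → ℤ) : RuVec := RuLattice.ofL (List.ofFn f)

/-- The point with a given number. -/
def ptOf (q : ℕ) : Pt := (⟨q / 4 % 4060, Nat.mod_lt _ (by norm_num)⟩, ⟨q % 4, Nat.mod_lt _ (by norm_num)⟩)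

/-- The monomial operations. -/
def opR : ℕ → RuVec → RuVec
  | 0 => fun v => gI • v
  | 1 => ruRj
  | 2 => ruRk
  | 3 => ruSign
  | 4 => ruShift
  | _ => fun v => v

/-- A derivation. -/
def derAt (i : ℕ) : ℕ × ℕ × ℕ := Data.spanDer.getD i (0, 5, 0)

/-- One derivation is correct. -/
noncomputable def derStep (i : ℕ) : Bool :=
  if (derAt i).2.1 < 5 then
    decide ((derAt i).1 < i) && (List.ofFn (vec (ptOf (derAt i).2.2)) ==
      RuLattice.toL (opR (derAt i).2.1 (ofF (vec (ptOf (derAt (derAt i).1).2.2)))))
  else decide (i < ruTable.length) &&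
    (List.ofFn (vec (ptOf (derAt i).2.2)) == RuLattice.toL (ruTable.getD i 0))

theorem der_ok : (List.range 99).all derStep = true := by decide +kernel

/-- The `k`-th spanning vector. -/
noncomputable def useVec (k : ℕ) : Fin 56 → ℤ := vec (ptOf (derAt (Data.spanUse.getD k 0)).2.2)

theorem use_lt : ∀ k : Fin 40, Data.spanUse.getD k.1 0 < 99 := by decide +kernel

theorem unit_lt : ∀ p : Fin 56, Data.spanUnit.getD p.1 0 < 99 := by decide +kernel

theorem unit_ok : ∀ p c : Fin 56,
    vec (ptOf (derAt (Data.spanUnit.getD p.1 0)).2.2) c = if c = p then 4 else 0 := by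
  decide +kernel

theorem combo_mod : ∀ h : Fin 40, ∀ c : Fin 56, ((RuLattice.basis.getD h.1 []).getD c.1 0 -
    ∑ k : Fin 40, (Data.spanCombo.getD h.1 []).getD k.1 0 * useVec k.1 c) % 4 = 0 := by
  decide +kernel

theorem basis_len : RuLattice.basis.length = 40 := by decide +kernel

/-- Images of the enclosing group are integral and stay inside. -/
def imgChk (cols : List (List ℤ)) (cb cc : List (List ℤ)) : Bool :=
  ((List.range 40).all fun k =>
    ((List.finRange 56).all fun q =>
      linMap cols (fun c => (RuLattice.basis.getD k []).getD c.1 0) q % 4 == 0) &&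
    RuLattice.chkMem (List.ofFn fun q =>
      linMap cols (fun c => (RuLattice.basis.getD k []).getD c.1 0) q / 4) (cb.getD k [])) &&
  (List.finRange 56).all fun p =>
    RuLattice.chkMem (List.ofFn fun q => colAt cols p q) (cc.getD p.1 [])

theorem imgA_ok : imgChk Data.colsA Data.imgBasisA Data.imgColsA = true := by decide +kernel

theorem imgB_ok : imgChk Data.colsB Data.imgBasisB Data.imgColsB = true := by decide +kernel

end CfsgLib.RuPerm
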