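import Mathlib
import Cfsg.Agent.Lib.SporRecognition.CosetCert.Chain
import Cfsg.Agent.Lib.RuPerm.Data.Points
import Cfsg.Agent.Lib.RuPerm.Data.Weights

/-!
The 16240 vectors as functions on 56 integer coordinates, and kernel-evaluable linear functionals.
-/

set_option autoImplicit false
set_option Elab.async false

namespace CfsgLib.RuPerm

open CfsgLib.SporRecognition.CosetCert

/-- Entry of a packed table with `64` leaves. -/
noncomputable def tab (T : BTree) (w i : ℕ) : ℕ :=
  field (T.get (Nat.land i 63)) w (Nat.shiftRight i 6)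

/-- Packed entries of a line representative. -/
noncomputable def repPack (i : ℕ) : ℕ := tab Data.reps 160 i

/-- Position of the `k`-th entry. -/
noncomputable def posOf (i k : ℕ) : ℕ := Nat.land (field (repPack i) 10 k) 63

/-- Value of the `k`-th entry. -/
noncomputable def valOf (i k : ℕ) : ℤ := (Nat.shiftRight (field (repPack i) 10 k) 6 : ℤ) - 4

/-- Bias of a packed weight. -/
noncomputable def biasOf (wd : ℕ) : ℕ := Nat.shiftLeft 1 (Nat.sub wd 1)

/-- A packed signed weight. -/
noncomputable def wAt (N wd c : ℕ) : ℤ := (field N wd c : ℤ) - (biasOf wd : ℤ)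

/-- Positive part of the kernel evaluation. -/
noncomputable def linPos (i N wd : ℕ) : ℕ :=
  Nat.rec 0 (fun k acc => Nat.add acc (Nat.add
    (Nat.mul (Nat.shiftRight (field (repPack i) 10 k) 6) (field N wd (posOf i k)))
    (Nat.mul 4 (biasOf wd)))) 16

/-- Negative part of the kernel evaluation. -/
noncomputable def linNeg (i N wd : ℕ) : ℕ :=
  Nat.rec 0 (fun k acc => Nat.add acc (Nat.add (Nat.mul 4 (field N wd (posOf i k)))
    (Nat.mul (Nat.shiftRight (field (repPack i) 10 k) 6) (biasOf wd)))) 16

/-- Kernel evaluation of a functional on a representative. -/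
noncomputable def linK (i N wd : ℕ) : ℤ := (linPos i N wd : ℤ) - (linNeg i N wd : ℤ)

/-- The coordinates of a representative. -/
noncomputable def vecF (i : ℕ) (c : Fin 56) : ℤ :=
  ∑ k ∈ Finset.range 16, if posOf i k = c.1 then valOf i k else 0

/-- The functional with weights `w`. -/
def lin (w f : Fin 56 → ℤ) : ℤ := ∑ c, f c * w c

theorem lin_vecF {i : ℕ} (N wd : ℕ) (hp : ∀ k < 16, posOf i k < 56) :
    lin (fun c => wAt N wd c.1) (vecF i) = linK i N wd := by
  have h : ∀ (g : ℕ → ℕ) (m : ℕ), ((Nat.rec 0 (fun k acc => Nat.add acc (g k)) m : ℕ) : ℤ) =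
      ∑ k ∈ Finset.range m, (g k : ℤ) := by
    intro g m
    induction m with
    | zero => rfl
    | succ m ih =>
        rw [Finset.sum_range_succ, ← ih]
        exact Nat.cast_add _ _
  rw [linK, linPos, linNeg, h, h, ← Finset.sum_sub_distrib]
  simp only [lin, vecF, Finset.sum_mul]
  rw [Finset.sum_comm]
  refine Finset.sum_congr rfl fun k hk => ?_
  have hlt := hp k (Finset.mem_range.1 hk)
  rw [Finset.sum_eq_single (⟨posOf i k, hlt⟩ : Fin 56)]
  · rw [if_pos rfl]
    simp only [wAt, valOf, Nat.add_eq, Nat.mul_eq, Nat.cast_add, Nat.cast_mul, Nat.cast_ofNat]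
    ring
  · intro c _ hc
    rw [if_neg fun h => hc (Fin.ext h.symm), zero_mul]
  · intro h; exact absurd (Finset.mem_univ _) h

/-- The other coordinate of the same Gaussian entry. -/
def pcoord (c : Fin 56) : Fin 56 :=
  if h : c.1 % 2 = 0 then ⟨c.1 + 1, by omega⟩ else ⟨c.1 - 1, by omega⟩

/-- Multiplication by `i`. -/
def rot (f : Fin 56 → ℤ) (c : Fin 56) : ℤ := if c.1 % 2 = 0 then -f (pcoord c) else f (pcoord c)

/-- The transpose of `rot`. -/
def rotT (w : Fin 56 → ℤ) (c : Fin 56) : ℤ := if c.1 % 2 = 0 then w (pcoord c) else -w (pcoord c)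

theorem pcoord_pcoord (c : Fin 56) : pcoord (pcoord c) = c := by
  revert c; decide

theorem pcoord_parity (c : Fin 56) : ((pcoord c).1 % 2 = 0) = ¬(c.1 % 2 = 0) := by
  revert c; decide

theorem lin_rot (w f : Fin 56 → ℤ) : lin w (rot f) = lin (rotT w) f := by
  unfold lin
  refine Finset.sum_bij' (fun c _ => pcoord c) (fun c _ => pcoord c) (fun c _ => Finset.mem_univ _)
    (fun c _ => Finset.mem_univ _) (fun c _ => pcoord_pcoord c) (fun c _ => pcoord_pcoord c)
    fun c _ => ?_
  simp only [rot, rotT, pcoord_pcoord, pcoord_parity]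
  by_cases h : c.1 % 2 = 0 <;> simp [h]

theorem lin_rot_iter (w f : Fin 56 → ℤ) : ∀ e, lin w (rot^[e] f) = lin (rotT^[e] w) f
  | 0 => rfl
  | e + 1 => by
      rw [Function.iterate_succ_apply' rot, lin_rot, lin_rot_iter (rotT w) f e,
        ← Function.iterate_succ_apply]

theorem rot_four (f : Fin 56 → ℤ) : rot^[4] f = f := by
  funext c
  simp only [Function.iterate_succ, Function.iterate_zero, Function.comp_apply, id_eq, rot,
    pcoord_pcoord, pcoord_parity]
  by_cases h : c.1 % 2 = 0 <;> simp [h]

theorem rot_sub (f g : Fin 56 → ℤ) : rot (f - g) = rot f - rot g := by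
  funext c
  simp only [rot, Pi.sub_apply]
  split <;> ring

/-- The point type: a line and a phase. -/
abbrev Pt : Type := Fin 4060 × Fin 4

/-- The vector of a point. -/
noncomputable def vec (p : Pt) : Fin 56 → ℤ := rot^[p.2.1] (vecF p.1.1)

/-- Multiplication of a point by `i`. -/
def rotP (p : Pt) : Pt := (p.1, p.2 + 1)

theorem rot_iter_mod (f : Fin 56 → ℤ) (e : ℕ) : rot^[e % 4] f = rot^[e] f := by
  conv_rhs => rw [← Nat.mod_add_div e 4]
  rw [Function.iterate_add_apply]
  congr 1
  induction e / 4 with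
  | zero => rfl
  | succ m ih => rw [Nat.mul_succ, Function.iterate_add_apply, rot_four]; exact ih

theorem vec_rotP (p : Pt) : vec (rotP p) = rot (vec p) := by
  simp only [vec, rotP, Fin.val_add, rot_iter_mod]
  rw [show ((1 : Fin 4) : ℕ) = 1 from rfl, Function.iterate_succ_apply']

/-- The entries of all representatives are in range. -/
noncomputable def entriesOk (i : ℕ) : Bool :=
  (Nat.rec true (fun k r => r && Nat.blt (posOf i k) 56) 16 : Bool) &&
    decide ((Nat.rec 0 (fun k acc => acc + (valOf i k).natAbs) 16 : ℕ) ≤ 16)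

theorem entries_c0 : allPow 4060 entriesOk 11 0 = true := by decide +kernel

theorem entries_c1 : allPow 4060 entriesOk 11 2048 = true := by decide +kernel

theorem entries_all : allBelow 12 4060 entriesOk = true :=
  allBelow_of_upto (hi := 4096)
    (Upto.trans ((Upto.of_pow entries_c0 (Nat.le_refl _)) : Upto _ _ 0 2048)
      ((Upto.of_pow entries_c1 (Nat.le_refl _)) : Upto _ _ 2048 4096)) (by decide) (by decide)

theorem posOf_lt (i : Fin 4060) : ∀ k < 16, posOf i k < 56 := by
  have h := allBelow_spec entries_all i i.2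
  simp only [entriesOk, Bool.and_eq_true] at h
  have key : ∀ m, (Nat.rec true (fun k r => r && Nat.blt (posOf i k) 56) m : Bool) = true →
      ∀ k < m, posOf i k < 56 := by
    intro m
    induction m with
    | zero => intro _ k hk; omega
    | succ m ih =>
        intro hm k hk
        have hm' : (Nat.rec true (fun k r => r && Nat.blt (posOf i k) 56) m : Bool) = true ∧
            Nat.blt (posOf i m) 56 = true := by simpa using hm
        rcases Nat.lt_succ_iff_lt_or_eq.1 hk with hk | rfl
        · exact ih hm'.1 k hk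
        · simpa [Nat.blt_eq] using hm'.2
  exact key 16 h.1

theorem abs_vecF_le (i : Fin 4060) : ∑ c, |vecF i c| ≤ 16 := by
  have h := allBelow_spec entries_all i i.2
  simp only [entriesOk, Bool.and_eq_true, decide_eq_true_eq] at h
  have hs : ∀ m, ((Nat.rec 0 (fun k acc => acc + (valOf i k).natAbs) m : ℕ) : ℤ) =
      ∑ k ∈ Finset.range m, |valOf i k| := by
    intro m
    induction m with
    | zero => rfl
    | succ m ih => rw [Finset.sum_range_succ, ← ih]; simp
  calc ∑ c, |vecF i c| ≤ ∑ c : Fin 56, ∑ k ∈ Finset.range 16, |if posOf i k = c.1 then valOf i k else 0| :=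
        Finset.sum_le_sum fun c _ => Finset.abs_sum_le_sum_abs _ _
    _ = ∑ k ∈ Finset.range 16, |valOf i k| := by
        rw [Finset.sum_comm]
        refine Finset.sum_congr rfl fun k hk => ?_
        rw [Finset.sum_eq_single (⟨posOf i k, posOf_lt i k (Finset.mem_range.1 hk)⟩ : Fin 56)]
        · rw [if_pos rfl]
        · intro c _ hc
          rw [if_neg fun h => hc (Fin.ext h.symm), abs_zero]
        · intro h; exact absurd (Finset.mem_univ _) h
    _ ≤ 16 := by rw [← hs]; exact_mod_cast h.2

theorem sum_abs_rot (f : Fin 56 → ℤ) : ∑ c, |rot f c| = ∑ c, |f c| := by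
  refine Finset.sum_bij' (fun c _ => pcoord c) (fun c _ => pcoord c) (fun c _ => Finset.mem_univ _)
    (fun c _ => Finset.mem_univ _) (fun c _ => pcoord_pcoord c) (fun c _ => pcoord_pcoord c)
    fun c _ => ?_
  simp only [rot]
  split <;> simp [abs_neg]

theorem sum_abs_vec (p : Pt) : ∑ c, |vec p c| ≤ 16 := by
  have : ∀ e, ∑ c, |rot^[e] (vecF p.1.1) c| = ∑ c, |vecF p.1.1 c| := by
    intro e
    induction e with
    | zero => rfl
    | succ e ih => rw [Function.iterate_succ_apply', sum_abs_rot, ih]
  exact (this p.2.1).trans_le (abs_vecF_le p.1)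

theorem abs_vec_le (p : Pt) (c : Fin 56) : |vec p c| ≤ 16 :=
  (Finset.single_le_sum (fun d _ => abs_nonneg (vec p d)) (Finset.mem_univ c)).trans (sum_abs_vec p)

/-- The packing weights. -/
def powW (c : Fin 56) : ℤ := 512 ^ c.1

/-- Packed coordinates. -/
def enc (f : Fin 56 → ℤ) : ℤ := lin powW f

theorem enc_inj_aux : ∀ (n : ℕ) (f g : Fin n → ℤ), (∀ c, |f c - g c| < 512) →
    (∑ c, f c * (512 : ℤ) ^ c.1) = ∑ c, g c * (512 : ℤ) ^ c.1 → f = g
  | 0, f, g, _, _ => funext fun c => c.elim0
  | n + 1, f, g, hb, h => by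
      rw [Fin.sum_univ_succ, Fin.sum_univ_succ] at h
      simp only [Fin.val_zero, pow_zero, mul_one, Fin.val_succ, pow_succ', ← mul_assoc,
        mul_comm _ (512 : ℤ)] at h
      simp only [mul_assoc, ← Finset.mul_sum] at h
      have h0 : f 0 = g 0 := by
        have := abs_lt.1 (hb 0)
        omega
      have := enc_inj_aux n (fun c => f c.succ) (fun c => g c.succ) (fun c => hb _) (by omega)
      funext c
      refine Fin.cases h0 (fun c => ?_) c
      exact congrFun this c

theorem enc_inj {f g : Fin 56 → ℤ} (hb : ∀ c, |f c - g c| < 512) (h : enc f = enc g) : f = g :=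
  enc_inj_aux 56 f g hb h

/-- The packing weights pulled back along the phases. -/
noncomputable def powPack (e : ℕ) : ℕ :=
  bif Nat.beq e 0 then Data.pow0 else bif Nat.beq e 1 then Data.pow1 else
    bif Nat.beq e 2 then Data.pow2 else Data.pow3

theorem powPack_ok : ∀ (e : Fin 4) (c : Fin 56),
    wAt (powPack e.1) 512 c.1 = rotT^[e.1] powW c := by
  decide +kernel

/-- Packed coordinates of a point, in the kernel. -/
noncomputable def encP (i e : ℕ) : ℤ := linK i (powPack e) 512

theorem enc_vec (p : Pt) : enc (vec p) = encP p.1.1 p.2.1 := by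
  rw [enc, vec, lin_rot_iter,
    show rotT^[p.2.1] powW = fun c : Fin 56 => wAt (powPack p.2.1) 512 c.1 from
      funext fun c => (powPack_ok p.2 c).symm,
    lin_vecF _ _ (posOf_lt p.1), encP]

/-- The code of the `q`-th point. -/
noncomputable def codeOf (q : ℕ) : ℤ := encP (Nat.shiftRight q 2) (Nat.land q 3)

/-- Sortedness step. -/
noncomputable def sortStep (m : ℕ) : Bool :=
  Nat.blt (tab Data.sorted 14 m) 16240 &&
    decide (codeOf (tab Data.sorted 14 m) < codeOf (tab Data.sorted 14 (Nat.add m 1)))

theorem sorted_c0 : allPow 16239 sortStep 11 0 = true := by decide +kernel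

theorem sorted_c1 : allPow 16239 sortStep 11 2048 = true := by decide +kernel

theorem sorted_c2 : allPow 16239 sortStep 11 4096 = true := by decide +kernel

theorem sorted_c3 : allPow 16239 sortStep 11 6144 = true := by decide +kernel

theorem sorted_c4 : allPow 16239 sortStep 11 8192 = true := by decide +kernel

theorem sorted_c5 : allPow 16239 sortStep 11 10240 = true := by decide +kernel

theorem sorted_c6 : allPow 16239 sortStep 11 12288 = true := by decide +kernel

theorem sorted_c7 : allPow 16239 sortStep 11 14336 = true := by decide +kernel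

theorem sorted_ok : allBelow 14 16239 sortStep = true ∧
    Nat.blt (tab Data.sorted 14 16239) 16240 = true :=
  ⟨allBelow_of_upto (hi := 16384) (Upto.trans ((Upto.of_pow sorted_c0 (Nat.le_refl _)) : Upto _ _ 0 2048)
    (Upto.trans ((Upto.of_pow sorted_c1 (Nat.le_refl _)) : Upto _ _ 2048 4096)
    (Upto.trans ((Upto.of_pow sorted_c2 (Nat.le_refl _)) : Upto _ _ 4096 6144)
    (Upto.trans ((Upto.of_pow sorted_c3 (Nat.le_refl _)) : Upto _ _ 6144 8192)
    (Upto.trans ((Upto.of_pow sorted_c4 (Nat.le_refl _)) : Upto _ _ 8192 10240)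
    (Upto.trans ((Upto.of_pow sorted_c5 (Nat.le_refl _)) : Upto _ _ 10240 12288)
    (Upto.trans ((Upto.of_pow sorted_c6 (Nat.le_refl _)) : Upto _ _ 12288 14336)
    ((Upto.of_pow sorted_c7 (Nat.le_refl _)) : Upto _ _ 14336 16384)))))))) (by decide) (by decide), by decide +kernel⟩

theorem strictMono_codes :
    StrictMono fun m : Fin 16240 => codeOf (tab Data.sorted 14 m) := by
  refine (Fin.strictMono_iff_lt_succ (f := fun m : Fin (16239 + 1) =>
    codeOf (tab Data.sorted 14 m))).2 fun m => ?_
  have := allBelow_spec sorted_ok.1 m.1 m.2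
  simp only [sortStep, Bool.and_eq_true, decide_eq_true_eq] at this
  exact this.2

theorem sorted_lt (m : Fin 16240) : tab Data.sorted 14 m < 16240 := by
  rcases Nat.lt_or_ge m.1 16239 with h | h
  · have := allBelow_spec sorted_ok.1 m.1 h
    simp only [sortStep, Bool.and_eq_true] at this
    simpa [Nat.blt_eq] using this.1
  · rw [show m.1 = 16239 by omega]
    simpa [Nat.blt_eq] using sorted_ok.2

/-- Numbering of the points. -/
def ptNum (p : Pt) : Fin 16240 := ⟨4 * p.1.1 + p.2.1, by omega⟩

theorem ptNum_injective : Function.Injective ptNum := by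
  intro p q h
  simp only [ptNum, Fin.mk.injEq] at h
  exact Prod.ext (Fin.ext (by omega)) (Fin.ext (by omega))

theorem codeOf_ptNum (p : Pt) : codeOf (ptNum p).1 = encP p.1.1 p.2.1 := by
  have h1 : Nat.shiftRight (ptNum p).1 2 = p.1.1 := by
    show (4 * p.1.1 + p.2.1) >>> 2 = _
    rw [Nat.shiftRight_eq_div_pow]; omega
  have h2 : Nat.land (ptNum p).1 3 = p.2.1 := by
    show (4 * p.1.1 + p.2.1) &&& 3 = _
    rw [show (3 : ℕ) = 2 ^ 2 - 1 from rfl, Nat.and_two_pow_sub_one_eq_mod]; omega
  rw [codeOf, h1, h2]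

theorem vec_injective : Function.Injective vec := by
  intro p q h
  let s : Fin 16240 → Fin 16240 := fun m => ⟨tab Data.sorted 14 m, sorted_lt m⟩
  have hs : Function.Bijective s := by
    refine Finite.injective_iff_bijective.1 fun a b hab => strictMono_codes.injective ?_
    show codeOf (s a).1 = codeOf (s b).1
    rw [hab]
  obtain ⟨a, ha⟩ := hs.2 (ptNum p)
  obtain ⟨b, hb⟩ := hs.2 (ptNum q)
  have hcode : codeOf (s a).1 = codeOf (s b).1 := by
    rw [ha, hb, codeOf_ptNum, codeOf_ptNum, ← enc_vec, ← enc_vec, h]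
  have hab : a = b := strictMono_codes.injective hcode
  subst hab
  exact ptNum_injective (ha.symm.trans hb)

end CfsgLib.RuPerm
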